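import Cfsg.Agent.H19.E3
import Cfsg.Agent.S0344
import Cfsg.Agent.H12.Transport

/-! Sylow subgroups that are the centralizers of each of their non-identity elements -/

set_option autoImplicit false

namespace Cfsg.Agent.H19

open Cfsg MulAction Subgroup
open scoped MatrixGroups

variable {G : Type*} [Group G] {p : ℕ}

def CCS (P : Sylow p G) : Prop := ∀ y ∈ (P : Subgroup G), y ≠ 1 → centralizer ({y} : Set G) = P

def pel (p : ℕ) (G : Type*) [Group G] : Set G := {g | g ≠ 1 ∧ ∃ k, g ^ p ^ k = 1}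

theorem disjoint_pel {q : ℕ} (h : p.Coprime q) : Disjoint (pel p G) (pel q G) :=
  Set.disjoint_left.mpr fun _ ⟨h1, k, h2⟩ ⟨_, l, h3⟩ => h1 (orderOf_eq_one_iff.mp
    (Nat.eq_one_of_dvd_coprimes (h.pow k l) (orderOf_dvd_of_pow_eq_one h2)
      (orderOf_dvd_of_pow_eq_one h3)))

variable [hp : Fact p.Prime] [Finite G]

theorem ccs_of_comm {P : Sylow p G} (hc : IsMulCommutative (P : Subgroup G))
    (h : ∀ y ∈ (P : Subgroup G), y ≠ 1 → ∀ z, Commute z y → (orderOf z).Prime → orderOf z = p) :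
    CCS P := fun y hy h1 => by
  refine P.is_maximal' (IsPGroup.iff_card.mpr ⟨_, Nat.eq_prime_pow_of_unique_prime_dvd
    Nat.card_pos.ne' fun {q} hq hd => ?_⟩) fun a ha => mem_centralizer_singleton_iff.mpr
      (congrArg Subtype.val (hc.1.1 ⟨a, ha⟩ ⟨y, hy⟩))
  haveI := Fact.mk hq
  obtain ⟨z, hz⟩ := exists_prime_orderOf_dvd_card' q hd
  rw [← orderOf_coe] at hz
  exact hz ▸ h y hy h1 z (mem_centralizer_singleton_iff.mp z.2) (hz ▸ hq)

namespace CCS
variable {P : Sylow p G} (h : CCS P)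
include h

theorem all (Q : Sylow p G) : CCS Q := fun y hy h1 => by
  obtain ⟨g, rfl⟩ := exists_smul_eq G P Q
  ext a
  rw [mem_smul_sylow] at hy ⊢
  rw [← h _ hy fun e => h1 (conj_eq_one_iff.mp (by rwa [inv_inv])), mem_centralizer_singleton_iff,
    mem_centralizer_singleton_iff]
  refine ⟨fun e => ?_, fun e => ?_⟩
  · simp only [mul_assoc, mul_inv_cancel_left]; rw [← mul_assoc a, e, mul_assoc]
  · simpa [mul_assoc] using congrArg (g * · * g⁻¹) e

theorem eq_of_mem {Q R : Sylow p G} {y : G} (h1 : y ≠ 1) (hQ : y ∈ (Q : Subgroup G))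
    (hR : y ∈ (R : Subgroup G)) : Q = R :=
  Sylow.ext ((h.all Q y hQ h1).symm.trans (h.all R y hR h1))

theorem eq_one_of_smul {Q R : Sylow p G} (hQ : Q ≠ R) {y : G} (hy : y ∈ (Q : Subgroup G))
    (e : y • R = R) : y = 1 := by
  obtain ⟨k, hk⟩ := Q.isPGroup' ⟨y, hy⟩
  by_contra h1
  exact hQ (h.eq_of_mem h1 hy ((smul_sylow_eq_iff_mem (congrArg Subtype.val hk) R).mp e))

theorem card_dvd : Nat.card P ∣ Nat.card (Sylow p G) - 1 := by
  have h1 := dvd_ncard_of_invariant' (H := P) (Nat.card P) {Q : Sylow p G | P ≠ Q}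
    (fun g Q hQ e => hQ (by
      rw [← inv_smul_eq_iff] at e
      exact e ▸ (smul_sylow_of_mem P (g⁻¹).2).symm)) fun Q hQ => by
      rw [(eq_bot_iff_forall (stabilizer P Q)).mpr fun y hy =>
        Subtype.ext (h.eq_one_of_smul hQ y.2 hy), index_bot]
  have h2 : {Q : Sylow p G | P ≠ Q} = Set.univ \ {P} := by ext; simp [eq_comm]
  rwa [h2, Set.ncard_diff_singleton_of_mem (Set.mem_univ _), Set.ncard_univ] at h1

theorem ncard_pel : (pel p G).ncard = Nat.card (Sylow p G) * (Nat.card P - 1) := by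
  haveI := Fintype.ofFinite (Sylow p G)
  have h1 : Nat.card (Σ Q : Sylow p G, {y : (Q : Subgroup G) // y ≠ 1}) = (pel p G).ncard := by
    refine Nat.card_congr (Equiv.ofBijective (fun a => ⟨a.2.1.1, fun e => a.2.2 (Subtype.ext e),
      (a.1.isPGroup' a.2.1).imp fun _ e => congrArg Subtype.val e⟩) ⟨?_, ?_⟩)
    · rintro ⟨Q, ⟨y, h1⟩, h2⟩ ⟨R, ⟨z, h3⟩, h4⟩ e
      obtain rfl : y = z := congrArg Subtype.val e
      obtain rfl := h.eq_of_mem (fun e => h2 (Subtype.ext e)) h1 h3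
      rfl
    · rintro ⟨y, h1, k, h2⟩
      obtain ⟨Q, hQ⟩ := (IsPGroup.of_card (G := zpowers y) (n := ((Nat.dvd_prime_pow hp.out).mp
        (orderOf_dvd_of_pow_eq_one h2)).choose) (by
          rw [Nat.card_zpowers]
          exact ((Nat.dvd_prime_pow hp.out).mp (orderOf_dvd_of_pow_eq_one h2)).choose_spec.2)).exists_le_sylow
      exact ⟨⟨Q, ⟨y, hQ (mem_zpowers y)⟩, fun e => h1 (congrArg Subtype.val e)⟩, rfl⟩
  rw [← h1, Nat.card_sigma, Finset.sum_congr rfl fun Q _ => (show _ = Nat.card P - 1 by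
    rw [card_sylow_eq P Q, ← Set.ncard_univ (Q : Subgroup G), ← Set.ncard_diff_singleton_of_mem (Set.mem_univ 1),
      ← Nat.card_coe_set_eq]
    exact Nat.card_congr (Equiv.subtypeEquivRight (by simp)))]
  simp

theorem exists_smul (hn : Nat.card (Sylow p G) = Nat.card P + 1) {Q R S : Sylow p G} (h1 : Q ≠ R)
    (h2 : Q ≠ S) : ∃ y ∈ (Q : Subgroup G), y • R = S := by
  have h3 : orbit (Q : Subgroup G) R = Set.univ \ {Q} := by
    refine Set.eq_of_subset_of_ncard_le ?_ (le_of_eq ?_)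
    · rintro _ ⟨g, rfl⟩
      refine ⟨trivial, fun e => h1 ?_⟩
      exact (smul_sylow_of_mem Q (g⁻¹).2).symm.trans (inv_smul_eq_iff.mpr (Eq.symm e))
    · rw [Set.ncard_diff_singleton_of_mem (Set.mem_univ _), Set.ncard_univ, ncard_orbit_eq_index,
        (eq_bot_iff_forall (stabilizer Q R)).mpr fun y hy =>
          Subtype.ext (h.eq_one_of_smul h1 y.2 hy), index_bot, hn, card_sylow_eq P Q]
      rfl
  obtain ⟨g, hg⟩ : S ∈ orbit (Q : Subgroup G) R := h3 ▸ ⟨trivial, h2.symm⟩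
  exact ⟨g, g.2, hg⟩

theorem iso_PSL [IsSimpleGroup G] (hc : ¬ IsMulCommutative G) {m : ℕ}
    (hn : Nat.card (Sylow p G) = Nat.card P + 1)
    (hG : Nat.card G = (Nat.card P + 1) * Nat.card P * (2 * m)) :
    ∃ (F : Type) (_ : Field F) (_ : Fintype F), 3 < Fintype.card F ∧ Nonempty (G ≃* PSL(2, F)) := by
  have h0 : 0 < Nat.card P := Nat.card_pos
  haveI : Nontrivial (Sylow p G) := Finite.one_lt_card_iff_nontrivial.mp (by omega)
  obtain ⟨Q, hQ⟩ := exists_ne P
  have h1 : Nat.card (stabilizer G P ⊓ stabilizer G Q : Subgroup G) = 2 * m := by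
    have h2 := (stabilizer G P).index_mul_card
    rw [index_stabilizer_of_transitive, hn, hG, mul_assoc, Nat.mul_right_inj (by omega)] at h2
    have h3 : orbit (stabilizer G P) Q = Set.univ \ {P} := by
      ext R
      refine ⟨?_, fun e => ?_⟩
      · rintro ⟨g, rfl⟩
        exact ⟨trivial, fun e => hQ ((inv_smul_eq_iff.mpr (Eq.symm e)).symm.trans (g⁻¹).2)⟩
      · obtain ⟨y, h3, h4⟩ := h.exists_smul hn hQ.symm (Ne.symm e.2)
        exact ⟨⟨y, smul_sylow_of_mem P h3⟩, h4⟩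
    have h4 := (stabilizer (stabilizer G P) Q).index_mul_card
    rw [← ncard_orbit_eq_index, h3, Set.ncard_diff_singleton_of_mem (Set.mem_univ _),
      Set.ncard_univ, hn, h2, Nat.add_sub_cancel, Nat.mul_right_inj h0.ne'] at h4
    rw [← h4, ← Nat.card_congr (subgroupOfEquivOfLe inf_le_left).toEquiv, inf_subgroupOf_left]
    rfl
  obtain ⟨g, hg⟩ := exists_prime_orderOf_dvd_card' (G := (stabilizer G P ⊓ stabilizer G Q :
    Subgroup G)) 2 ⟨m, h1⟩
  have hg1 : g.1 ≠ 1 := fun e => by rw [← orderOf_coe, e] at hg; simp at hg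
  refine S0344.result (Ω := Sylow p G) ⟨⟨fun {a b} e => ?_⟩, ?_, ?_, ⟨g, hg1, P, Q, hQ.symm,
    g.2.1, g.2.2⟩, fun N hN hT => ?_⟩ hQ.symm (h1 ▸ even_two_mul m)
  · obtain ⟨c, hc⟩ := exists_smul_eq G P Q
    exact toPermHom_injective_of_simple ⟨c, P, hc ▸ hQ⟩ (Equiv.ext e)
  · refine is_two_pretransitive_iff.mpr fun {a b c d} h2 h3 => ?_
    obtain ⟨x, rfl⟩ := exists_smul_eq G a c
    obtain ⟨y, h4, h5⟩ := h.exists_smul hn ((smul_left_cancel_iff x).not.mpr h2) h3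
    exact ⟨y * x, by rw [mul_smul, smul_sylow_of_mem _ h4], by rw [mul_smul, h5]⟩
  · intro x a b c h2 h3 h4 h5 h6 h7
    obtain ⟨y, h8, rfl⟩ := h.exists_smul hn h2 h4
    have h9 : x * y * x⁻¹ ∈ (a : Subgroup G) := by
      rw [← h5, mem_smul_sylow]; simpa [mul_assoc] using h8
    have h10 := h.eq_one_of_smul h2 (mul_mem (inv_mem h8) h9) (by
      rw [mul_smul, mul_smul, mul_smul, inv_smul_eq_iff.mpr h6.symm, h7, inv_smul_smul])
    rw [inv_mul_eq_one, eq_mul_inv_iff_mul_eq] at h10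
    exact h.eq_one_of_smul h2 (h.all a y h8 (fun e => h3 (by rw [e, one_smul])) ▸
      mem_centralizer_singleton_iff.mpr h10.symm) h6
  · rcases hN.eq_bot_or_eq_top with rfl | rfl
    · obtain ⟨c, hc⟩ := hT.exists_smul_eq P Q
      rw [Subsingleton.elim c 1, one_smul] at hc
      exact absurd hc hQ.symm
    · exact ⟨P, fun e => hg1 (congrArg Subtype.val ((eq_bot_iff_forall _).mp e ⟨g, trivial⟩ g.2.1))⟩

end CCS

end Cfsg.Agent.H19
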