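import Cfsg.Agent.H19.BTc
import Cfsg.Agent.H19.Syl
import Cfsg.Agent.H19.Count
import Cfsg.Agent.H6.ZStar
import Cfsg.Agent.H6.BS
import Cfsg.Agent.GW.StepC
import Cfsg.Agent.H11.QD2
import Cfsg.Agent.H26.Taussky
import Cfsg.Agent.S3178
import Cfsg.Agent.H12.KleinDih

/-! Simple groups whose Sylow 2-subgroups have a cyclic subgroup of index two -/

set_option autoImplicit false

namespace Cfsg.Agent.H19

open Cfsg Subgroup Cfsg.Agent.H11
open scoped MatrixGroups

variable {G : Type*} [Group G] [Finite G]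

theorem even_card_of_simple [IsSimpleGroup G] (hc : ¬ IsMulCommutative G) : 2 ∣ Nat.card G := by
  by_contra h
  have := FT.solvable_of_odd (G := G) (Nat.odd_iff.mpr (by omega))
  exact hc ⟨⟨IsSimpleGroup.comm_iff_isSolvable.mpr this⟩⟩

theorem core_two_bot [IsSimpleGroup G] (hc : ¬ IsMulCommutative G) : pPrimeCore 2 G = ⊥ :=
  H6.pPrimeCore_two_eq_bot fun N hN ho => (hN.eq_bot_or_eq_top).resolve_right fun e => by
    rw [e, card_top] at ho
    exact (Nat.not_even_iff_odd.mpr ho) (even_iff_two_dvd.mpr (even_card_of_simple hc))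

theorem exists_conj_ne [IsSimpleGroup G] (hc : ¬ IsMulCommutative G) (P : Sylow 2 G) {u : G}
    (hu : orderOf u = 2) (huP : u ∈ (P : Subgroup G)) :
    ∃ g, g * u * g⁻¹ ∈ (P : Subgroup G) ∧ g * u * g⁻¹ ≠ u := by
  by_contra h
  push Not at h
  have := H6.mem_center_of_isolated (core_two_bot hc) hu (H6.isolated_of_sylow P hu huP h)
  rw [center_eq_bot_of_simple hc, mem_bot] at this
  simp [this] at hu

theorem exists_norm_ne [IsSimpleGroup G] (hc : ¬ IsMulCommutative G) (P : Sylow 2 G)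
    (hP : IsMulCommutative (P : Subgroup G)) {u : G} (hu : orderOf u = 2)
    (huP : u ∈ (P : Subgroup G)) :
    ∃ n ∈ normalizer ((P : Subgroup G) : Set G), n * u * n⁻¹ ≠ u := by
  obtain ⟨g, h1, h2⟩ := exists_conj_ne hc P hu huP
  obtain ⟨n, hn, e⟩ := P.conj_eq_normalizer_conj_of_mem u g⁻¹ huP (by rw [inv_inv]; exact h1)
  exact ⟨n⁻¹, inv_mem hn, by rw [inv_inv, ← e, inv_inv]; exact h2⟩

theorem not_compl_of_simple [IsSimpleGroup G] (hc : ¬ IsMulCommutative G) {p : ℕ} [Fact p.Prime]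
    (hp : p ∣ Nat.card G) : ¬ HasNormalPComplement p G := by
  rintro ⟨P, N, hN, h⟩
  rcases hN.eq_bot_or_eq_top with rfl | rfl
  · have := h.sup_eq_top
    rw [bot_sup_eq] at this
    exact not_isPGroup_of_simple hc p ((this ▸ P.isPGroup').of_equiv topEquiv)
  · have := h.disjoint
    rw [top_disjoint] at this
    exact P.ne_bot_of_dvd_card hp this

theorem not_cyclic_sylow_two [IsSimpleGroup G] (hc : ¬ IsMulCommutative G) (P : Sylow 2 G) :
    ¬ IsCyclic (P : Subgroup G) := fun h =>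
  not_normalizer_le_centralizer hc 2 (even_card_of_simple hc) P
    (h.normalizer_le_centralizer ((Nat.minFac_eq_two_iff _).mpr (even_card_of_simple hc)))

theorem klein_of_card_four {A : Type*} [Group A] [Finite A] (h : Nat.card A = 4)
    (hn : ¬ IsCyclic A) : IsKleinFour A := by
  have h1 : ∀ a : A, a ^ 2 = 1 := fun a => by
    have h2 : orderOf a ∣ 2 ^ 2 := (by norm_num : 2 ^ 2 = 4) ▸ h ▸ orderOf_dvd_natCard a
    obtain ⟨k, hk, e⟩ := (Nat.dvd_prime_pow Nat.prime_two).mp h2
    interval_cases k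
    · rw [orderOf_eq_one_iff.mp e, one_pow]
    · exact orderOf_dvd_iff_pow_eq_one.mp (e ▸ dvd_rfl)
    · exact absurd (isCyclic_of_orderOf_eq_card a (by rw [e, h]; norm_num)) hn
  haveI : Nontrivial A := Finite.one_lt_card_iff_nontrivial.mp (by omega)
  exact ⟨h, (Monoid.exponent_eq_prime_iff Nat.prime_two).mpr fun g hg => orderOf_eq_prime (h1 g) hg⟩

theorem conc_of_card_four [IsSimpleGroup G] (hc : ¬ IsMulCommutative G) (P : Sylow 2 G)
    (h : Nat.card (P : Subgroup G) = 4) : GW.Conc G :=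
  GW.gw_simple hc ⟨P, 2, le_rfl,
    nonempty_dihedral_two_of_klein (klein_of_card_four h (not_cyclic_sylow_two hc P))⟩

/-- Sylow 2-subgroup with a cyclic subgroup of index two -/
theorem cyc_two_cases [IsSimpleGroup G] (hc : ¬ IsMulCommutative G) (P : Sylow 2 G) {a : G}
    (ha : a ∈ (P : Subgroup G)) (h : Nat.card (P : Subgroup G) = 2 * orderOf a) :
    GW.Conc G ∨ ∃ n X Y, 3 ≤ n ∧ MC (P : Subgroup G) n (hh n) 0 X Y ∧
      Nat.card (P : Subgroup G) = 2 ^ (n + 1) ∧ IsConj (X (qq n)) (Y 1) := by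
  obtain ⟨k, hk⟩ := P.isPGroup'.exists_card_eq
  have ho : orderOf (⟨a, ha⟩ : (P : Subgroup G)) = orderOf a := (orderOf_mk _ _)
  have hi : (zpowers (⟨a, ha⟩ : (P : Subgroup G))).index = 2 := by
    have := (zpowers (⟨a, ha⟩ : (P : Subgroup G))).index_mul_card
    rw [Nat.card_zpowers, ho, h] at this
    exact Nat.eq_of_mul_eq_mul_right (orderOf_pos a) this
  have hnc := not_cyclic_sylow_two hc P
  rcases k with _ | _ | _ | m
  · omega
  · exact absurd (isCyclic_of_prime_card (p := 2) hk) hnc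
  · exact Or.inl (conc_of_card_four hc P hk)
  have hoa : orderOf a = 2 ^ (m + 2) := by rw [hk, pow_succ] at h; omega
  by_cases hP : IsMulCommutative (P : Subgroup G)
  · have hu : orderOf (a ^ 2 ^ (m + 1)) = 2 := by
      rw [orderOf_pow_of_dvd (by positivity) (hoa ▸ pow_dvd_pow 2 (by omega)), hoa, pow_succ,
        Nat.mul_div_cancel_left _ (by positivity)]
    obtain ⟨n, hn, e⟩ := exists_norm_ne hc P hP hu (pow_mem ha _)
    refine absurd (H12.eq_pow_half_of_mem_zpowers (by rw [hoa]; ring) ?_ ?_) e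
    · have h1 : n * a * n⁻¹ ∈ (P : Subgroup G) := (mem_normalizer_iff.mp hn a).mp ha
      have h2 := mem_map_of_mem (P : Subgroup G).subtype (sq_mem_of_index_two hi ⟨_, h1⟩)
      rw [MonoidHom.map_zpowers] at h2
      rw [← conj_pow, pow_succ', pow_mul]
      exact pow_mem h2 _
    · exact Eq.trans (SemiconjBy.orderOf_eq n (by simp [SemiconjBy])).symm hu
  have hna : commutator (P : Subgroup G) ≠ ⊥ := fun e => hP ⟨⟨fun a b =>
    commutatorElement_eq_one_iff_mul_comm.1 (mem_bot.1 (e ▸ commutator_mem_commutator trivial trivial))⟩⟩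
  rcases H26.exists_MC_or_modular (m := m + 2) (by omega) hk _ inferInstance hi hna with
    ⟨e, f, X, Y, hM, hef⟩ | ⟨h3, b, c, hb, hcb, hc2, hr⟩
  · rcases hM.he with rfl | ⟨h3, rfl⟩
    · rcases hM.hf with rfl | rfl
      · exact Or.inl (GW.gw_simple hc ⟨P, _, le_trans (by norm_num) (Nat.pow_le_pow_right two_pos
          (show 1 ≤ m + 2 by omega)), H26.MC_dihedral_equiv hM⟩)
      · obtain ⟨φ⟩ := H26.MC_quaternion_equiv hM
        have := H6.brauer_suzuki P (k := m + 2 - 1) (by omega) φ (core_two_bot hc)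
        rw [center_eq_bot_of_simple hc, card_bot] at this
        omega
    · obtain rfl : f = 0 := hef.resolve_left fun e => by
        have := hM.orderOf_z
        rw [e, hM.X_zero, orderOf_one] at this
        omega
      obtain ⟨X, Y, hM⟩ := hM.of_equiv (MulEquiv.refl _)
      refine Or.inr ⟨_, X, Y, h3, hM, hk, by_contra fun hn => ?_⟩
      obtain ⟨K, hK, -, hi, -⟩ := hM.qd_K_of_not_uv hn
      rcases hK.eq_bot_or_eq_top with rfl | rfl
      · rw [index_bot] at hi
        have := Nat.le_of_dvd Nat.card_pos (card_subgroup_dvd_card (P : Subgroup G))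
        rw [hk, hi, pow_succ, pow_succ] at this
        have := Nat.pos_of_ne_zero (pow_ne_zero (m + 1) two_ne_zero)
        omega
      · simp at hi
  · refine absurd (S3178.result P (m + 2) h3 hk b c b.2 c.2 ((orderOf_coe b).trans hb)
      ((orderOf_coe c).trans (orderOf_eq_prime hc2 fun e => hcb (e ▸ one_mem _))) ?_)
      (not_compl_of_simple hc (even_card_of_simple hc))
    have := congrArg Subtype.val hr
    simpa [add_comm] using this

theorem conc_of_eight [IsSimpleGroup G] (hc : ¬ IsMulCommutative G) (P : Sylow 2 G)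
    (h : Nat.card (P : Subgroup G) = 8) (hP : ∃ a ∈ (P : Subgroup G), a ^ 2 ≠ 1) : GW.Conc G := by
  obtain ⟨a, ha, h2⟩ := hP
  have h1 : orderOf a ∣ 2 ^ 3 := by
    rw [show 2 ^ 3 = 8 by norm_num, ← h, ← orderOf_mk a ha]; exact orderOf_dvd_natCard _
  obtain ⟨k, hk, e⟩ := (Nat.dvd_prime_pow Nat.prime_two).mp h1
  interval_cases k
  · exact absurd (by rw [orderOf_eq_one_iff.mp e, one_pow]) h2
  · exact absurd (orderOf_dvd_iff_pow_eq_one.mp (e ▸ dvd_rfl)) h2
  · rcases cyc_two_cases hc P ha (by rw [h, e]; norm_num) with h3 | ⟨n, X, Y, h3, -, h4, -⟩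
    · exact h3
    · have := Nat.pow_le_pow_right two_pos (show 4 ≤ n + 1 by omega)
      omega
  · exact absurd (isCyclic_of_orderOf_eq_card (⟨a, ha⟩ : (P : Subgroup G))
      (by rw [orderOf_mk, e, h]; norm_num)) (not_cyclic_sylow_two hc P)

theorem seven_dvd_of_eight [IsSimpleGroup G] (hc : ¬ IsMulCommutative G) (P : Sylow 2 G)
    (h : Nat.card (P : Subgroup G) = 8) (hP : ∀ a ∈ (P : Subgroup G), a ^ 2 = 1) :
    7 ∣ Nat.card (normalizer ((P : Subgroup G) : Set G)) := by
  have hA : IsMulCommutative (P : Subgroup G) := ⟨⟨fun a b => by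
    have h1 : ∀ a : (P : Subgroup G), a⁻¹ = a := fun a =>
      inv_eq_of_mul_eq_one_right (by rw [← sq]; exact Subtype.ext (hP a a.2))
    rw [← h1 (a * b), mul_inv_rev, h1, h1]⟩⟩
  set N := normalizer ((P : Subgroup G) : Set G) with hN
  letI : MulAction N G := MulAction.compHom G ((MulAut.conj (G := G)).comp N.subtype)
  have hs : ∀ (n : N) (x : G), n • x = n * x * (n : G)⁻¹ := fun _ _ => rfl
  have hS : ((P : Set G) \ {1}).ncard = 7 := by
    rw [Set.ncard_diff_singleton_of_mem (s := (P : Set G)) P.one_mem, ← Nat.card_coe_set_eq]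
    exact congrArg (· - 1) h
  have hinv : ∀ (n : N), ∀ x ∈ (P : Set G) \ {1}, n • x ∈ (P : Set G) \ {1} := fun n x hx =>
    ⟨(mem_normalizer_iff.mp n.2 x).mp hx.1, fun e => hx.2 (by simpa [hs] using e)⟩
  have horb : ∀ x ∈ (P : Set G) \ {1}, MulAction.orbit N x ⊆ (P : Set G) \ {1} := by
    rintro x hx _ ⟨n, rfl⟩; exact hinv n x hx
  have hodd : ∀ x ∈ (P : Set G) \ {1}, ¬ 2 ∣ (MulAction.stabilizer N x).index ∧
      (MulAction.stabilizer N x).index ≠ 1 := fun x hx => by
    refine ⟨fun e => (P.subtype le_normalizer).not_dvd_index (e.trans (index_dvd_of_le ?_)), fun e => ?_⟩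
    · intro n hn
      have : (n : G) * x = x * n := congrArg Subtype.val (hA.1.1 ⟨n, hn⟩ ⟨x, hx.1⟩)
      rw [MulAction.mem_stabilizer_iff, hs, this, mul_inv_cancel_right]
    · obtain ⟨n, hn, e'⟩ := exists_norm_ne hc P hA (orderOf_eq_prime (hP x hx.1) hx.2) hx.1
      exact e' ((index_eq_one.mp e ▸ mem_top _ : (⟨n, hn⟩ : N) ∈ MulAction.stabilizer N x))
  by_contra h7
  by_cases h3 : ∀ x ∈ (P : Set G) \ {1}, 3 ∣ (MulAction.stabilizer N x).index
  · have := dvd_ncard_of_invariant' 3 _ hinv h3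
    omega
  push Not at h3
  obtain ⟨x, hx, h3⟩ := h3
  have h4 := Set.ncard_le_ncard (horb x hx)
  have h5 := Set.ncard_diff_add_ncard_of_subset (horb x hx)
  have h6 : (MulAction.stabilizer N x).index ≠ 7 := fun e => h7 (e ▸ index_dvd_card _)
  have := hodd x hx
  rw [ncard_orbit_eq_index] at h4 h5
  have h10 : (MulAction.stabilizer N x).index = 5 := by
    rw [hS] at h4
    generalize (MulAction.stabilizer N x).index = k at *
    interval_cases k <;> omega
  obtain ⟨y, hy⟩ : (((P : Set G) \ {1}) \ MulAction.orbit N x).Nonempty :=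
    Set.nonempty_of_ncard_ne_zero (by omega)
  have h8 : MulAction.orbit N y ⊆ ((P : Set G) \ {1}) \ MulAction.orbit N x := by
    rintro _ ⟨n, rfl⟩
    exact ⟨hinv n y hy.1, fun e => hy.2 (by simpa using smul_mem_orbit_of_mem (h := n⁻¹) e)⟩
  have h9 := Set.ncard_le_ncard h8
  have := hodd y hy.1
  rw [ncard_orbit_eq_index] at h9
  omega

theorem GW_card (h : GW.Conc G) : (∃ q, IsPrimePow q ∧ Odd q ∧ 3 < q ∧
    2 * Nat.card G = q * (q ^ 2 - 1)) ∨ Nat.card G = 2520 := by
  rcases h with ⟨F, _, _, h1, h2, e⟩ | ⟨⟨e⟩⟩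
  · refine Or.inl ⟨_, Fintype.isPrimePow_card_of_field (α := F), h1, h2, ?_⟩
    rw [← card_of_PSL rfl e, Nat.gcd_eq_left (by obtain ⟨k, hk⟩ := h1; omega)]
  · right
    rw [Nat.card_congr e.toEquiv, nat_card_alternatingGroup, Nat.card_eq_fintype_card,
      Fintype.card_fin]
    norm_num [Nat.factorial]

theorem psl2_orderOf_cases {F : Type*} [Field F] [Fintype F] (p : ℕ) [Fact p.Prime] [CharP F p]
    (g : PSL(2, F)) : g ^ p = 1 ∨
      orderOf g ∣ (Fintype.card F + 1) / Nat.gcd 2 (Fintype.card F - 1) ∨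
      orderOf g ∣ (Fintype.card F - 1) / Nat.gcd 2 (Fintype.card F - 1) := by
  obtain ⟨g, rfl⟩ := QuotientGroup.mk_surjective g
  by_cases h : g.1.trace ^ 2 = 4
  · left
    have key : ∀ g : SL(2, F), g.1.trace = 2 → g ^ p = 1 := fun g hg => by
      have h1 : (g.1 - 1) * (g.1 - 1) = 0 := by
        rw [sub_mul, mul_sub, mul_sub, H12.sl2_mul_self, hg, two_smul]; simp only [mul_one, one_mul]; abel
      have h2 : ∀ n : ℕ, g.1 ^ n = 1 + (n : F) • (g.1 - 1) := fun n => by
        induction n with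
        | zero => simp
        | succ n ih =>
          have : g.1 = 1 + (g.1 - 1) := by simp
          rw [pow_succ, ih]
          generalize g.1 - 1 = N at *
          rw [this, add_mul, mul_add, mul_add, smul_mul_assoc, smul_mul_assoc, h1]
          simp only [add_smul, mul_one, one_mul, smul_zero, Nat.cast_succ, one_smul]; abel
      exact Subtype.ext (by rw [Matrix.SpecialLinearGroup.coe_pow, h2]; simp)
    rcases sq_eq_sq_iff_eq_or_eq_neg.mp (h.trans (by norm_num : (4 : F) = 2 ^ 2)) with e | e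
    · rw [← QuotientGroup.mk_pow, key g e, QuotientGroup.mk_one]
    · rw [← H12.psl2_mk_neg, ← QuotientGroup.mk_pow, key (-g) (by simp [e]), QuotientGroup.mk_one]
  · right
    rw [H12.psl_orderOf_mk h]
    rcases H12.pow_eq_one_of_trace_ne h with h1 | h1
    · exact Or.inr (H12.div_gcd_dvd Fintype.card_pos (Or.inl rfl) (orderOf_dvd_of_pow_eq_one h1))
    · exact Or.inl (H12.div_gcd_dvd Fintype.card_pos (Or.inr rfl) (orderOf_dvd_of_pow_eq_one h1))

end Cfsg.Agent.H19
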