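import Cfsg.Agent.H19.CI
import Cfsg.Agent.H11.Count

/-! A computable model of `GL₂(3)` and groups with an involution centralizer `GL₂(3)` -/

set_option autoImplicit false

namespace Cfsg.Agent.H19

open Cfsg Subgroup

/-- invertible two by two matrices over the field with three elements -/
@[ext] structure M3 where
  a : ZMod 3
  b : ZMod 3
  c : ZMod 3
  d : ZMod 3
  h : a * d - b * c ≠ 0

namespace M3

instance : DecidableEq M3 := fun x y =>
  decidable_of_iff (x.a = y.a ∧ x.b = y.b ∧ x.c = y.c ∧ x.d = y.d) M3.ext_iff.symm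

instance : Fintype M3 := Fintype.ofEquiv
  {p : ZMod 3 × ZMod 3 × ZMod 3 × ZMod 3 // p.1 * p.2.2.2 - p.2.1 * p.2.2.1 ≠ 0}
  ⟨fun p => ⟨_, _, _, _, p.2⟩, fun m => ⟨(m.a, m.b, m.c, m.d), m.h⟩, fun _ => rfl, fun _ => rfl⟩

instance : Mul M3 := ⟨fun x y => ⟨x.a * y.a + x.b * y.c, x.a * y.b + x.b * y.d,
  x.c * y.a + x.d * y.c, x.c * y.b + x.d * y.d,
  fun e => mul_ne_zero x.h y.h (by linear_combination e)⟩⟩

instance : One M3 := ⟨⟨1, 0, 0, 1, by decide⟩⟩

instance : Inv M3 := ⟨fun x => ⟨(x.a * x.d - x.b * x.c) * x.d, -(x.a * x.d - x.b * x.c) * x.b,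
  -(x.a * x.d - x.b * x.c) * x.c, (x.a * x.d - x.b * x.c) * x.a,
  fun e => pow_ne_zero 3 x.h (by linear_combination e)⟩⟩

theorem mul_def (x y : M3) : x * y = ⟨x.a * y.a + x.b * y.c, x.a * y.b + x.b * y.d,
  x.c * y.a + x.d * y.c, x.c * y.b + x.d * y.d, (x * y).h⟩ := rfl

instance : Group M3 := Group.ofLeftAxioms
  (fun x y z => by ext <;> simp only [mul_def] <;> ring) (by decide +kernel) (by decide +kernel)

/-- the entries of an invertible matrix -/
def ofGL (g : GL (Fin 2) (ZMod 3)) : M3 := ⟨g 0 0, g 0 1, g 1 0, g 1 1, by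
  rw [← Matrix.det_fin_two]; exact g.det_ne_zero⟩

/-- the isomorphism with the general linear group -/
noncomputable def equivGL : GL (Fin 2) (ZMod 3) ≃* M3 := MulEquiv.ofBijective
  (MonoidHom.mk' ofGL fun g h => by ext <;> simp [ofGL, mul_def, Matrix.mul_apply])
  ⟨fun g h e => by
    have e' := M3.ext_iff.mp e
    ext i j
    fin_cases i <;> fin_cases j
    exacts [e'.1, e'.2.1, e'.2.2.1, e'.2.2.2],
  fun m => ⟨Matrix.GeneralLinearGroup.mkOfDetNeZero !![m.a, m.b; m.c, m.d]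
    (by rw [Matrix.det_fin_two_of]; exact m.h), rfl⟩⟩

/-- the central involution -/
def T : M3 := ⟨2, 0, 0, 2, by decide⟩
/-- a reflection -/
def S : M3 := ⟨1, 0, 0, 2, by decide⟩
/-- a transvection -/
def X : M3 := ⟨1, 1, 0, 1, by decide⟩
/-- the Weyl element -/
def N : M3 := ⟨0, 1, 1, 0, by decide⟩
/-- an element of order eight -/
def R : M3 := ⟨0, 1, 1, 1, by decide⟩

theorem card_eq : Nat.card M3 = 48 := by rw [Nat.card_eq_fintype_card]; decide +kernel

theorem central : ∀ m : M3, (∀ n, n * m = m * n) → m = 1 ∨ m = T := by decide +kernel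

theorem T_comm : ∀ m : M3, m * T = T * m := by decide +kernel

theorem invol_conj : ∀ m : M3, m * m = 1 → m ≠ 1 → m ≠ T → ∃ n, n * S * n⁻¹ = m := by
  decide +kernel

theorem invol_R : ∀ m : M3, m * R = R * m → m * m = 1 → m ≠ 1 → m = T := by decide +kernel

theorem gen : ∀ m : M3, ∃ a, a * a = 1 ∧ (a * m * (a * m) = 1 ∨ a * S * m * (a * S * m) = 1) := by
  decide +kernel

theorem ncl : ∀ m : M3, m ≠ 1 → ∃ n, m = T ∨ ∃ k : Fin 4, (m * (n * m * n⁻¹)) ^ (k : ℕ) = T := by
  decide +kernel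

theorem ord {m : M3} {n : ℕ} (h0 : 0 < n) (h : m ^ n = 1 ∧ ∀ k : Fin n, 0 < k.1 → m ^ k.1 ≠ 1) :
    orderOf m = n := (orderOf_eq_iff h0).mpr ⟨h.1, fun k h1 h2 => h.2 ⟨k, h1⟩ h2⟩

theorem ordR : orderOf R = 8 := ord (by decide) (by decide +kernel)

end M3

open M3

variable {G : Type*} [Group G]

/-- `f` identifies `GL₂(3)` with an involution centralizer, in a group without index two subgroup -/
structure WG (f : M3 →* G) : Prop where
  inj : Function.Injective f
  cen : ∀ g, g * f T = f T * g → ∃ m, f m = g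
  no2 : ∀ H : Subgroup G, H.index ≠ 2

theorem exists_WG {t : G} (ht : orderOf t = 2)
    (e : centralizer ({t} : Set G) ≃* GL (Fin 2) (ZMod 3)) (no2 : ∀ H : Subgroup G, H.index ≠ 2) :
    ∃ f : M3 →* G, WG f := by
  let e' := e.trans equivGL
  let t' : centralizer ({t} : Set G) := ⟨t, mem_centralizer_singleton_iff.mpr rfl⟩
  have h1 : e' t' = T := (central _ fun n => by
    rw [← e'.apply_symm_apply n, ← map_mul, ← map_mul]
    exact congrArg e' (Subtype.ext (mem_centralizer_singleton_iff.mp (e'.symm n).2))).resolve_left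
      fun h => by
        have : t = 1 := congrArg Subtype.val (e'.map_eq_one_iff.mp h)
        rw [this, orderOf_one] at ht
        omega
  refine ⟨(centralizer {t}).subtype.comp e'.symm.toMonoidHom,
    Subtype.val_injective.comp e'.symm.injective, fun g hg => ?_, no2⟩
  simp only [← h1, MonoidHom.comp_apply, MulEquiv.coe_toMonoidHom, MulEquiv.symm_apply_apply] at hg
  exact ⟨e' ⟨g, mem_centralizer_singleton_iff.mpr hg⟩, by simp⟩

namespace WG

variable {f : M3 →* G} (h : WG f)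
include h

theorem ne_one {m : M3} (hm : m ≠ 1) : f m ≠ 1 := fun e => hm (h.inj (e.trans f.map_one.symm))

theorem mem {g : G} {m : M3} (k : ℕ) (hm : m ^ k = T) (e : g * f m = f m * g) : ∃ n, f n = g :=
  h.cen g (by rw [← hm, map_pow]; exact (Commute.pow_right e k).eq)

theorem cc_eq {m : M3} (k : ℕ) (hm : m ^ k = T) :
    cc (f m) = (Finset.univ.filter fun n : M3 => n * m = m * n).card := by
  rw [← Fintype.card_subtype, ← Nat.card_eq_fintype_card]
  refine (Nat.card_congr (Equiv.ofBijective (fun n => ⟨f n.1, mem_centralizer_singleton_iff.mpr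
    (by rw [← map_mul, n.2, map_mul])⟩) ⟨fun a b e => Subtype.ext (h.inj (congrArg Subtype.val e)),
      fun g => ?_⟩)).symm
  have e := mem_centralizer_singleton_iff.mp g.2
  obtain ⟨n, hn⟩ := h.mem k hm e
  exact ⟨⟨n, h.inj (by rw [map_mul, map_mul, hn, e])⟩, Subtype.ext hn⟩

theorem eq_T {z : G} (e : z * f R = f R * z) (h2 : z * z = 1) (h1 : z ≠ 1) : z = f T := by
  obtain ⟨m, rfl⟩ := h.mem 4 (by decide +kernel) e
  exact congrArg f (invol_R m (h.inj (by simpa using e)) (h.inj (by simpa using h2))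
    fun e => h1 (by simp [e]))

theorem card_range : Nat.card f.range = 48 :=
  (Nat.card_congr (MonoidHom.ofInjective h.inj).toEquiv).symm.trans card_eq

variable [Finite G]

theorem exists_syl : ∃ Q : Sylow 2 G, f R ∈ Q ∧ f T ∈ Q ∧ Nat.card Q = 16 ∧
    (Q : Subgroup G) ≤ f.range := by
  have h8 : Nat.card (zpowers (f R)) = 2 ^ 3 := by
    rw [Nat.card_zpowers, orderOf_injective f h.inj, ordR]; rfl
  obtain ⟨Q, hQ⟩ := (IsPGroup.of_card h8).exists_le_sylow
  have hR : f R ∈ Q := hQ (mem_zpowers _)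
  have hT : f T ∈ Q := by
    rw [← show R ^ 4 = T by decide +kernel, map_pow]; exact pow_mem hR 4
  haveI : Nontrivial Q := ⟨⟨⟨_, hR⟩, 1, fun e => h.ne_one (by decide +kernel) (congrArg Subtype.val e)⟩⟩
  haveI := Q.2.center_nontrivial
  obtain ⟨z, hz⟩ := exists_prime_orderOf_dvd_card' (G := center Q) 2
    ((Q.2.to_subgroup _).card_eq_or_dvd.resolve_left Finite.one_lt_card.ne')
  have e : ((z : Q) : G) = f T := h.eq_T (congrArg Subtype.val (mem_center_iff.mp z.2 ⟨_, hR⟩)).symm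
    (by have := pow_orderOf_eq_one z; rw [hz, sq] at this; exact congrArg (·.1.1) this)
    fun e => by rw [show z = 1 from Subtype.ext (Subtype.ext e), orderOf_one] at hz; omega
  have hle : (Q : Subgroup G) ≤ f.range := fun q hq =>
    h.cen q (e ▸ congrArg Subtype.val (mem_center_iff.mp z.2 ⟨q, hq⟩))
  refine ⟨Q, hR, hT, ?_, hle⟩
  have h1 := card_dvd_of_le hle
  have h2 := Q.pow_dvd_card_of_pow_dvd_card (n := 4)
    ((by decide : 2 ^ 4 ∣ 48).trans (h.card_range ▸ card_subgroup_dvd_card _))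
  obtain ⟨k, hk⟩ := IsPGroup.iff_card.mp Q.2
  change Nat.card Q = _ at hk
  rw [h.card_range] at h1
  change Nat.card Q ∣ _ at h1
  rw [hk] at h1 h2 ⊢
  have h3 := (Nat.pow_dvd_pow_iff_le_right (by decide)).mp h2
  obtain h4 | h4 := h3.eq_or_lt
  · rw [← h4]; rfl
  · exact absurd ((pow_dvd_pow 2 h4).trans h1) (by decide)

theorem conj_T {u : G} (hu : u * u = 1) (h1 : u ≠ 1) : IsConj (f T) u := by
  obtain ⟨Q, hR, -, hQ, -⟩ := h.exists_syl
  have e1 := (zpowers (f R)).index_mul_card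
  have e2 := (Q : Subgroup G).index_mul_card
  have e3 := Q.not_dvd_index
  rw [Nat.card_zpowers, orderOf_injective f h.inj, ordR] at e1
  change _ * Nat.card Q = _ at e2
  rw [hQ, ← e1] at e2
  obtain ⟨M, hM, -⟩ | ⟨g, k, hk⟩ := H11.thompson_transfer (T := zpowers (f R)) (by omega) hu
  · exact absurd hM (h.no2 M)
  refine (isConj_iff.mpr ⟨g, h.eq_T (hk ▸ (Commute.refl _).zpow_left k) ?_ (by simpa using h1)⟩).symm
  rw [conj_mul, hu]; simp

theorem isConj_T {u : G} : IsConj (f T) u ↔ u * u = 1 ∧ u ≠ 1 := by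
  refine ⟨fun e => ?_, fun e => h.conj_T e.1 e.2⟩
  obtain ⟨c, rfl⟩ := isConj_iff.mp e
  exact ⟨by rw [conj_mul, ← map_mul, show T * T = 1 by decide +kernel]; simp,
    by simpa using h.ne_one (by decide +kernel)⟩

theorem eq_top {K : Subgroup G} [hK : K.Normal] (hT : f T ∈ K) : K = ⊤ := by
  have h1 : ∀ m : M3, m * m = 1 → f m ∈ K := fun m hm => by
    by_cases e : m = 1
    · rw [e, map_one]; exact one_mem _
    obtain ⟨c, hc⟩ := isConj_iff.mp (h.conj_T (by rw [← map_mul, hm, map_one]) (h.ne_one e))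
    exact hc ▸ hK.conj_mem _ hT c
  have h2 : f.range ≤ K := by
    rintro _ ⟨m, rfl⟩
    obtain ⟨a, ha, e | e⟩ := gen m
    · simpa using (K.mul_mem_cancel_left (h1 a ha)).mp (map_mul f a m ▸ h1 _ e)
    · have := h1 _ e
      rw [map_mul, map_mul] at this
      exact (K.mul_mem_cancel_left (mul_mem (h1 a ha) (h1 S (by decide +kernel)))).mp this
  obtain ⟨Q, hR, hT', -, hQ⟩ := h.exists_syl
  rw [← Q.normalizer_sup_eq_top' (hQ.trans h2), eq_comm, sup_eq_right]
  intro g hg
  refine h2 (h.cen g ?_)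
  obtain ⟨m, hm⟩ := hQ ((mem_normalizer_iff''.mp hg _).mp hR)
  have e := h.isConj_T.mp (isConj_iff.mpr ⟨g, rfl⟩)
  rw [← mul_inv_eq_iff_eq_mul, h.eq_T ?_ e.1 e.2]
  have := congrArg (fun x => g * f x * g⁻¹) (T_comm m)
  simpa [hm, mul_assoc] using this.symm

theorem simple : IsSimpleGroup G := by
  haveI : Nontrivial G := ⟨⟨_, _, h.ne_one (m := T) (by decide +kernel)⟩⟩
  refine ⟨fun K hK => or_iff_not_imp_right.mpr fun hne => ?_⟩
  have h0 : ∀ v, IsConj (f T) v → ∀ n ∈ K, v * n * v⁻¹ = n → n = 1 := fun v hv n hn e => by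
    obtain ⟨c, rfl⟩ := isConj_iff.mp hv
    obtain ⟨m, hm⟩ := h.cen (c⁻¹ * n * c) (by
      simpa [mul_assoc] using congrArg (fun x => c⁻¹ * x * c * f T) e.symm)
    have hmK : m ∈ K.comap f := by rw [mem_comap, hm]; exact hK.conj_mem' n hn c
    by_contra h1
    refine hne (h.eq_top (show T ∈ K.comap f from ?_))
    obtain ⟨a, e | ⟨k, e⟩⟩ := ncl m (by rintro rfl; exact h1 (by simpa [mul_assoc] using congrArg (c * · * c⁻¹) hm.symm))
    · exact e ▸ hmK
    · exact e ▸ pow_mem (mul_mem hmK ((hK.comap f).conj_mem _ hmK a)) _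
  have h1 : ∀ v, IsConj (f T) v → ∀ n ∈ K, v * n * v⁻¹ = n⁻¹ := fun v hv n hn =>
    congrArg Subtype.val (congrFun (MonoidHom.FixedPointFree.coe_eq_inv_of_involutive
      (φ := (MulAut.conjNormal v : MulAut K)) (fun x e => Subtype.ext
        (h0 v hv x x.2 (congrArg Subtype.val e))) fun x => by
          rw [← MulAut.mul_apply, ← map_mul, (h.isConj_T.mp hv).1, map_one, MulAut.one_apply]) ⟨n, hn⟩)
  have c : ∀ m : M3, m * m = 1 → m ≠ 1 → IsConj (f T) (f m) := fun m a b =>
    h.conj_T (by rw [← map_mul, a, map_one]) (h.ne_one b)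
  refine eq_bot_iff.mpr fun n hn => h0 _ (c (T * S) (by decide +kernel) (by decide +kernel)) n hn ?_
  rw [map_mul, show f T * f S * n * (f T * f S)⁻¹ = f T * (f S * n * (f S)⁻¹) * (f T)⁻¹ by group,
    h1 _ (c S (by decide +kernel) (by decide +kernel)) n hn, h1 _ (IsConj.refl _) _ (inv_mem hn), inv_inv]

theorem not_comm : ¬ IsMulCommutative G := fun e =>
  absurd (h.inj (by rw [map_mul, map_mul]; exact e.1.1 _ _)) (by decide +kernel : R * S ≠ S * R)

end WG

end Cfsg.Agent.H19
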