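import Cfsg.Agent.H19.Sieve

/-! Involution values and Brauer's order formula in simple groups -/

set_option autoImplicit false

namespace Cfsg.Agent.H19

open Cfsg Cfsg.Agent.H4 Cfsg.Agent.H5 Cfsg.Agent.H6

variable {G : Type*} [Group G]

theorem exists_invol_val [Finite G] {χ : G → ℂ} (hχ : IsCharacter G χ) {J : G} (hJ : J * J = 1)
    (hdet : detHom χ J = 1) : ∃ k : ℕ, 2 * k ≤ charDegree χ ∧ χ J = charDegree χ - 4 * k := by
  obtain ⟨m, h1, h2⟩ := hχ.exists_int_of_sq_eq_one (g := J) (by rw [sq, hJ])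
    hχ.charDegree_cast.symm
  let f := zpowHom (e := 2) J (by rw [sq, hJ])
  let lam : Multiplicative (ZMod 2) →* ℂˣ := zpowHom (e := 2) (-1) (by simp)
  have hf : f (Multiplicative.ofAdd 1) = J := by simp [f, zpowHom, ZMod.val_one]
  have hl : lam (Multiplicative.ofAdd 1) = -1 := by simp [lam, zpowHom, ZMod.val_one]
  have e1 : (fun a => χ (f a)) = (charDegree χ - m) • (fun _ => (1 : ℂ)) + m • fun a => (lam a : ℂ) := by
    funext a
    rcases (by decide : ∀ a : Multiplicative (ZMod 2), a = 1 ∨ a = Multiplicative.ofAdd 1) a with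
      rfl | rfl
    · simp [h1, hχ.charDegree_cast]
    · simp [hf, hl, h1, h2]; ring
  have h3 := detHom_comp hχ f
  rw [e1, detHom_add (isCharacter_one.nsmul _) ((isCharacter_linear _).nsmul _),
    detHom_nsmul isCharacter_one, detHom_nsmul (isCharacter_linear _), detHom_one,
    detHom_linear] at h3
  have h4 := DFunLike.congr_fun h3 (Multiplicative.ofAdd 1)
  simp only [MonoidHom.mul_apply, MonoidHom.one_apply, one_pow, one_mul, MonoidHom.pow_apply, hl,
    MonoidHom.comp_apply, hf, hdet] at h4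
  obtain ⟨k, rfl⟩ := (neg_one_pow_eq_one_iff_even (by
    intro e; have := congrArg (fun u : ℂˣ => (u : ℂ)) e; norm_num at this)).mp h4
  exact ⟨k, by omega, by rw [h2]; push_cast; ring⟩

theorem invol_val [Finite G] [IsSimpleGroup G] (hc : ¬ IsMulCommutative G) {χ : IrrCharacter G}
    (h1 : χ ≠ irrOne G) {J : G} (hJ : orderOf J = 2) : ∃ k : ℕ, 0 < k ∧
      2 * k < charDegree (χ : G → ℂ) ∧ (χ : G → ℂ) J = charDegree (χ : G → ℂ) - 4 * k := by
  have hk := χ.2.charKer_eq_bot_of_simple fun e => h1 (Subtype.ext e)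
  have hJ1 : J ≠ 1 := fun e => by simp [e] at hJ
  obtain ⟨k, h2, h3⟩ := exists_invol_val χ.2.isCharacter (J := J)
    (by rw [← sq, ← hJ, pow_orderOf_eq_one])
    (by rw [linear_eq_one_of_perfect (commutator_eq_top_of_simple hc) (detHom _)]; rfl)
  have h4 : 2 * k ≠ charDegree (χ : G → ℂ) ∧ k ≠ 0 := by
    rw [← not_or]
    intro e
    have h5 := χ.2.isCharacter.charCenter_le_center hk (χ.2.isCharacter.mem_charCenter.mpr
      (show ‖(χ : G → ℂ) J‖ = _ by
        rw [h3, ← χ.2.isCharacter.charDegree_cast]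
        rcases e with e | e
        · rw [← norm_neg, ← e]; congr 1; push_cast; ring
        · simp [e]))
    rw [center_eq_bot_of_simple hc] at h5
    exact hJ1 h5
  exact ⟨k, by omega, by omega, h3⟩

theorem exists_central_invol [Finite G] {a : ℕ} (ha : a ≠ 0) (h : 2 ^ a ∣ Nat.card G) :
    ∃ J : G, orderOf J = 2 ∧ 2 ^ a ∣ Nat.card (Subgroup.centralizer ({J} : Set G)) := by
  obtain ⟨S, hS⟩ := Sylow.exists_subgroup_card_pow_prime 2 h
  haveI : Nontrivial S := Finite.one_lt_card_iff_nontrivial.mp (hS ▸ Nat.one_lt_two_pow ha)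
  have h1 := IsPGroup.of_card hS
  haveI := h1.center_nontrivial
  obtain ⟨z, hz⟩ := exists_prime_orderOf_dvd_card' (G := Subgroup.center S) 2 (by
    obtain ⟨n, hn, e⟩ := (h1.to_subgroup _).nontrivial_iff_card.mp this
    exact e ▸ dvd_pow_self 2 hn.ne')
  refine ⟨z.1.1, by rw [Subgroup.orderOf_coe, Subgroup.orderOf_coe, hz],
    hS ▸ Subgroup.card_dvd_of_le fun y hy => Subgroup.mem_centralizer_singleton_iff.mpr ?_⟩
  exact congrArg Subtype.val (Subgroup.mem_center_iff.mp z.2 ⟨y, hy⟩)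

variable {p : ℕ} [hp : Fact p.Prime] {x : G} {K : Subgroup G} [Fintype G]

open Classical in
/-- numerical form of Brauer's order formula -/
theorem e2_data [IsSimpleGroup G] (hc : ¬ IsMulCommutative G) {h : PO p x K} (B : BD h)
    (hK : Nat.card K = 1) (he : eN h.ord = 2) {a : ℤ} (hL : (([a] : List ℤ) : Multiset ℤ) =
      (B.X.erase (irrOne G)).val.map fun χ => B.a χ * charDegree (χ : G → ℂ)) {J : G}
    (hJ : orderOf J = 2) : ∃ k l : ℕ, 0 < k ∧ 2 * k < a.natAbs ∧ 0 < l ∧ 2 * l < (1 + a).natAbs ∧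
      k = l ∧ p * Nat.card (Subgroup.centralizer ({J} : Set G)) ^ 2 * (a.natAbs * (1 + a).natAbs) =
        Nat.card G * (4 * k) ^ 2 ∧
      ((Nat.card G).factorization 2 ≤ a.natAbs.factorization 2 → a.natAbs = 4 * k) ∧
      ((Nat.card G).factorization 2 ≤ (1 + a).natAbs.factorization 2 → (1 + a).natAbs = 4 * k) ∧
      ∃ b, IsConj J b ∧ b * x * b⁻¹ = x⁻¹ := by
  obtain rfl := Subgroup.card_eq_one.mp hK
  have hp2 : p ≠ 2 := fun e => by have := eN_mul' h.ord; have := tN_pos h.ord; nlinarith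
  obtain ⟨χ, h1, h2, h3, h4, h5⟩ := B.exists_two he
  have h6 : B.a χ * charDegree (χ : G → ℂ) = a := by
    have : B.a χ * charDegree (χ : G → ℂ) ∈ (([a] : List ℤ) : Multiset ℤ) :=
      hL ▸ Multiset.mem_map_of_mem _ (Finset.mem_erase.mpr ⟨h1, h2⟩)
    simpa using this
  have h7 : a.natAbs = charDegree (χ : G → ℂ) ∧ (1 + a).natAbs = B.z := by
    rcases B.hε with e | e <;> rw [h3, e] at h6 <;> omega
  have hd : ¬ p ∣ orderOf J := fun e => hp2
    ((Nat.prime_dvd_prime_iff_eq hp.out Nat.prime_two).mp (hJ ▸ e))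
  obtain ⟨k, h8, h9, h10⟩ := invol_val hc h1 hJ
  obtain ⟨l, h11, h12, h13⟩ := invol_val hc (B.μ_ne_one 1) hJ
  have h14 : (B.z : ℂ) = charDegree (χ : G → ℂ) + B.ε := by exact_mod_cast h4
  have h15 : k = l := by
    rw [B.μ_two h5 hd, h10, B.deg_μ, h14] at h13
    exact_mod_cast (show (k : ℂ) = l by linear_combination -h13 / 4)
  obtain ⟨v, h16, h17, h18⟩ := B.invol_two h4 h5 hp2 hJ (by
    rw [h10, ← χ.2.isCharacter.charDegree_cast, ne_eq, sub_eq_self]; simp [h8.ne'])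
  have h19 : v = charDegree (χ : G → ℂ) - 4 * k := by rw [h10] at h16; exact_mod_cast h16.symm
  rw [B.deg_μ] at h12
  rw [h7.1, h7.2]
  refine ⟨k, l, h8, h9, h11, h12, h15, ?_, fun e => ?_, fun e => ?_, h18⟩
  · rw [h19, sub_sub_cancel] at h17; exact_mod_cast h17
  · rw [apply_eq_zero_of_defect_zero Nat.prime_two χ.2 e hJ.symm.dvd, eq_comm, sub_eq_zero] at h10
    exact_mod_cast h10
  · rw [apply_eq_zero_of_defect_zero Nat.prime_two (B.μ 1).2 (by rwa [B.deg_μ]) hJ.symm.dvd,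
      eq_comm, sub_eq_zero, B.deg_μ, ← h15] at h13
    exact_mod_cast h13

theorem exists_list_of_map_eq {α β : Type*} (f : α → β) : ∀ (L : List β) (s : Multiset α),
    (L : Multiset β) = s.map f → ∃ l : List α, (l : Multiset α) = s ∧ l.map f = L
  | [], s, h => ⟨[], (Multiset.map_eq_zero.mp h.symm).symm, rfl⟩
  | b :: L, s, h => by
    classical
    obtain ⟨a, h1, h2, h3⟩ := (Multiset.map_eq_cons f s L b).mpr h.symm
    obtain ⟨l, h4, h5⟩ := exists_list_of_map_eq f L _ h3.symm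
    exact ⟨a :: l, by rw [← Multiset.cons_coe, h4, Multiset.cons_erase h1], by simp [h2, h5]⟩

omit [Fintype G] in
theorem PO.exists_inv [Finite G] (h : PO p x ⊥) (hp2 : p ≠ 2) (he : 2 ∣ eN h.ord) :
    ∃ J : G, orderOf J = 2 ∧ J * x * J⁻¹ = x⁻¹ := by
  obtain ⟨c, hc⟩ := exists_prime_orderOf_dvd_card' (G := EE h.ord) 2 he
  rw [← Subgroup.orderOf_coe, orderOf_eq_prime_iff] at hc
  have h1 : ((c : (ZMod p)ˣ) : ZMod p) = -1 := by
    refine (sq_eq_one_iff.mp ?_).resolve_left fun e => hc.2 (Units.ext e)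
    rw [← Units.val_pow_eq_pow_val, hc.1, Units.val_one]
  obtain ⟨g, hg⟩ := (mem_EE h.ord).mp c.2
  rw [h1, xp_neg h.ord, xp_one h.ord] at hg
  obtain ⟨i, hi⟩ := h.exists_xp (y := g * g) (by
    have : g * g * x * (g * g)⁻¹ = x := by
      rw [mul_inv_rev, ← mul_assoc, mul_assoc g g, mul_assoc g, hg, ← conj_inv, hg, inv_inv]
    exact (mul_inv_eq_iff_eq_mul.mp this).symm)
  have h2 : (2 : ZMod p) ≠ 0 := fun e => hp2 ((Nat.prime_dvd_prime_iff_eq hp.out Nat.prime_two).mp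
    ((ZMod.natCast_eq_zero_iff 2 p).mp (by exact_mod_cast e)))
  have h3 := conj_xp h.ord (c := -1) (by rw [hg, xp_neg h.ord, xp_one h.ord]) i
  have h4 : i = 0 := by
    rw [hi, ← mul_assoc, mul_inv_cancel_right, ← hi] at h3
    have := xp_injective h.ord h3
    exact (mul_eq_zero.mp (show 2 * i = 0 by linear_combination this)).resolve_left h2
  rw [h4, xp_zero] at hi
  refine ⟨g, orderOf_eq_prime (by rw [sq, ← hi]) fun e => h2 ?_, hg⟩
  rw [e, one_mul, inv_one, mul_one, eq_inv_iff_mul_eq_one, ← xp_one h.ord, ← xp_add h.ord,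
    xp_eq_one_iff h.ord] at hg
  rw [← hg]; norm_num

theorem BD.inv_formula {h : PO p x ⊥} (B : BD h) (hp2 : p ≠ 2) {J : G} (hJ : orderOf J = 2)
    (hi : J * x * J⁻¹ = x⁻¹) : (p * Nat.card (Subgroup.centralizer ({J} : Set G)) ^ 2 : ℂ) =
      Nat.card G * (∑ χ ∈ B.X, B.a χ * ((χ : G → ℂ) J ^ 2 / charDegree (χ : G → ℂ)) -
        B.ε * ((B.μ 1 : G → ℂ) J ^ 2 / B.z)) := by
  have hJ2 : J * J = 1 := by rw [← sq, ← hJ, pow_orderOf_eq_one]
  have hd : ¬ p ∣ orderOf J := fun e => hp2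
    ((Nat.prime_dvd_prime_iff_eq hp.out Nat.prime_two).mp (hJ ▸ e))
  have h1 := B.card_pairs_eq hd hd
  rw [(h.card_pairs hp2 hJ2 hJ2 (Nat.card_ne_zero.mpr ⟨⟨⟨(J, J * xp x (1 : ZMod p)), IsConj.refl _,
    isConj_mul_xp h.ord hp2 hi 1, by rw [← mul_assoc, hJ2, one_mul, xp_one h.ord]⟩⟩,
    inferInstance⟩)).1] at h1
  simpa only [sq, fun χ : IrrCharacter G => χ.2.isCharacter.charDegree_cast] using h1

omit [Fintype G] in
theorem abs_le_fd [Finite G] (hx : orderOf x = p) (hp2 : p ≠ 2) {θ : G → ℂ} (hθ : IsCharacter G θ)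
    {J : G} (hi : J * x * J⁻¹ = x⁻¹) {v : ℤ} (hv : θ J = v) : |v| ≤ fd p x θ := by
  have h1 : J ∈ NN x := (mem_normalizer_iff_xp hx).mpr (hi ▸ inv_mem (Subgroup.mem_zpowers x))
  have h2 := (isCharacter_fx hx hθ).norm_le ⟨J, h1⟩
  have h3 : ¬ Commute x J := fun e => hp2 (by
    rw [← e.eq, mul_inv_cancel_right, eq_inv_iff_mul_eq_one, ← sq] at hi
    exact (Nat.prime_dvd_prime_iff_eq hp.out Nat.prime_two).mp (hx ▸ orderOf_dvd_of_pow_eq_one hi))
  simp only [fx_eq_of_not_commute hx hθ.isClassFunction h1 h3, OneMemClass.coe_one,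
    ← fd_cast hx hθ, hv, Complex.norm_intCast, Complex.norm_natCast] at h2
  exact_mod_cast h2

end Cfsg.Agent.H19
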