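import Cfsg.Agent.H19.Def1A
import Cfsg.Agent.H14.Cl3
import Cfsg.Agent.H28.RgA
import Cfsg.Agent.H9.Repl

/-! Steinberg relations for `PSL₃(3)` from a symmetric configuration -/

set_option autoImplicit false

namespace Cfsg.Agent.H19

open Subgroup
open scoped commutatorElement MatrixGroups

variable {G : Type*} [Group G]

theorem psl3_of_st3 {F : Type*} [Field F] [Fintype F] [Nontrivial G] {y : Fin 3 → Fin 3 → F → G}
    (hy : H14.St3 y) (hZ : center G = ⊥)
    (hg : ∀ L : Subgroup G, (∀ i j, i ≠ j → ∀ t, y i j t ∈ L) → L = ⊤) :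
    Nonempty (G ≃* PSL(3, F)) := by
  have ed : H14.Edge (fun b => if b then y 0 1 else y 1 0) (fun b => if b then y 1 2 else y 2 1) :=
    ⟨y, hy, rfl, rfl, rfl, rfl⟩
  obtain ⟨f, hf⟩ := (H28.rgA 2 F).exists_surj_sl (fun _ _ => rfl) (H28.rgA_grp 2 F)
    (fun i => by simp only [H28.carA]; revert i; decide) hZ
    ![fun b => if b then y 0 1 else y 1 0, fun b => if b then y 1 2 else y 2 1]
    (fun i b t u => by fin_cases i <;> cases b <;> exact hy.add _ _ (by decide) t u)
    (fun i j e => by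
      rw [H28.carA] at e
      fin_cases i <;> fin_cases j
      exacts [absurd e (by decide), ed, ed.symm, absurd e (by decide)])
    (fun i j e => absurd e (by rw [H28.carA]; revert i j; decide)) fun L hL => hg L
      fun i j ij t => by
        have a : ∀ {a b}, a ∈ L → b ∈ L → ⁅a, b⁆ ∈ L := fun a b =>
          mul_mem (mul_mem (mul_mem a b) (inv_mem a)) (inv_mem b)
        have a1 : y 0 2 (t * 1) ∈ L :=
          hy.br 0 1 2 (by decide) (by decide) (by decide) t 1 ▸ a (hL 0 true t) (hL 1 true 1)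
        have a2 : y 2 0 (t * 1) ∈ L :=
          hy.br 2 1 0 (by decide) (by decide) (by decide) t 1 ▸ a (hL 1 false t) (hL 0 false 1)
        rw [mul_one] at a1 a2
        fin_cases i <;> fin_cases j
        exacts [absurd rfl ij, hL 0 true t, a1, hL 0 false t, absurd rfl ij, hL 1 true t, a2,
          hL 1 false t, absurd rfl ij]
  haveI := H12.PSL_fin_simple (F := F) 3 (by decide) (by simp)
  exact H14.equiv_quot hf fun x hx => mem_bot.1 (hZ ▸ mem_center_iff.2 (hf.forall.2 fun z => by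
    rw [← map_mul, mem_center_iff.1 hx, map_mul]))

theorem card_psl33 : Nat.card PSL(3, ZMod 3) = 5616 := by
  have := H12.card_PSL_fin (ZMod.card 3) 3 (by decide)
  rw [show ∏ i : Fin 3, (3 ^ 3 - 3 ^ (i : ℕ)) = 11232 by decide, show Nat.gcd 3 (3 - 1) = 1 by decide]
    at this
  omega

/-- Heisenberg relation -/
def Rel3 (a b c : G) : Prop := ⁅a, b⁆ = c ∧ Commute c a ∧ Commute c b

theorem Rel3.conj {a b c : G} (h : Rel3 a b c) (g : G) :
    Rel3 (g * a * g⁻¹) (g * b * g⁻¹) (g * c * g⁻¹) :=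
  ⟨by rw [← h.1, conjugate_commutatorElement], h.2.1.conj g, h.2.2.conj g⟩

theorem Rel3.pow {a b c : G} (h : Rel3 a b c) (m n : ℕ) : ⁅a ^ m, b ^ n⁆ = c ^ (m * n) := by
  obtain ⟨rfl, h1, h2⟩ := h
  have h3 : ⁅a, b ^ n⁆ = ⁅a, b⁆ ^ n := by
    rw [← commutatorElement_inv, H9.commutatorElement_pow_left_of_commute
      (by rw [← commutatorElement_inv]; exact h2.inv_left), ← inv_pow, commutatorElement_inv]
  rw [H9.commutatorElement_pow_left_of_commute (h3 ▸ h1.pow_left n), h3, ← pow_mul, mul_comm]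

theorem psl3_of_sym [Finite G] (hG : Nat.card G = 5616) {x s n : G} (hx : orderOf x = 3)
    (hs : s * s = 1) (hn : n * n = 1) (br : n * s * n = s * n * s)
    (r : Rel3 (s * x * s⁻¹) (n * s * n * x * (n * s * n)⁻¹) x)
    (hz : ∀ z, Commute z x → Commute z (n * x * n⁻¹) → Commute z (s * x * s⁻¹) → z = 1) :
    Nonempty (G ≃* PSL(3, ZMod 3)) := by
  let w : Fin 3 → Fin 3 → G := ![![1, s, 1], ![s * n, 1, n * s * n], ![n, n * s, 1]]
  let Y : Fin 3 → Fin 3 → G := fun i j => w i j * x * (w i j)⁻¹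
  have oY : ∀ i j, orderOf (Y i j) = 3 := fun i j =>
    (orderOf_injective (MulAut.conj (w i j)).toMonoidHom (MulAut.conj _).injective x).trans hx
  have step : ∀ (g : G) (π : Fin 3 → Fin 3), (∀ i j, i ≠ j → g * w i j = w (π i) (π j)) →
      ∀ i j k, i ≠ j ∧ j ≠ k ∧ i ≠ k → Rel3 (Y i j) (Y j k) (Y i k) →
        Rel3 (Y (π i) (π j)) (Y (π j) (π k)) (Y (π i) (π k)) := fun g π e i j k d r => by
    simpa only [Y, ← e _ _ d.1, ← e _ _ d.2.1, ← e _ _ d.2.2, mul_inv_rev, mul_assoc] using r.conj g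
  have hs' : ∀ a, s * (s * a) = a := fun a => by rw [← mul_assoc, hs, one_mul]
  have hn' : ∀ a, n * (n * a) = a := fun a => by rw [← mul_assoc, hn, one_mul]
  have s1 := step s ![0, 2, 1] fun i j e => by
    fin_cases i <;> fin_cases j
    exacts [absurd rfl e, hs, mul_one _, hs' _, absurd rfl e, (congrArg _ (br.trans (mul_assoc ..))).trans
      (hs' _), rfl, (mul_assoc ..).symm.trans br.symm, absurd rfl e]
  have s2 := step n ![2, 1, 0] fun i j e => by
    fin_cases i <;> fin_cases j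
    exacts [absurd rfl e, rfl, mul_one _, (mul_assoc ..).symm, absurd rfl e,
      (congrArg _ (mul_assoc ..)).trans (hn' _), hn, hn' _, absurd rfl e]
  have r0 : Rel3 (Y 0 1) (Y 1 2) (Y 0 2) := by simpa [Y, w] using r
  have r1 := s1 0 1 2 (by decide) r0
  have r2 := s2 0 2 1 (by decide) r1
  have r3 := s1 2 0 1 (by decide) r2
  have r4 := s2 1 0 2 (by decide) r3
  have r5 := s1 1 2 0 (by decide) r4
  have R : ∀ i j k, i ≠ j → j ≠ k → i ≠ k → Rel3 (Y i j) (Y j k) (Y i k) := fun i j k a b c => by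
    fin_cases i <;> fin_cases j <;> fin_cases k <;>
      first | exact absurd rfl a | exact absurd rfl b | exact absurd rfl c | assumption
  let L := closure (Set.range fun p : Fin 3 × Fin 3 => Y p.1 p.2)
  let Y' : Fin 3 → Fin 3 → L := fun i j => ⟨Y i j, subset_closure ⟨(i, j), rfl⟩⟩
  have oY' : ∀ i j, orderOf (Y' i j) = 3 := fun i j => (orderOf_coe _).symm.trans (oY i j)
  haveI : Nontrivial L := ⟨⟨Y' 0 0, 1, fun e => by simpa [e] using oY' 0 0⟩⟩
  have mY : ∀ i, Y i i = Y 0 2 := fun i => by fin_cases i <;> rfl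
  obtain ⟨e⟩ := psl3_of_st3 (F := ZMod 3) (y := fun i j c => xp (Y' i j) c)
    ⟨fun i j _ => xp_add (oY' i j), fun i j k a b c t u => by
      rw [xp_mul (oY' i k), xp, xp, xp, ← pow_mul]
      exact Rel3.pow (a := Y' i j) (b := Y' j k) (c := Y' i k) ⟨Subtype.ext (R i j k a b c).1,
        Subtype.ext (R i j k a b c).2.1,
        Subtype.ext (R i j k a b c).2.2⟩ _ _,
    fun i j k l a b c d t u => Commute.pow_pow (Subtype.ext (by
      obtain ⟨rfl, rfl⟩ | ⟨rfl, e⟩ | ⟨rfl, e⟩ : (i = k ∧ j = l) ∨ (i = k ∧ j ≠ l) ∨ (j = l ∧ i ≠ k) := by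
        omega
      exacts [rfl, (R i l j d e.symm a).2.1, (R i k j e b a).2.2])) _ _⟩
    (eq_bot_iff.mpr fun z h => Subtype.ext (hz z
      (show _ = _ by simpa [Y', Y, w] using (congrArg Subtype.val (mem_center_iff.mp h (Y' 0 2))).symm)
      (congrArg Subtype.val (mem_center_iff.mp h (Y' 2 0))).symm
      (congrArg Subtype.val (mem_center_iff.mp h (Y' 0 1))).symm))
    fun M hM => eq_top_iff.mpr fun z _ => by
      have : L ≤ M.map L.subtype := (closure_le _).mpr (by
        rintro _ ⟨⟨i, j⟩, rfl⟩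
        by_cases e : i = j
        · exact ⟨_, xp_one (oY' 0 2) ▸ hM 0 2 (by decide) 1, by subst e; exact (mY i).symm⟩
        · exact ⟨_, xp_one (oY' i j) ▸ hM i j e 1, rfl⟩)
      obtain ⟨z', h1, h2⟩ := this z.2
      exact Subtype.ext h2 ▸ h1
  have : L = ⊤ := eq_top_of_card_eq _ (by rw [Nat.card_congr e.toEquiv, card_psl33, hG])
  exact ⟨(topEquiv.symm.trans (MulEquiv.subgroupCongr this.symm)).trans e⟩

end Cfsg.Agent.H19
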