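import Cfsg.Agent.H19.W3
import Cfsg.Agent.H19.W4
import Cfsg.Agent.H19.Basic
import Cfsg.Agent.H19.Sieve
import Cfsg.Agent.H1.Generation
import Cfsg.Agent.H11.R2

/-! Recognition of `PSL₃(3)` from an involution centralizer `GL₂(3)` -/

set_option autoImplicit false

namespace Cfsg.Agent.H19

open Cfsg Subgroup M3
open scoped commutatorElement MatrixGroups

variable {G : Type*} [Group G] [Finite G] {f : M3 →* G}

theorem not_comm39 [IsSimpleGroup G] (hc : ¬ IsMulCommutative G) (hG : Nat.card G = 5616) {x g : G}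
    (hx : orderOf x = 3) (hg : orderOf g = 13) : ¬ Commute g x := fun e => by
  haveI : Fact (Nat.Prime 13) := ⟨by norm_num⟩
  have h1 : Nat.card (zpowers g) = 13 := (Nat.card_zpowers g).trans hg
  let P : Sylow 13 G := (IsPGroup.of_card (n := 1) h1).toSylow (by
    have := (zpowers g).index_mul_card; rw [h1, hG] at this; omega)
  have h2 : x ∈ centralizer ((P : Subgroup G) : Set G) := fun _ ⟨k, hk⟩ => hk ▸ (e.zpow_left k).eq
  have h3 : g ∈ centralizer ((P : Subgroup G) : Set G) := fun _ ⟨k, hk⟩ =>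
    hk ▸ ((Commute.refl g).zpow_left k).eq
  have h4 := hx ▸ Nat.card_zpowers x ▸ card_dvd_of_le (zpowers_le.mpr h2)
  have h5 := h1 ▸ card_dvd_of_le (zpowers_le.mpr h3)
  have h6 := centralizer_le_normalizer ((P : Subgroup G) : Set G)
  have h7 := (normalizer ((P : Subgroup G) : Set G)).index_mul_card
  have h8 := card_sylow_modEq_one 13 G
  have h9 := one_lt_card_sylow hc 13 (hG ▸ by decide)
  rw [P.card_eq_index_normalizer] at h8 h9
  have h10 := h4.trans (card_dvd_of_le h6)
  obtain e | e | e := (by decide +kernel : ∀ d ∈ dv 5616, d % 13 = 1 → d = 1 ∨ d = 27 ∨ d = 144) _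
    (mem_dv (by decide) (hG ▸ index_dvd_card _)) h8
  · exact h9.ne' e
  · change (normalizer ((P : Subgroup G) : Set G)).index = _ at e
    rw [e] at h7
    omega
  · change (normalizer ((P : Subgroup G) : Set G)).index = _ at e
    rw [e] at h7
    have := Nat.card_pos (α := centralizer ((P : Subgroup G) : Set G))
    exact not_normalizer_le_centralizer hc 13 (hG ▸ by decide) P
      (eq_of_le_of_card_ge h6 (by omega)).ge

namespace WG

variable (h : WG f)
include h

theorem ordX : orderOf (f X) = 3 := (orderOf_injective f h.inj _).trans (ord (by decide) (by decide +kernel))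

theorem not_four : ¬ 4 ∣ cc (f X) := fun e => by
  let t : centralizer {f X} := ⟨f T, mem_centralizer_singleton_iff.mpr (by
    rw [← map_mul, ← T_comm, map_mul])⟩
  have ht : orderOf t = 2 := (orderOf_coe t).symm.trans
    ((orderOf_injective f h.inj _).trans (ord (by decide) (by decide +kernel)))
  obtain ⟨Q, hQ⟩ := (IsPGroup.of_card (p := 2) (n := 1) ((Nat.card_zpowers t).trans ht)).exists_le_sylow
  have h4 := Q.pow_dvd_card_of_pow_dvd_card (n := 2) e
  obtain ⟨z, -, z1, z2, hz⟩ := H11.exists_central_invol Q.2 fun e => by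
    change Nat.card Q = 1 at e; omega
  obtain ⟨m, hm⟩ := h.cen z (congrArg Subtype.val (hz t (hQ (mem_zpowers t)))).symm
  have e1 : m = T := (by decide +kernel : ∀ m : M3, m * X = X * m → m * m = 1 → m ≠ 1 → m = T) m
    (h.inj (by simpa [hm] using mem_centralizer_singleton_iff.mp z.2))
    (h.inj (by simpa [hm] using congrArg Subtype.val z2)) fun e => z1 (Subtype.ext (by simp [← hm, e]))
  have h5 : (Q : Subgroup _).map (centralizer {f X}).subtype ≤ (centralizer {X}).map f := by
    rintro _ ⟨q, hq, rfl⟩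
    obtain ⟨k, hk⟩ := h.cen q (e1 ▸ hm ▸ congrArg Subtype.val (hz q hq))
    exact ⟨k, mem_centralizer_singleton_iff.mpr (h.inj (by
      simpa [hk] using mem_centralizer_singleton_iff.mp q.2)), hk⟩
  have h6 := card_dvd_of_le h5
  rw [card_map_of_injective Subtype.val_injective, card_map_of_injective h.inj] at h6
  have h7 : Nat.card (centralizer {X}) = 6 := by
    rw [Nat.card_congr (Equiv.subtypeEquivRight fun _ => mem_centralizer_singleton_iff),
      Nat.card_eq_fintype_card]
    decide +kernel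
  exact absurd (h7 ▸ h4.trans h6) (by decide)

theorem exists_K (hG : Nat.card G = 5616) (h19 : 19 ≤ cc (f X)) :
    ∃ K : Subgroup G, Nat.card K = 27 ∧ ∀ g, g ∈ K ↔ g * f X = f X * g ∧ g ^ 27 = 1 := by
  haveI := h.simple
  have h54 : cc (f X) = 54 := (by decide +kernel : ∀ d ∈ dv 5616, 19 ≤ d → ¬ 13 ∣ d → ¬ 4 ∣ d →
    2 ∣ d → d = 54) _ (mem_dv (by decide) (hG ▸ cc_dvd _)) h19 (fun e => by
      obtain ⟨g, h1, h2⟩ := exists_of_dvd_cc (by norm_num) e
      exact not_comm39 h.not_comm hG h.ordX h1 h2) h.not_four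
    ((orderOf_injective f h.inj _).trans (ord (m := T) (n := 2) (by decide) (by decide +kernel)) ▸
      orderOf_dvd_cc (Commute.map (T_comm X).symm f))
  obtain ⟨P, hP⟩ := Sylow.exists_subgroup_card_pow_prime (G := centralizer {f X}) 3 (n := 3)
    (h54 ▸ by decide : 3 ^ 3 ∣ cc (f X))
  have h2 : P.index = 2 := by
    have := P.index_mul_card
    rw [hP, show Nat.card _ = 54 from h54] at this
    omega
  refine ⟨P.map (Subgroup.subtype _), (card_map_of_injective Subtype.val_injective).trans hP,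
    fun g => ⟨?_, fun e => ?_⟩⟩
  · rintro ⟨g, hg, rfl⟩
    exact ⟨mem_centralizer_singleton_iff.mp g.2,
      congrArg (·.1.1) (hP ▸ pow_card_eq_one' (x := (⟨g, hg⟩ : P)))⟩
  · refine ⟨_, pow_mem (sq_mem_of_index_two h2 ⟨g, mem_centralizer_singleton_iff.mpr e.1⟩) 14, ?_⟩
    change (g ^ 2) ^ 14 = g
    rw [← pow_mul, show 2 * 14 = 27 + 1 from rfl, pow_succ, e.2, one_mul]

theorem V4 {z : G} (h1 : z * f T = f T * z) (h2 : z * f S = f S * z) :
    z = 1 ∨ z = f T ∨ z = f S ∨ z = f T * f S := by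
  obtain ⟨m, rfl⟩ := h.cen z h1
  obtain rfl | rfl | rfl | rfl := (by decide +kernel : ∀ m : M3, m * S = S * m →
    m = 1 ∨ m = T ∨ m = S ∨ m = T * S) m (h.inj (by simpa using h2)) <;> simp

theorem exists_sw : ∃ s : G, s * s = 1 ∧ s * f T * s⁻¹ = f S ∧ s * f S * s⁻¹ = f T ∧
    f N * s * f N = s * f N * s := by
  have ne : ∀ {a b : M3}, a ≠ b → f a ≠ f b := fun e => h.inj.ne e
  have tt : f T * f T = 1 := by rw [← map_mul, show T * T = 1 by decide +kernel, map_one]
  have ts : f T * f S = f S * f T := by rw [← map_mul, ← T_comm, map_mul]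
  obtain ⟨c, h1, h2⟩ : ∃ c, c * f T * c⁻¹ = f S ∧ c * f S * c⁻¹ = f T := by
    obtain ⟨c, hc⟩ := isConj_iff.mp (h.conj_T (u := f S)
      (by rw [← map_mul, show S * S = 1 by decide +kernel, map_one]) (h.ne_one (by decide +kernel)))
    obtain ⟨m, hm⟩ := h.cen (c⁻¹ * f T * c) (by
      simpa [← hc, mul_assoc] using congrArg (c⁻¹ * · * c) ts)
    have e := h.isConj_T.mp (isConj_iff.mpr ⟨c⁻¹, by rw [inv_inv, ← hm]⟩)
    obtain ⟨k, rfl⟩ := invol_conj m (h.inj (by simpa using e.1)) (fun e' => e.2 (by simp [e']))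
      (by rintro rfl; exact ne (b := T) (by decide +kernel) (hc.symm.trans (by nth_rw 1 [hm]; group)))
    refine ⟨c * f k, ?_, ?_⟩
    · rw [← hc, mul_assoc c, ← map_mul, T_comm, map_mul]; group
    · rw [map_mul, map_mul, map_inv] at hm
      rw [show c * f k * f S * (c * f k)⁻¹ = c * (f k * f S * (f k)⁻¹) * c⁻¹ by group, hm]; group
  obtain ⟨c, h0, h1, h2⟩ : ∃ c, c * c = 1 ∧ c * f T * c⁻¹ = f S ∧ c * f S * c⁻¹ = f T := by
    obtain e | e | e | e := h.V4 (z := c * c)
      (by rw [← mul_inv_eq_iff_eq_mul]; conv_rhs => rw [← h2, ← h1]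
          group)
      (by rw [← mul_inv_eq_iff_eq_mul]; conv_rhs => rw [← h1, ← h2]
          group)
    · exact ⟨c, e, h1, h2⟩
    · exact absurd (h1.symm.trans (by rw [← e]; group)) (ne (b := T) (by decide +kernel))
    · exact absurd (h2.symm.trans (by rw [← e]; group)) (ne (b := S) (by decide +kernel))
    · refine ⟨c * f T, ?_, by rw [← h1]; group, ?_⟩
      · rw [show c * f T * (c * f T) = c * f T * c⁻¹ * (c * c) * f T by group, h1, e, ← map_mul,
          ← map_mul, ← map_mul, show S * (T * S) * T = 1 by decide +kernel, map_one]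
      · rw [mul_assoc c, ts]; conv_rhs => rw [← h2]
        group
  refine ⟨c, h0, h1, h2, ?_⟩
  have n1 : f N * f T * (f N)⁻¹ = f T := by rw [← map_mul, T_comm, map_mul]; group
  have n2 : f N * f S * (f N)⁻¹ = f T * f S := by
    rw [← map_inv, ← map_mul, ← map_mul, ← map_mul]; exact congrArg f (by decide +kernel)
  have r1 : c * f N * f T * (c * f N)⁻¹ = f S := by
    rw [← h1]; conv_rhs => rw [← n1]
    group
  have r2 : c * f N * f S * (c * f N)⁻¹ = f T * f S := by
    rw [show c * f N * f S * (c * f N)⁻¹ = c * (f N * f S * (f N)⁻¹) * c⁻¹ by group, n2, ← conj_mul,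
      h1, h2, ts]
  have r3 : c * f N * (f T * f S) * (c * f N)⁻¹ = f T := by
    rw [← conj_mul, r1, r2, ts, ← mul_assoc, ← map_mul, show S * S = 1 by decide +kernel, map_one,
      one_mul]
  generalize hr : c * f N = r at r1 r2 r3
  obtain e | e | e | e := h.V4 (z := r ^ 3)
    (by rw [← mul_inv_eq_iff_eq_mul]; conv_rhs => rw [← r3, ← r2, ← r1]
        simp only [pow_three, mul_inv_rev, mul_assoc])
    (by rw [← mul_inv_eq_iff_eq_mul]; conv_rhs => rw [← r1, ← r3, ← r2]
        simp only [pow_three, mul_inv_rev, mul_assoc])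
  · have nn : f N * f N = 1 := by rw [← map_mul, show N * N = 1 by decide +kernel, map_one]
    refine mul_left_cancel (a := c * f N * c) (Eq.trans (b := r ^ 3)
      (by simp only [← hr, pow_three, mul_assoc]) ?_)
    rw [e, ← hr, show c * f N * c * (c * f N * c) = c * f N * (c * c) * f N * c by group, h0, mul_one,
      mul_assoc c, nn, mul_one, h0]
  · exact absurd (r1.symm.trans (by rw [← e]; group)) (ne (b := T) (by decide +kernel))
  · exact absurd ((map_mul f _ _).trans (r2.symm.trans (by rw [← e]; group)))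
      (ne (b := S) (by decide +kernel))
  · exact absurd (r3.symm.trans (by rw [map_mul, ← e]; group)) (ne (b := T * S) (by decide +kernel))

theorem psl3 (hG : Nat.card G = 5616) : Nonempty (G ≃* PSL(3, ZMod 3)) := by
  obtain ⟨K, hK, mK⟩ := h.exists_K hG (h.card_cases.resolve_left (by omega)).2
  obtain ⟨s, ss, sT, sS, br⟩ := h.exists_sw
  have x3 := h.ordX
  have ne : ∀ {a b : M3}, a ≠ b → f a ≠ f b := fun e => h.inj.ne e
  have cj : ∀ a b c : M3, a * b * a⁻¹ = c → f a * f b * (f a)⁻¹ = f c := fun a b c e => by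
    rw [← e, map_mul, map_mul, map_inv]
  have nn : f N * f N = 1 := by rw [← map_mul, show N * N = 1 by decide +kernel, map_one]
  have nK : ∀ w, (∀ k ∈ K, w * k * w⁻¹ * f X = f X * (w * k * w⁻¹)) → w ∈ normalizer (K : Set G) :=
    fun w e => mem_normalizer_fintype fun k hk => (mK _).mpr ⟨e k hk, by
      rw [conj_pow, ((mK k).mp hk).2]; simp⟩
  let V : Subgroup G := (centralizer {S}).map f
  have mV : ∀ v ∈ V, v = 1 ∨ v = f T ∨ v = f S ∨ v = f T * f S := by
    rintro _ ⟨m, hm, rfl⟩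
    exact h.V4 (Commute.map (T_comm m) f) (Commute.map (mem_centralizer_singleton_iff.mp hm) f)
  have mV' : ∀ m, m * S = S * m → f m ∈ V := fun m e => ⟨m, mem_centralizer_singleton_iff.mpr e, rfl⟩
  have VK : V ≤ normalizer (K : Set G) := by
    rintro _ ⟨m, hm, rfl⟩
    refine nK _ fun k hk => ?_
    have e : Commute k (f X) := ((mK k).mp hk).1
    obtain e' | e' := (by decide +kernel : ∀ m : M3, m * S = S * m →
      m * X * m⁻¹ = X ∨ m * X⁻¹ * m⁻¹ = X) m (mem_centralizer_singleton_iff.mp hm)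
    · exact cj _ _ _ e' ▸ e.conj _
    · exact cj _ _ _ e' ▸ map_inv f X ▸ e.inv_right.conj _
  have gen : ∀ D : Subgroup G, K ⊓ centralizer {f T} ≤ D → K ⊓ centralizer {f S} ≤ D →
      K ⊓ centralizer {f T * f S} ≤ D → K ≤ D := fun D a b c => by
    have c4 : Nat.card V = 4 := by
      rw [card_map_of_injective h.inj, Nat.card_congr (Equiv.subtypeEquivRight
        fun _ => mem_centralizer_singleton_iff), Nat.card_eq_fintype_card]
      decide +kernel
    have cm := (by decide +kernel : ∀ m : M3, m * S = S * m → m * m = 1 ∧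
      ∀ n : M3, n * S = S * n → m * n = n * m)
    haveI : IsMulCommutative V := ⟨⟨by
      rintro ⟨_, m, hm, rfl⟩ ⟨_, n, hn, rfl⟩
      exact Subtype.ext (Commute.map ((cm m (mem_centralizer_singleton_iff.mp hm)).2 n
        (mem_centralizer_singleton_iff.mp hn)) f)⟩⟩
    refine H1.le_of_forall_centralizer_singleton_le (fun e => ?_) VK (by rw [c4, hK]; decide)
      fun v hv h1 => ?_
    · obtain ⟨⟨_, m, hm, rfl⟩, e⟩ := isCyclic_iff_exists_orderOf_eq_natCard.mp e
      have := orderOf_dvd_of_pow_eq_one (n := 2) (x := f m) (by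
        rw [sq, ← map_mul, (cm m (mem_centralizer_singleton_iff.mp hm)).1, map_one])
      rw [c4, ← orderOf_coe] at e
      exact absurd (e ▸ this) (by decide)
    · obtain rfl | rfl | rfl | rfl := mV v hv
      exacts [absurd rfl h1, a, b, c]
  have c3 : ∀ w, Nat.card (K ⊓ centralizer {w * f T * w⁻¹} : Subgroup G) ∣ 3 := fun w =>
    Nat.dvd_gcd (hK ▸ card_dvd_of_le inf_le_left) ((card_dvd_of_le inf_le_right).trans
      ((cc_conj (isConj_iff.mpr ⟨w, rfl⟩)).symm.trans
        ((h.cc_eq (m := T) 1 (by decide +kernel)).trans (by decide +kernel : _ = 48))).dvd)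
  have oc : ∀ w, orderOf (w * f X * w⁻¹) = 3 := fun w =>
    (orderOf_isConj (isConj_iff.mpr ⟨w, rfl⟩)).symm.trans x3
  have rt : ∀ w, Commute (w * f X * w⁻¹) (f X) → w * f X * w⁻¹ ∈ K ∧
      K ⊓ centralizer {w * f T * w⁻¹} = zpowers (w * f X * w⁻¹) := fun w e => by
    have h1 : w * f X * w⁻¹ ∈ K := (mK _).mpr ⟨e, orderOf_dvd_iff_pow_eq_one.mp (oc w ▸ by decide)⟩
    exact ⟨h1, (eq_of_le_of_card_ge (zpowers_le.mpr (mem_inf.mpr ⟨h1, mem_centralizer_singleton_iff.mpr
      (Commute.conj (Commute.map (T_comm X) f) w)⟩)) (by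
        rw [Nat.card_zpowers, oc]; exact Nat.le_of_dvd (by decide) (c3 w))).symm⟩
  obtain ⟨xK, zx⟩ : f X ∈ K ∧ K ⊓ centralizer {f T} = zpowers (f X) := by
    simpa using rt 1 (by simp)
  have c9 : ∀ w, ¬ K ≤ zpowers (f X) ⊔ K ⊓ centralizer {w * f T * w⁻¹} := fun w e => by
    have := (card_dvd_of_le e).trans ((H1.card_sup_dvd fun k hk => mem_normalizer_of_commute x3
      ((mK k).mp (mem_inf.mp hk).1).1.symm).trans (mul_dvd_mul_left _ (c3 w)))
    rw [hK, Nat.card_zpowers, x3] at this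
    exact absurd this (by decide)
  have nT := cj N T T (by decide +kernel)
  have nS : f N * f S * (f N)⁻¹ = f T * f S := (cj N S (T * S) (by decide +kernel)).trans (map_mul ..)
  have uT : f N * s * f N * f T * (f N * s * f N)⁻¹ = f T * f S := by
    rw [← nS, ← sT]; conv_rhs => rw [← nT]
    group
  have uS : f N * s * f N * f S * (f N * s * f N)⁻¹ = f S := by
    rw [show f N * s * f N * f S * (f N * s * f N)⁻¹ = f N * (s * (f N * f S * (f N)⁻¹) * s⁻¹) * (f N)⁻¹
      by group, nS, ← conj_mul (b := s), sT, sS, ← map_mul]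
    exact cj _ _ _ (by decide +kernel)
  have root : ∀ w, w * f S * w⁻¹ ∈ V → K ⊓ centralizer {w * f T * w⁻¹} ≠ ⊥ → w * f T * w⁻¹ ∈ V →
      Commute (w * f X * w⁻¹) (f X) ∨ Commute (w * f N * f X * (w * f N)⁻¹) (f X) := by
    intro w h1 h2 h3
    obtain ⟨⟨a, ha⟩, a1⟩ := ne_bot_iff_exists_ne_one.mp h2
    have a2 : w * f S * w⁻¹ * a * (w * f S * w⁻¹)⁻¹ ∈ K ⊓ centralizer {w * f T * w⁻¹} :=
      ⟨(mem_normalizer_iff.mp (VK h1) a).mp ha.1, mem_centralizer_singleton_iff.mpr (by
        have := Commute.conj (mem_centralizer_singleton_iff.mp ha.2) (w * f S * w⁻¹)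
        rwa [show w * f S * w⁻¹ * (w * f T * w⁻¹) * (w * f S * w⁻¹)⁻¹ = w * (f S * f T * (f S)⁻¹) * w⁻¹
          by group, cj S T T (by decide +kernel)] at this)⟩
    haveI := (isCyclic_of_card_dvd_prime (c3 w)).isMulCommutative
    have a3 : a ^ 3 = 1 := orderOf_dvd_iff_pow_eq_one.mp ((Subgroup.orderOf_dvd_natCard _ ha).trans (c3 w))
    have a4 := congrArg Subtype.val (mul_comm' (⟨a, ha⟩ : (K ⊓ _ : Subgroup G)) ⟨_, a2⟩)
    obtain ⟨m, hm⟩ := h.cen (w⁻¹ * a * w) (by
      simpa [mul_assoc] using congrArg (w⁻¹ * · * w) (mem_centralizer_singleton_iff.mp ha.2))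
    obtain rfl : a = w * f m * w⁻¹ := by rw [hm]; group
    have e : Commute (w * f m * w⁻¹) (f X) := ((mK _).mp ha.1).1
    obtain rfl | rfl | rfl | rfl := (by decide +kernel : ∀ m : M3, m ^ 3 = 1 → m ≠ 1 →
      m * (S * m * S⁻¹) = S * m * S⁻¹ * m → m = X ∨ m = X⁻¹ ∨ m = N * X * N⁻¹ ∨ m = (N * X * N⁻¹)⁻¹) m
      (h.inj (by simpa using a3)) (fun e => a1 (Subtype.ext (by simp [e])))
      (h.inj (by simpa [mul_assoc] using congrArg (· * w) a4))
    · exact Or.inl e
    · exact Or.inl (by simpa [mul_assoc] using e.inv_left)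
    · exact Or.inr (by simpa [mul_assoc] using e)
    · exact Or.inr (by simpa [mul_assoc] using e.inv_left)
  have nc : ∀ a b, a * f T * a⁻¹ = f S → b * f T * b⁻¹ = f T * f S → Commute (a * f X * a⁻¹) (f X) →
      Commute (b * f X * b⁻¹) (f X) → Commute (a * f X * a⁻¹) (b * f X * b⁻¹) →
      a ∈ normalizer (K : Set G) ∧ b ∈ normalizer (K : Set G) := fun a b h1 h2 h3 h4 h5 => by
    have key : ∀ w, K ≤ centralizer {w * f X * w⁻¹} → w ∈ normalizer (K : Set G) := fun w e =>
      inv_mem_iff.mp (nK _ fun k hk => by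
        simpa [mul_assoc] using congrArg (w⁻¹ * · * w) (mem_centralizer_singleton_iff.mp (e hk)))
    constructor <;> refine key _ (gen _ ?_ ?_ ?_) <;>
      (first | rw [zx] | rw [← h1, (rt a h3).2] | rw [← h2, (rt b h4).2]) <;>
      rw [zpowers_le, mem_centralizer_singleton_iff]
    exacts [h3.symm, h5.symm, h4.symm, h5]
  have r3 : (s * f N) ^ 3 = 1 := by
    rw [show (s * f N) ^ 3 = s * (f N * s * f N) * s * f N by simp only [pow_three, mul_assoc], br,
      show s * (s * f N * s) * s * f N = s * s * f N * (s * s) * f N by group, ss, mul_one, one_mul, nn]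
  have rT : s * f N * f T * (s * f N)⁻¹ = f S := by
    rw [← sT]; conv_rhs => rw [← nT]
    group
  have nr : s * f N ∉ normalizer (K : Set G) := fun e => by
    have h1 := (H1.card_sup_dvd (zpowers_le.mpr e)).trans (mul_dvd_mul_left _
      ((Nat.card_zpowers _).dvd.trans (orderOf_dvd_of_pow_eq_one r3)))
    rw [hK] at h1
    have h2 := Nat.dvd_gcd h1 ((card_subgroup_dvd_card _).trans hG.dvd)
    have h3 : s * f N ∈ K := (eq_of_le_of_card_ge le_sup_left (hK ▸ Nat.le_of_dvd (by decide) h2)).ge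
      (mem_sup_right (mem_zpowers _))
    have h4 := ((mK _).mp (mul_mem h3 ((mem_normalizer_iff.mp (VK (mV' T (by decide +kernel))) _).mp
      (inv_mem h3)))).2
    rw [← mul_assoc, ← mul_assoc, rT, ← map_inv, ← map_mul, ← map_pow] at h4
    exact h.ne_one (by decide +kernel) h4
  have ri : (s * f N)⁻¹ = f N * s * f N * f N := by
    rw [mul_assoc, nn, mul_one, mul_inv_rev, inv_eq_of_mul_eq_one_left nn, inv_eq_of_mul_eq_one_left ss]
  have nρ : ¬ Commute (s * f N * f X * (s * f N)⁻¹) (f X) := fun e => by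
    generalize hr : s * f N = r at *
    have e' : Commute (r⁻¹ * f X * r⁻¹⁻¹) (f X) := by simpa [mul_assoc] using (e.conj r⁻¹).symm
    refine nr (nc r r⁻¹ rT ?_ e e' ?_).1
    · rw [ri, ← uT]; conv_rhs => rw [← nT]
      group
    · have := e'.conj r⁻¹
      rwa [show r⁻¹ * (r⁻¹ * f X * r⁻¹⁻¹) * r⁻¹⁻¹ = (r ^ 3)⁻¹ * (r * f X * r⁻¹) * r ^ 3 by
        rw [pow_three]; group, r3,
        inv_one, one_mul, mul_one] at this
  have ca := (root s (sS ▸ mV' T (by decide +kernel)) (fun e => c9 (f N * s * f N) (gen _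
    (zx.le.trans le_sup_left) (sT ▸ e.le.trans bot_le) (uT ▸ le_sup_right)))
    (sT ▸ mV' S rfl)).resolve_right nρ
  have cb := (root (f N * s * f N) (uS.symm ▸ mV' S rfl) (fun e => c9 s (gen _
    (zx.le.trans le_sup_left) (sT ▸ le_sup_right) (uT ▸ e.le.trans bot_le)))
    (uT.symm ▸ map_mul f T S ▸ mV' _ (by decide +kernel))).resolve_right fun e => nρ (by
      rw [← ri] at e
      simpa [mul_assoc] using (e.conj (s * f N)).symm)
  have h1 : ⁅s * f X * s⁻¹, f N * s * f N * f X * (f N * s * f N)⁻¹⁆ ≠ 1 := fun e => by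
    obtain ⟨e1, e2⟩ := nc _ _ sT uT ca cb (commutatorElement_eq_one_iff_commute.mp e)
    refine nr (inv_mem_iff.mp ?_)
    rw [ri, mul_assoc, nn, mul_one, show f N * s = s * (s * f N * s) by
      rw [← mul_assoc, ← mul_assoc, ss, one_mul], ← br]
    exact mul_mem e1 e2
  have h2 : ⁅s * f X * s⁻¹, f N * s * f N * f X * (f N * s * f N)⁻¹⁆ ∈ zpowers (f X) := by
    haveI : ((zpowers (f X)).subgroupOf K).Normal := normal_subgroupOf_of_le_normalizer
      fun k hk => mem_normalizer_of_commute x3 ((mK k).mp hk).1.symm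
    haveI := IsPGroup.isMulCommutative_of_card_eq_prime_sq (p := 3)
      (G := K ⧸ (zpowers (f X)).subgroupOf K) (by
        have := card_eq_card_quotient_mul_card_subgroup ((zpowers (f X)).subgroupOf K)
        rw [Nat.card_congr (subgroupOfEquivOfLe (zpowers_le.mpr xK)).toEquiv, Nat.card_zpowers, x3,
          hK] at this
        omega)
    exact (QuotientGroup.eq_one_iff (N := (zpowers (f X)).subgroupOf K)
      ⁅(⟨_, (rt _ ca).1⟩ : K), ⟨_, (rt _ cb).1⟩⁆).mp ((map_commutatorElement (QuotientGroup.mk' _) _ _).trans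
        (commutatorElement_eq_one_iff_mul_comm.mpr (mul_comm' _ _)))
  have hz : ∀ z, Commute z (f X) → Commute z (f N * f X * (f N)⁻¹) → Commute z (s * f X * s⁻¹) →
      z = 1 := fun z a b c => by
    rw [cj N X _ rfl] at b
    obtain ⟨m, rfl⟩ := h.cen z (by
      rw [show T = (X * (N * X * N⁻¹)⁻¹ * X) ^ 2 by decide +kernel, map_pow, map_mul, map_mul, map_inv]
      exact ((a.mul_right b.inv_right).mul_right a).pow_right 2)
    obtain rfl | rfl := (by decide +kernel : ∀ m : M3, m * X = X * m →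
      m * (N * X * N⁻¹) = N * X * N⁻¹ * m → m = 1 ∨ m = T) m (h.inj (by simpa using a.eq))
      (h.inj (by rw [map_mul, map_mul _ _ m]; exact b))
    · exact map_one f
    · exact absurd (h.inj (by simpa [← sS, mul_assoc] using congrArg (· * s) c.eq))
        (by decide +kernel : S * X ≠ X * S)
  obtain ⟨i, hi⟩ := (mem_zpowers_iff_xp x3).mp h2
  obtain rfl | rfl | rfl := (by decide : ∀ i : ZMod 3, i = 0 ∨ i = 1 ∨ i = -1) i
  · exact absurd (hi.symm.trans (xp_zero _)) h1
  · exact psl3_of_sym hG x3 ss nn br ⟨hi.symm.trans (xp_one x3), ca.symm, cb.symm⟩ hz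
  · rw [xp_neg x3, xp_one x3] at hi
    have r : Rel3 _ _ _ := ⟨hi.symm, ca.symm.inv_left, cb.symm.inv_left⟩
    have e : ∀ w, w * (f X)⁻¹ * w⁻¹ = (w * f X * w⁻¹) ^ 2 := fun w => by
      rw [← conj_inv, inv_eq_iff_mul_eq_one, ← pow_succ', show 2 + 1 = _ from (oc w).symm,
        pow_orderOf_eq_one]
    refine psl3_of_sym hG ((orderOf_inv _).trans x3) ss nn br ⟨?_, e s ▸ r.2.1.pow_right 2,
      e _ ▸ r.2.2.pow_right 2⟩ fun z a b c => hz z (by simpa using a)
        (by simpa [mul_assoc] using b.inv_right) (by simpa [mul_assoc] using c.inv_right)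
    rw [e, e, r.pow, show 2 * 2 = orderOf (f X)⁻¹ + 1 by rw [orderOf_inv, x3], pow_succ,
      pow_orderOf_eq_one, one_mul]

end WG

end Cfsg.Agent.H19
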