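import Cfsg.Agent.H19.M11d

/-! Simple groups of order 7920 have a subgroup of index 11 -/

set_option autoImplicit false

namespace Cfsg.Agent.H19

open Cfsg Cfsg.Agent.H4 Cfsg.Agent.H5 Cfsg.Agent.H6 Cfsg.Agent.H11 Subgroup Finset

variable {G : Type*} [Group G]

theorem exists_sylow_count [Finite G] {p : ℕ} [hp : Fact p.Prime] (M : Subgroup G)
    (h : (Nat.card M).factorization p = (Nat.card G).factorization p) :
    ∃ k n, k * Nat.card (Sylow p G) ∣ Nat.card G ∧ k * n = Nat.card M ∧ n % p = 1 := by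
  obtain ⟨Q⟩ : Nonempty (Sylow p M) := inferInstance
  let P : Sylow p G := Sylow.ofCard ((Q : Subgroup M).map M.subtype) (by
    rw [card_map_of_injective (subtype_injective _), Q.card_eq_multiplicity, h])
  refine ⟨Nat.card (normalizer ((Q : Subgroup M) : Set M)), Nat.card (Sylow p M), ?_, ?_, ?_⟩
  · rw [← (normalizer ((P : Subgroup G) : Set G)).card_mul_index, P.card_eq_index_normalizer,
      ← card_map_of_injective (subtype_injective M)]
    exact Nat.mul_dvd_mul (card_dvd_of_le (le_normalizer_map _)) dvd_rfl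
  · rw [Q.card_eq_index_normalizer]; exact card_mul_index _
  · exact Eq.trans (card_sylow_modEq_one p M) (Nat.mod_eq_of_lt hp.out.one_lt)

variable [Fintype G]

open Classical in
/-- a subgroup as a finset -/
noncomputable def fs (M : Subgroup G) : Finset G := univ.filter (· ∈ M)

theorem mem_fs {M : Subgroup G} {g : G} : g ∈ fs M ↔ g ∈ M := by simp [fs]

theorem card_fs (M : Subgroup G) : (fs M).card = Nat.card M := by
  classical rw [Nat.card_eq_fintype_card, Fintype.card_subtype, fs]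

theorem exists_sum_fs {χ : G → ℂ} (hχ : IsCharacter G χ) (M : Subgroup G) [Fintype M] {F : G → ℤ}
    (h : ∀ g ∈ M, χ g = F g) :
    ∃ m : ℕ, ∑ g : M, χ g = Nat.card M * m ∧ ∑ g ∈ fs M, F g = Nat.card M * m := by
  obtain ⟨m, hm⟩ := exists_sum_eq hχ M
  refine ⟨m, hm, ?_⟩
  rw [← sum_subtype (fs M) (fun _ => mem_fs) χ, sum_congr rfl fun g hg => h g (mem_fs.mp hg)] at hm
  exact_mod_cast hm

theorem exists_coset_set {V : Subgroup G} (hV : IsKleinFour V) {v : G} (hv : v ∈ normalizer (V : Set G))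
    (h3 : orderOf v = 3) (hc : centralizer (V : Set G) = V) : ∃ A : Finset G, A.card = 8 ∧
      (∀ g ∈ A, orderOf g = 3 ∧ g ∈ normalizer (V : Set G)) ∧
      ∀ a ∈ A, ∀ b ∈ A, orderOf (a⁻¹ * b) = 2 → a⁻¹ * b ∈ V := by
  classical
  have h0 : ∀ a : G, orderOf a = 3 → a ∉ V := fun a ha e => by
    have := orderOf_dvd_of_pow_eq_one (show a ^ 2 = 1 by rw [sq, klein_sq hV e])
    rw [ha] at this; omega
  have h1 : v ^ 3 = 1 := by rw [← h3, pow_orderOf_eq_one]
  have h2 : ∀ w ∈ V, orderOf (v * w) = 3 := fun w hw => klein_coset hV hv h1 (hc.symm ▸ h0 v h3) hw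
  have h4 : ∀ w ∈ V, orderOf (v⁻¹ * w) = 3 := fun w hw => klein_coset hV (inv_mem hv)
    (by rw [inv_pow, h1, inv_one]) (hc.symm ▸ h0 _ (by rw [orderOf_inv, h3])) hw
  have h5 : v⁻¹ * v⁻¹ = v := by
    rw [← mul_inv_rev, inv_eq_iff_mul_eq_one, ← h1, pow_succ, sq]
  have h6 : ∀ w ∈ V, ∀ w' ∈ V, orderOf ((v * w)⁻¹ * (v⁻¹ * w')) = 3 := fun w hw w' hw' => by
    rw [show (v * w)⁻¹ * (v⁻¹ * w') = w⁻¹ * (v⁻¹ * v⁻¹ * (w' * w⁻¹)) * w⁻¹⁻¹ by group, h5,
      ← orderOf_isConj (isConj_iff.mpr ⟨w⁻¹, rfl⟩), h2 _ (mul_mem hw' (inv_mem hw))]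
  refine ⟨(fs V).image (v * ·) ∪ (fs V).image (v⁻¹ * ·), ?_, fun g hg => ?_, fun a ha b hb e => ?_⟩
  · rw [card_union_of_disjoint, card_image_of_injective _ (mul_right_injective _),
      card_image_of_injective _ (mul_right_injective _), card_fs, hV.card_four]
    simp only [disjoint_left, mem_image, mem_fs]
    rintro _ ⟨w, hw, rfl⟩ ⟨w', hw', e⟩
    have := h6 w hw w' hw'
    simp [e] at this
  · simp only [mem_union, mem_image, mem_fs] at hg
    rcases hg with ⟨w, hw, rfl⟩ | ⟨w, hw, rfl⟩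
    exacts [⟨h2 w hw, mul_mem hv (le_normalizer hw)⟩, ⟨h4 w hw, mul_mem (inv_mem hv) (le_normalizer hw)⟩]
  · simp only [mem_union, mem_image, mem_fs] at ha hb
    rcases ha with ⟨w, hw, rfl⟩ | ⟨w, hw, rfl⟩ <;> rcases hb with ⟨w', hw', rfl⟩ | ⟨w', hw', rfl⟩
    · simpa [mul_assoc] using mul_mem (inv_mem hw) hw'
    · have := h6 w hw w' hw'; omega
    · have := h6 w' hw' w hw
      rw [← orderOf_inv, mul_inv_rev, inv_inv] at this; omega
    · simpa [mul_assoc] using mul_mem (inv_mem hw) hw'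

namespace MDat
variable (D : MDat G) (hG : Nat.card G = 7920)
include D hG

omit hG in
theorem cases (g : G) : g = 1 ∨ orderOf g = 11 ∨ orderOf g = 5 ∨ g ∈ TT G 3 ∨ g ∈ TT G 4 ∨
    g ∈ TT G 5 := by
  have h1 := D.c11 g
  have h2 := D.c5 g
  rw [← orderOf_eq_one_iff]
  simp only [mem_TT, oty]
  split_ifs <;> simp_all

theorem three_le {M : Subgroup G} (hM : Nat.card M ∣ 144) {A : Finset G}
    (hA : ∀ g ∈ A, orderOf g = 3 ∧ g ∈ M) : A.card ≤ 8 := by
  classical
  have h0 : ∀ g ∈ M, orderOf g ∣ 144 := fun g hg =>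
    (orderOf_mk g hg ▸ orderOf_dvd_natCard (⟨g, hg⟩ : M)).trans hM
  have h1 : ∀ g ∈ M, ¬ 11 ∣ orderOf g := fun g hg e => by have := e.trans (h0 g hg); omega
  obtain ⟨m, -, hm⟩ := exists_sum_fs D.θ.2.isCharacter M fun g hg => (D.hT g (h1 g hg)).1
  have h2 : 1 ∉ A := fun e => by simpa using (hA 1 e).1
  have h3 : insert 1 A ⊆ fs M := insert_subset (mem_fs.mpr (one_mem M)) fun g hg =>
    mem_fs.mpr (hA g hg).2
  have h4 : ∑ g ∈ fs M \ insert 1 A, D.T g ≤ 0 := sum_nonpos fun g hg => by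
    obtain ⟨h5, h6⟩ := mem_sdiff.mp hg
    have h7 := h0 g (mem_fs.mp h5)
    have h8 := (D.hT g (h1 g (mem_fs.mp h5))).2
    rcases D.cases g with e | e | e | e | e | e
    · simp [e] at h6
    · rw [e] at h7; omega
    · rw [e] at h7; omega
    · rw [(D.T3_val hG).2 g e]; norm_num
    · have := D.Ψ4 hG e; omega
    · have := D.Ψ5 hG e; omega
  have h5 := (D.hT 1 (by simp)).2
  rw [← sum_sdiff h3, sum_insert h2, sum_congr rfl fun g hg => (D.T3_val hG).2 g (mem3 (hA g hg).1),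
    sum_const, nsmul_eq_mul] at hm
  have := D.one_vals.2.2
  have : (0 : ℤ) ≤ Nat.card M * m := by positivity
  omega

variable [IsSimpleGroup G]

theorem cc2 {z : G} (hz : orderOf z = 2) : cc z = 48 ∧ D.X z = 3 := by
  obtain ⟨u, v, hu, hv, h⟩ := D.exists_uv hG
  have := D.conj2 hG hu hv h hz
  exact ⟨by rw [← cc_conj this, (D.ccu hG hu hv h).1],
    by rw [int_conj D.hX this, (D.valX hG hu hv h).2.1]⟩

theorem X_ge (g : G) : -1 ≤ D.X g ∧ (orderOf g = 3 → D.X g = 2) ∧ (orderOf g = 4 → D.X g = -1) := by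
  obtain ⟨u, v, hu, hv, h⟩ := D.exists_uv hG
  obtain ⟨h1, h2, h3, h4⟩ := D.valX hG hu hv h
  refine ⟨?_, fun e => h1 g (mem3 e), fun e => h4 g (mem_RR.mpr ⟨by rw [mem_TT, e]; rfl, fun f => by
    have := orderOf_isConj f; omega⟩)⟩
  rcases D.cases g with e | e | e | e | e | e
  · rw [e, D.one_vals.1]; norm_num
  · rw [(D.v11 e).1]; norm_num
  · rw [(D.v5 e).1]; norm_num
  · rw [h1 g e]; norm_num
  · by_cases f : IsConj u g
    · rw [int_conj D.hX f, h2]; norm_num
    · rw [h4 g (mem_RR.mpr ⟨e, f⟩)]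
  · rw [h3 g e]; norm_num

theorem cent_klein {V : Subgroup G} (hV : IsKleinFour V) : centralizer (V : Set G) = V := by
  obtain ⟨u, v, hu, hv, h⟩ := D.exists_uv hG
  obtain ⟨w, hw, h1, -⟩ := klein_exists_other hV 1
  have h2 := klein_orderOf hV hw h1
  have h3 : Nat.card (centralizer (V : Set G)) ∣ 48 :=
    (D.cc2 hG h2).1 ▸ dvd_cc fun a ha => (ha w hw).symm
  have h4 : ¬ 3 ∣ Nat.card (centralizer (V : Set G)) := fun e => by
    haveI : Fact (Nat.Prime 3) := ⟨Nat.prime_three⟩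
    obtain ⟨a, ha⟩ := exists_prime_orderOf_dvd_card' 3 e
    rw [← orderOf_coe] at ha
    have h5 := dvd_cc (U := V) (g := w * a) fun b hb => Commute.mul_right (klein_comm hV hb hw) (a.2 b hb)
    rw [D.cc5 hG hu hv h (D.mul_mem5 (by omega) (D.pow4 hG (mem4 h2)) (by omega) (D.pow3 hG (mem3 ha))
      (a.2 w hw)), hV.card_four] at h5
    omega
  obtain ⟨k, -, hk⟩ := (Nat.dvd_prime_pow Nat.prime_two).mp ((by decide :
    ∀ d ∈ Nat.divisors 48, ¬ 3 ∣ d → d ∣ 2 ^ 4) _ (Nat.mem_divisors.mpr ⟨h3, by norm_num⟩) h4)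
  obtain ⟨P, hP⟩ := (IsPGroup.of_card hk).exists_le_sylow
  obtain ⟨X, Y, hM⟩ := D.exists_MC hG hu hv h P
  have h5 : V ≤ centralizer (V : Set G) := fun a ha b hb => klein_comm hV hb ha
  obtain ⟨a, -, e⟩ := hM.klein_eq (h5.trans hP) hV
  refine le_antisymm (fun c hc => ?_) h5
  rw [e, ← hM.commute_Y_iff (hP hc)]
  exact (hc _ (e ▸ subset_closure (by simp))).symm

theorem norm_klein {V : Subgroup G} (hV : IsKleinFour V) :
    Nat.card (normalizer (V : Set G)) = 24 := by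
  obtain ⟨u, v, hu, hv, h⟩ := D.exists_uv hG
  obtain ⟨P, hP⟩ := (klein_isPGroup hV).exists_le_sylow
  obtain ⟨X, Y, hM⟩ := D.exists_MC hG hu hv h P
  have := hM.qd_six_of_tz hV hP ((D.conj2 hG hu hv h hM.orderOf_z).symm.trans
    (D.conj2 hG hu hv h hM.qd_o0))
  rw [D.cent_klein hG hV] at this
  rw [← (V.subgroupOf _).index_mul_card, ← relIndex, this,
    Nat.card_congr (subgroupOfEquivOfLe le_normalizer).toEquiv, hV.card_four]

theorem exists_A {V : Subgroup G} (hV : IsKleinFour V) : ∃ v ∈ normalizer (V : Set G),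
    orderOf v = 3 ∧ ∀ w ∈ V, orderOf (v * w) = 3 := by
  haveI : Fact (Nat.Prime 3) := ⟨Nat.prime_three⟩
  obtain ⟨v, hv⟩ := exists_prime_orderOf_dvd_card' (G := normalizer (V : Set G)) 3
    (by rw [D.norm_klein hG hV]; norm_num)
  rw [← orderOf_coe] at hv
  refine ⟨v, v.2, hv, fun w hw => klein_coset hV v.2 (by rw [← hv, pow_orderOf_eq_one]) ?_ hw⟩
  rw [D.cent_klein hG hV]
  intro e
  have := orderOf_dvd_of_pow_eq_one (show (v : G) ^ 2 = 1 by rw [sq, klein_sq hV e])
  rw [hv] at this; omega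

theorem fix_two {V E : Subgroup G} (hV : IsKleinFour V) (hE : E ≤ normalizer (V : Set G))
    (h8 : Nat.card E = 8) (h24 : ∑ g ∈ fs E, D.X g = 24) [Fintype (normalizer (V : Set G))] :
    ∃ m : ℕ, 2 ≤ m ∧ ∑ g : normalizer (V : Set G), (D.χ : G → ℂ) g =
      Nat.card (normalizer (V : Set G)) * m := by
  classical
  obtain ⟨m, h1, h2⟩ := exists_sum_fs D.χ.2.isCharacter (normalizer (V : Set G)) fun g _ => D.hX g
  obtain ⟨v, hv, h3, -⟩ := D.exists_A hG hV
  obtain ⟨A, h4, h5, -⟩ := exists_coset_set hV hv h3 (D.cent_klein hG hV)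
  have h6 : Disjoint (fs E) A := disjoint_left.mpr fun g hg hg' => by
    have := orderOf_dvd_natCard (⟨g, mem_fs.mp hg⟩ : E)
    rw [orderOf_mk, (h5 g hg').1, h8] at this
    omega
  have h7 := sum_le_sum_of_subset_of_nonneg (f := fun g => D.X g + 1)
    (union_subset (fun g hg => mem_fs.mpr (hE (mem_fs.mp hg))) fun g hg => mem_fs.mpr (h5 g hg).2)
    fun g _ _ => by have := (D.X_ge hG g).1; omega
  rw [sum_union h6, sum_congr rfl fun g (hg : g ∈ A) => by rw [(D.X_ge hG g).2.1 (h5 g hg).1]] at h7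
  simp only [sum_add_distrib, sum_const, nsmul_eq_mul, card_fs, h24, h2, h4, h8,
    D.norm_klein hG hV] at h7
  exact ⟨m, by omega, h1⟩

theorem exists_index : ∃ M : Subgroup G, M.index = 11 := by
  classical
  haveI : Fact (Nat.Prime 11) := ⟨by norm_num⟩
  haveI : Fact (Nat.Prime 5) := ⟨by norm_num⟩
  have hc : ¬ IsMulCommutative G := not_comm_of_card_not_prime (by rw [hG]; norm_num)
  obtain ⟨u, v, hu, hv, h⟩ := D.exists_uv hG
  obtain ⟨P⟩ : Nonempty (Sylow 2 G) := inferInstance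
  obtain ⟨X, Y, hM⟩ := D.exists_MC hG hu hv h P
  set V := closure ({X (hh 3), Y 0} : Set G) with hVd
  set W := closure ({X (hh 3), Y 2} : Set G) with hWd
  set E := closure ({X 2, Y 0} : Set G) with hEd
  have hV : IsKleinFour V := hM.isKleinFour_four (by decide)
  have hW : IsKleinFour W := hM.isKleinFour_four (by decide)
  have hEV : E ≤ normalizer (V : Set G) := fun g hg =>
    (hM.normalizer_four (hM.closure_XY_le _ _ hg)).mpr hg
  have hEW : E ≤ normalizer (W : Set G) := fun g hg =>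
    (hM.normalizer_four (hM.closure_XY_le _ _ hg)).mpr (hM.M_add 0 1 ▸ hg)
  have h8 : Nat.card E = 8 := hM.card_M 0
  have h24 : ∑ g ∈ fs E, D.X g = 24 := by
    let f : Fin 4 ⊕ Fin 4 → G := Sum.elim (fun i => X (![0, 2, hh 3, -qq 3] i)) fun i => Y (![0, 2, 4, 6] i)
    have hf : Function.Injective f := by
      rintro (i | i) (j | j) e
      · exact congrArg _ ((by decide : Function.Injective ![0, 2, hh 3, -qq 3]) (hM.X_inj.mp e))
      · exact absurd e (hM.X_ne_Y _ _)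
      · exact absurd e (hM.Y_ne_X _ _)
      · exact congrArg _ ((by decide : Function.Injective (![0, 2, 4, 6] : Fin 4 → ZMod (2 ^ 3)))
          (hM.Y_inj.mp e))
    have h1 : univ.image f = fs E := eq_of_subset_of_card_le (fun g hg => by
      obtain ⟨i | i, -, rfl⟩ := mem_image.mp hg
      · exact mem_fs.mpr (hM.X_mem_M.mpr (by clear hg; revert i; decide))
      · exact mem_fs.mpr (hM.Y_mem_M.mpr (by clear hg; revert i; decide)))
      (by rw [card_image_of_injective _ hf, card_fs, h8]; rfl)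
    have h2 : ∀ a, 0 + hh 3 * a = 0 → D.X (Y a) = 3 := fun a ha => (D.cc2 hG (hM.orderOf_Y_two.mpr ha)).2
    rw [← h1, sum_image fun _ _ _ _ e => hf e]
    simp [f, Fin.sum_univ_four, hM.X_zero, D.one_vals.1, (D.cc2 hG hM.orderOf_z).2, h2 0 (by decide),
      h2 2 (by decide), h2 4 (by decide), h2 6 (by decide),
      (D.X_ge hG _).2.2 (hM.orderOf_X_four.mpr (Or.inr rfl)),
      (D.X_ge hG _).2.2 (hM.orderOf_X_four (a := 2) |>.mpr (Or.inl (by decide)))]
  obtain ⟨d, h1, h2⟩ := exists_sum_fs D.χ.2.isCharacter E fun g _ => D.hX g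
  obtain ⟨a, ha, h3⟩ := D.fix_two hG hV hEV h8 h24
  obtain ⟨b, hb, h4⟩ := D.fix_two hG hW hEW h8 h24
  rw [h24, h8] at h2
  have h5 := sup_ne_top_of_fix (ne_one_of_deg (by rw [D.dχ]; omega)) hEV hEW h1 h3 h4 (by omega)
  set H := normalizer (V : Set G) ⊔ normalizer (W : Set G) with hH
  set M := normalizer (H : Set G)
  have hVM : normalizer (V : Set G) ≤ M := le_sup_left.trans le_normalizer
  have hWM : normalizer (W : Set G) ≤ M := le_sup_right.trans le_normalizer
  have hY0 : Y 0 ∈ V := subset_closure (by simp)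
  have hY2 : Y 2 ∈ W := subset_closure (by simp)
  have h6 : M ≠ ⊤ := fun e => by
    rcases (normalizer_eq_top_iff.mp e).eq_bot_or_eq_top with f | f
    · exact hM.Y_ne_one 0 (mem_bot.mp (f ▸ (le_sup_left : _ ≤ H) (le_normalizer hY0)))
    · exact h5 f
  have h7 : (P : Subgroup G) ≤ M := by
    refine hM.le_of_X_one_Y (cj_eq_iff.mp ?_) (hVM (le_normalizer hY0))
    have e1 : cj (X 1) V = W := hM.cj_closure_XY _ _ _
    have e2 : cj (X 1) W = V := (hM.cj_closure_XY _ _ _).trans (Subgroup.ext fun g => by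
      rw [hM.mem_four, hM.mem_four, show (2 : ZMod (2 ^ 3)) - 2 * 1 + hh 3 * 1 = 0 + hh 3 by decide,
        show (0 : ZMod (2 ^ 3)) + hh 3 + hh 3 = 0 by decide]; tauto)
    rw [hH, cj_sup, cj_normalizer, cj_normalizer, e1, e2, sup_comm]
  have h9 := card_dvd_of_le h7
  have h10 := card_dvd_of_le hVM
  have h11 := two_mul_card_dvd_factorial_index hc M h6
  have h12 := M.card_mul_index
  rw [card_syl2 hG] at h9
  rw [D.norm_klein hG hV] at h10
  rw [hG] at h11 h12
  have h13 : ¬ Nat.card M ∣ 144 := fun e => by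
    obtain ⟨v, hv, h3, -⟩ := D.exists_A hG hV
    obtain ⟨A, h4, h5, h6⟩ := exists_coset_set hV hv h3 (D.cent_klein hG hV)
    obtain ⟨w, hw, h7, h8⟩ := D.exists_A hG hW
    have key : ∀ g, orderOf g = 3 → g ∈ M → g ∈ A := fun g h1 h2 => by
      by_contra hn
      have := D.three_le hG e (A := insert g A) fun a ha => by
        rcases mem_insert.mp ha with rfl | ha
        exacts [⟨h1, h2⟩, ⟨(h5 a ha).1, hVM (h5 a ha).2⟩]
      rw [card_insert_of_notMem hn] at this
      omega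
    have := h6 _ (key w h7 (hWM hw)) _ (key _ (h8 _ hY2) (hWM (mul_mem hw (le_normalizer hY2))))
      (by rw [inv_mul_cancel_left]; exact hM.orderOf_Y_two.mpr (by decide))
    rw [inv_mul_cancel_left, hM.mem_four] at this
    simp only [hM.Y_ne_one, hM.Y_ne_X, hM.Y_inj, false_or] at this
    revert this; decide
  have h14 : Nat.card M ≠ 240 := fun e => by
    obtain ⟨k, n, f1, f2, f3⟩ := exists_sylow_count (p := 5) M (by rw [e, hG]; decide +kernel)
    rw [D.syl5, hG, show 7920 = 20 * 396 from rfl, Nat.mul_dvd_mul_iff_right (by norm_num)] at f1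
    have := Nat.le_of_dvd (by norm_num) f1
    interval_cases k <;> omega
  have h15 : Nat.card M ≠ 528 := fun e => by
    obtain ⟨k, n, f1, f2, f3⟩ := exists_sylow_count (p := 11) M (by rw [e, hG]; decide +kernel)
    rw [D.syl11, hG, show 7920 = 55 * 144 from rfl, Nat.mul_dvd_mul_iff_right (by norm_num)] at f1
    have := Nat.le_of_dvd (by norm_num) f1
    interval_cases k <;> omega
  have h16 := (by decide +kernel : ∀ m ∈ Nat.divisors 7920, 16 ∣ m → 24 ∣ m → ¬ m ∣ 144 → m ≠ 240 →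
    m ≠ 528 → 2 * 7920 ∣ (7920 / m).factorial → m = 720) _
    (Nat.mem_divisors.mpr ⟨Dvd.intro _ h12, by norm_num⟩) h9 h10 h13 h14 h15
    (by rwa [← h12, Nat.mul_div_cancel_left _ Nat.card_pos, h12])
  exact ⟨M, by rw [h16] at h12; omega⟩

end MDat

end Cfsg.Agent.H19
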