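import Cfsg.Agent.H19.M11e
import Cfsg.Agent.S0426
import Cfsg.Agent.S0411
import Cfsg.Agent.H16.M24c

/-! Uniqueness of the simple group of order 7920 -/

set_option autoImplicit false

namespace Cfsg.Agent.H19

open Cfsg Cfsg.Agent.H2.Pm Cfsg.Agent.H2.St MulAction Finset Equiv
open scoped Pointwise

theorem perm5_top (K : Subgroup (Perm (Fin 5))) (h1 : swap 3 4 ∈ K) (h2 : swap 0 2 * swap 0 1 ∈ K)
    (h3 : 12 < Nat.card K) : K = ⊤ := by
  classical
  obtain ⟨σ, h4, h5⟩ : ∃ σ ∈ K, σ 3 ≠ 3 ∧ σ 3 ≠ 4 := by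
    by_contra hn
    push Not at hn
    have h6 := card_le_card (show univ.filter (· ∈ K) ⊆ univ.filter fun σ : Perm (Fin 5) =>
      (σ 3 ≠ 3 → σ 3 = 4) ∧ (σ 4 ≠ 3 → σ 4 = 4) from fun σ hσ => mem_filter.mpr ⟨mem_univ _,
        hn σ (mem_filter.mp hσ).2, by simpa using hn _ (K.mul_mem (mem_filter.mp hσ).2 h1)⟩)
    rw [← Fintype.card_subtype, ← Nat.card_eq_fintype_card] at h6
    exact absurd (h3.trans_le h6) (by decide +kernel)
  have h6 : orbit K (3 : Fin 5) = Set.univ := Set.eq_univ_of_forall fun j => by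
    rcases (by decide +kernel : ∀ i j : Fin 5, i ≠ 3 → i ≠ 4 → j = 3 ∨ j = 4 ∨ j = i ∨
      j = (swap 0 2 * swap 0 1 : Perm (Fin 5)) i ∨
      j = (swap 0 2 * swap 0 1 * (swap 0 2 * swap 0 1) : Perm (Fin 5)) i) _ j h5.1 h5.2 with
      rfl | rfl | rfl | rfl | rfl
    exacts [⟨1, rfl⟩, ⟨⟨_, h1⟩, by simp⟩, ⟨⟨σ, h4⟩, rfl⟩, ⟨⟨_, K.mul_mem h2 h4⟩, rfl⟩,
      ⟨⟨_, K.mul_mem (K.mul_mem h2 h2) h4⟩, rfl⟩]
  have h7 := ncard_orbit_eq_index (H := K) (3 : Fin 5)
  rw [h6, Set.ncard_univ, Nat.card_eq_fintype_card] at h7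
  refine Perm.subgroup_eq_top_of_swap_mem (by decide) ?_ h1 ⟨3, 4, by decide, rfl⟩
  rw [h7, ← Nat.card_eq_fintype_card]
  exact Subgroup.index_dvd_card _

variable {G X : Type*} [Group G] [MulAction G X] [Fintype G] [Fintype X] [DecidableEq X]

theorem sharp_ext (hs : Sharp G X 4) {x : Fin 4 → X} (hx : x.Injective) {g k : G}
    (h : ∀ i, g • x i = k • x i) : g = k :=
  (inv_mul_eq_one.mp (hs (k⁻¹ * g) (univ.image x) (by rw [card_image_of_injective _ hx]; rfl)
    fun z hz => by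
      obtain ⟨i, -, rfl⟩ := mem_image.mp hz
      rw [mul_smul, h, inv_smul_smul])).symm

theorem exists_five (hn : Fintype.card X = 11) (h4 : IsMultiplyPretransitive G X 4)
    (hs : Sharp G X 4) : ∃ x : Fin 5 → X, x.Injective ∧ ∀ σ : Perm (Fin 5), ∃ g : G,
      ∀ i, g • x i = x (σ i) := by
  classical
  haveI := hs.faithful (by omega)
  obtain ⟨y, hy⟩ := exists_inj (α := X) (q := 4) (by omega)
  obtain ⟨r, hr⟩ := mt_iff.mp h4 y (y ∘ ![1, 2, 0, 3]) hy (hy.comp (by decide))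
  have r0 : r • y 0 = y 1 := hr 0
  have r1 : r • y 1 = y 2 := hr 1
  have r2 : r • y 2 = y 0 := hr 2
  have r3 : r • y 3 = y 3 := hr 3
  have hr1 : r ≠ 1 := fun e => by simpa [e, hy.eq_iff] using r0
  have hr3 : r ^ 3 = 1 := sharp_ext hs hy fun i => by
    fin_cases i <;> simp [pow_succ, mul_smul, r0, r1, r2, r3]
  have h1 : #(Fx X r) = 2 := by
    haveI : Fact (Nat.Prime 3) := ⟨Nat.prime_three⟩
    have h2 := prime_dvd_card_support (σ := toPerm r) Nat.prime_three (orderOf_eq_prime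
      (by rw [← toPermHom_apply, ← map_pow, hr3, map_one]) fun e => hr1
        (toPerm_injective (β := X) (e.trans (map_one (toPermHom G X)).symm)))
    have h3 : (toPerm r : Perm X).support = (Fx X r)ᶜ := by ext; simp
    rw [h3, card_compl, hn] at h2
    have h5 : #(Fx X r) < 4 := by
      by_contra hlt
      obtain ⟨s, h6, h7⟩ := exists_subset_card_eq (not_lt.mp hlt)
      exact hr1 (hs r s h7 fun z hz => mem_Fx.mp (h6 hz))
    omega
  obtain ⟨e, he, hne⟩ := exists_mem_ne (s := Fx X r) (by omega) (y 3)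
  have h2 : Fx X r = {y 3, e} := (eq_of_subset_of_card_le (insert_subset (mem_Fx.mpr r3)
    (singleton_subset_iff.mpr he)) (by rw [card_pair hne.symm, h1])).symm
  rw [mem_Fx] at he
  have e0 : y 0 ≠ e := fun f => by rw [← f, r0] at he; simp [hy.eq_iff] at he
  have e1 : y 1 ≠ e := fun f => by rw [← f, r1] at he; simp [hy.eq_iff] at he
  have e2 : y 2 ≠ e := fun f => by rw [← f, r2] at he; simp [hy.eq_iff] at he
  have hz := inj4 (hy.ne (by decide : (0 : Fin 4) ≠ 1)) (hy.ne (by decide : (0 : Fin 4) ≠ 2)) e0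
    (hy.ne (by decide : (1 : Fin 4) ≠ 2)) e1 e2
  obtain ⟨t, ht⟩ := mt_iff.mp h4 y _ hy hz
  have t0 : t • y 0 = y 0 := ht 0
  have t1 : t • y 1 = y 1 := ht 1
  have t2 : t • y 2 = y 2 := ht 2
  have t3 : t • y 3 = e := ht 3
  have h3 : r * t = t * r := sharp_ext hs hy fun i => by
    fin_cases i <;> simp [mul_smul, r0, r1, r2, r3, t0, t1, t2, t3, he]
  have t4 : t • e = y 3 := by
    have : t • e ∈ Fx X r := by rw [mem_Fx, ← mul_smul, h3, mul_smul, he]
    rw [h2, mem_insert, mem_singleton] at this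
    exact this.resolve_right fun f => hne (smul_left_cancel t (f.trans t3.symm))
  let x : Fin 5 → X := ![y 0, y 1, y 2, y 3, e]
  have hx : x.Injective := by
    intro i j
    fin_cases i <;> fin_cases j <;> simp [x, hy.eq_iff, e0, e1, e2, hne, e0.symm, e1.symm, e2.symm, hne.symm]
  let K : Subgroup (Perm (Fin 5)) := ⟨⟨⟨{σ | ∃ g : G, ∀ i, g • x i = x (σ i)},
    fun ⟨g, hg⟩ ⟨k, hk⟩ => ⟨g * k, fun i => by rw [mul_smul, hk, hg]; rfl⟩⟩, 1, fun i => by simp⟩,
    fun {σ} ⟨g, hg⟩ => ⟨g⁻¹, fun i => by rw [inv_smul_eq_iff, hg]; simp⟩⟩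
  refine ⟨x, hx, fun σ => (perm5_top K ⟨t, fun i => ?_⟩ ⟨r, fun i => ?_⟩ ?_ ▸ Subgroup.mem_top σ :
    σ ∈ K)⟩
  · fin_cases i
    exacts [t0, t1, t2, t3, t4]
  · fin_cases i
    exacts [r0, r1, r2, r3, he]
  set b := univ.image x
  have h5 : ∀ g : stabilizer G b, ∃ σ : K, ∀ i, (g : G) • x i = x (σ.1 i) := fun g => by
    have h6 : ∀ i, ∃ j, x j = (g : G) • x i := fun i => by
      have : (g : G) • x i ∈ (g : G) • b := smul_mem_smul_finset (mem_image_of_mem _ (mem_univ i))
      rw [show (g : G) • b = b from g.2] at this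
      simpa [b] using this
    choose f hf using h6
    have h7 : f.Injective := fun i j e => hx (smul_left_cancel (g : G) (by rw [← hf, ← hf, e]))
    exact ⟨⟨ofBijective f h7.bijective_of_finite, g, fun i => (hf i).symm⟩, fun i => (hf i).symm⟩
  choose φ hφ using h5
  have h6 := Nat.card_le_card_of_injective φ fun g k e => Subtype.ext (sharp_ext hs hy fun i => by
    have := (hφ g i.castSucc).trans (e ▸ hφ k i.castSucc).symm
    fin_cases i <;> exact this)
  have h7 := Set.ncard_le_ncard (show orbit G b ⊆ (powersetCard 5 univ : Finset (Finset X)) by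
    rintro _ ⟨g, rfl⟩
    simp [b, card_image_of_injective _ hx])
  rw [ncard_orbit_eq_index, Set.ncard_coe_finset, card_powersetCard, card_univ, hn] at h7
  have h8 := (stabilizer G b).index_mul_card
  rw [hs.card_eq (by omega) h4, hn] at h8
  by_contra hlt
  have := Nat.mul_le_mul h7 (h6.trans (not_lt.mp hlt))
  rw [h8] at this
  exact absurd this (by decide)

theorem exists_steiner (hn : Fintype.card X = 11) (h4 : IsMultiplyPretransitive G X 4)
    (hs : Sharp G X 4) : ∃ B : Set (Finset X), IsSteinerSystem 4 5 B ∧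
      Nonempty (G ≃* setSystemAut B) := by
  classical
  haveI := hs.faithful (by omega)
  obtain ⟨x, hx, h⟩ := exists_five hn h4 hs
  have hx4 : (x ∘ Fin.castSucc).Injective := hx.comp (Fin.castSucc_injective _)
  have h1 : ∀ g : G, (∃ σ : Perm (Fin 5), ∀ i, g • x i = x (σ i)) → g • univ.image x = univ.image x :=
    fun g ⟨σ, hσ⟩ => eq_of_subset_of_card_le (fun z hz => by
      obtain ⟨_, h2, rfl⟩ := mem_smul_finset.mp hz
      obtain ⟨i, -, rfl⟩ := mem_image.mp h2
      exact hσ i ▸ mem_image_of_mem _ (mem_univ _)) (card_smul_finset _ _).ge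
  have hB : IsSteinerSystem 4 5 (orbit G (univ.image x)) := by
    refine ⟨by rintro _ ⟨g, rfl⟩; simp [card_image_of_injective _ hx], fun s hs' => ?_⟩
    let y : Fin 4 → X := fun i => (s.equivFinOfCardEq hs').symm i
    have hy : y.Injective := Subtype.val_injective.comp (Equiv.injective _)
    obtain ⟨k, hk⟩ := mt_iff.mp h4 _ y hx4 hy
    refine ⟨k • univ.image x, ⟨⟨k, rfl⟩, fun z hz => ?_⟩, ?_⟩
    · have := hk (s.equivFinOfCardEq hs' ⟨z, hz⟩)
      simp only [y, symm_apply_apply] at this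
      exact this ▸ smul_mem_smul_finset (mem_image_of_mem _ (mem_univ _))
    rintro _ ⟨⟨g, rfl⟩, hg⟩
    have h2 : ∀ i, ∃ j, g • x j = y i := fun i => by
      obtain ⟨_, h2, e⟩ := mem_smul_finset.mp (hg ((s.equivFinOfCardEq hs').symm i).2)
      obtain ⟨j, -, rfl⟩ := mem_image.mp h2
      exact ⟨j, e⟩
    choose f hf using h2
    obtain ⟨σ, hσ⟩ := Perm.exists_extending_pair Fin.castSucc f (Fin.castSucc_injective 4)
      fun i j e => hy (by rw [← hf, ← hf, e])
    obtain ⟨m, hm⟩ := h σ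
    rw [← sharp_ext hs hx4 (g := g * m) (k := k) fun i => by
      rw [hk, mul_smul, Function.comp, hm, hσ, hf], mul_smul, h1 m ⟨σ, hm⟩]
  refine ⟨_, hB, ⟨(MonoidHom.ofInjective (f := toPermHom G X) toPerm_injective).trans
    (MulEquiv.subgroupCongr (Subgroup.eq_of_le_of_card_ge ?_ ?_))⟩⟩
  · rintro _ ⟨g, rfl⟩
    exact mem_aut_of fun b hb => smul_mem_orbit_of_mem (h := g) hb
  · rw [(S0426.result hn hB).1.2, ← Nat.card_congr (MonoidHom.ofInjective (f := toPermHom G X)
      toPerm_injective).toEquiv, hs.card_eq (by omega) h4, hn]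
    decide

theorem aut_equiv {α β : Type*} [DecidableEq α] [DecidableEq β] {B : Set (Finset α)}
    {B' : Set (Finset β)} (h : SetSystemIso B B') : Nonempty (setSystemAut B ≃* setSystemAut B') := by
  obtain ⟨e, rfl⟩ := iso_iff.mp h
  refine ⟨(e.permCongrHom.subgroupMap _).trans (MulEquiv.subgroupCongr (Subgroup.ext fun σ => ?_))⟩
  refine Subgroup.mem_map_equiv.trans ?_
  rw [mem_aut, mem_aut, tr_tr]
  refine ⟨fun h => ?_, fun h => ?_⟩
  · have := tr_trans_symm h.symm
    rw [← this]; congr 1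
    ext; simp
  · conv_rhs => rw [← h, tr_tr]
    congr 1; ext; simp

theorem steiner_of_simple (G : Type*) [Group G] [Finite G] [IsSimpleGroup G] (hG : Nat.card G = 7920) :
    ∃ B : Set (Finset (Fin 11)), IsSteinerSystem 4 5 B ∧ Nonempty (G ≃* setSystemAut B) := by
  classical
  haveI := Fintype.ofFinite G
  have hc : ¬ IsMulCommutative G := not_comm_of_card_not_prime (by rw [hG]; norm_num)
  obtain ⟨D⟩ := nonempty_MDat hG
  obtain ⟨M, hM⟩ := D.exists_index hG
  haveI := Fintype.ofFinite (G ⧸ M)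
  have hn : Fintype.card (G ⧸ M) = 11 := by rw [← Nat.card_eq_fintype_card]; exact hM
  have hi := toPermHom_injective_of_simple (exists_smul_ne_quotient M fun e => by simp [e] at hM)
  haveI : FaithfulSMul G (G ⧸ M) := ⟨fun h => hi (Equiv.ext h)⟩
  obtain ⟨h4, -⟩ := (deg_eleven (G := G) hn (fun h => hc ⟨⟨IsSimpleGroup.comm_iff_isSolvable.mpr h⟩⟩)
    fun h => by
      haveI : Nontrivial (G ⧸ M) := Fintype.one_lt_card_iff_nontrivial.mp (by omega)
      have := Subgroup.card_le_of_le h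
      rw [← Nat.card_congr (MonoidHom.ofInjective hi).toEquiv, hG, @nat_card_alternatingGroup _ _ (_) _,
        Nat.card_eq_fintype_card, hn] at this
      exact absurd this (by decide)).resolve_right (by omega)
  obtain ⟨B, hB, ⟨e⟩⟩ := exists_steiner hn h4 fun g s hs hg => by
    have := card_eq_of_mt h4 s hs
    rw [hG, hn] at this
    have h3 : Nat.card (fixingSubgroup G (s : Set (G ⧸ M))) = 1 := by
      simp only [Nat.descFactorial] at this; omega
    rw [← Subgroup.mem_bot, ← Subgroup.card_eq_one.1 h3, mem_fixingSubgroup_iff]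
    exact hg
  have f := (Fintype.equivFinOfCardEq hn).symm
  obtain ⟨e'⟩ := aut_equiv (iso_iff.mpr ⟨f, rfl⟩ : SetSystemIso (tr f B) B)
  exact ⟨_, steiner_tr f hB, ⟨e.trans e'.symm⟩⟩

/-- any two simple groups of order 7920 are isomorphic -/
theorem uniq7920 {G H : Type*} [Group G] [Finite G] [IsSimpleGroup G] [Group H] [Finite H]
    [IsSimpleGroup H] (hG : Nat.card G = 7920) (hH : Nat.card H = 7920) : Nonempty (G ≃* H) := by
  obtain ⟨B, hB, ⟨e⟩⟩ := steiner_of_simple G hG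
  obtain ⟨B', hB', ⟨e'⟩⟩ := steiner_of_simple H hH
  obtain ⟨f⟩ := aut_equiv (S0411.result (by simp) (by simp) hB hB')
  exact ⟨(e.trans f).trans e'.symm⟩

theorem isoM11_of_card {G : Type*} [Group G] [Finite G] [IsSimpleGroup G] (hG : Nat.card G = 7920) :
    Spor.IsoM11 G := by
  haveI := H16.simple_K11
  obtain ⟨e⟩ := uniq7920 hG H16.card_K11
  exact ⟨e.trans H16.sporM11⟩

end Cfsg.Agent.H19
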