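import Cfsg.Agent.H19.BR1

/-! Self-centralizing element of prime order, few Sylow subgroups: character analysis -/

set_option autoImplicit false

namespace Cfsg.Agent.H19

open Cfsg Cfsg.Agent.H4 Cfsg.Agent.H5 Cfsg.Agent.H6
open scoped ComplexConjugate

variable {G : Type*} [Group G] {p : ℕ} [hp : Fact p.Prime] {x : G} [Fintype G]

/-- standing hypotheses of Brauer's theorem -/
structure FewR (h : PO p x ⊥) (n : ℕ) : Prop where
  perf : commutator G = ⊤
  hs : sN x = n * p + 1
  hn : NR p n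
  pos : 0 < n

namespace BD
variable {h : PO p x ⊥} (B : BD h) {n : ℕ} (F : FewR h n)
include F

theorem fd_casesR (χ : IrrCharacter G) : χ = irrOne G ∨
    (charDegree (χ : G → ℂ) = sN x ∧ fd p x (χ : G → ℂ) = n + 1) ∨
    (charDegree (χ : G → ℂ) = p - 1 ∧ fd p x (χ : G → ℂ) = 0) ∨ (∃ q, B.μ q = χ) ∨
    (χ ∉ B.X ∧ (∀ q, B.μ q ≠ χ) ∧ p * fd p x (χ : G → ℂ) = charDegree (χ : G → ℂ)) := by
  have hp0 : (p : ℤ) ≠ 0 := by exact_mod_cast hp.out.ne_zero
  rcases B.cases χ with h1 | h1 | h1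
  · have h2 := B.fd_X h1
    rcases B.degX_casesR F.perf F.hs F.hn F.pos h1 with e | e | e
    · exact Or.inl e
    · refine Or.inr (Or.inl ⟨e.2, ?_⟩)
      rw [e.1, e.2, F.hs] at h2
      have : (p : ℤ) * fd p x (χ : G → ℂ) = p * (n + 1) := by rw [h2]; push_cast; ring
      exact_mod_cast mul_left_cancel₀ hp0 this
    · refine Or.inr (Or.inr (Or.inl ⟨e.2, ?_⟩))
      rw [e.1, e.2, Nat.cast_sub hp.out.one_le] at h2
      have : (p : ℤ) * fd p x (χ : G → ℂ) = p * 0 := by rw [h2]; push_cast; ring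
      exact_mod_cast mul_left_cancel₀ hp0 this
  · exact Or.inr (Or.inr (Or.inr (Or.inl h1)))
  · exact Or.inr (Or.inr (Or.inr (Or.inr ⟨h1.1, h1.2, B.fd_other h1.1 h1.2⟩)))

include B in
theorem one_lt_eR : 1 < eN h.ord := by
  obtain ⟨α, β, h1, h2, -⟩ := B.exists_countsR F.perf F.hs F.hn F.pos
  by_contra hc
  obtain rfl : α = 0 := by omega
  obtain rfl : β = 0 := by omega
  have := B.z_pos
  have h3 : B.z = 1 := by rcases B.hε with e | e <;> rw [e] at h2 <;> push_cast at h2 <;> omega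
  exact B.μ_ne_one 1 (irr_eq_one_of_perfect F.perf h3)

include B in
theorem p_ne_twoR : p ≠ 2 := by
  have h1 := B.one_lt_eR F
  have h2 := eN_mul' h.ord
  have h3 := tN_pos h.ord
  intro e
  nlinarith

theorem case_posR (hε : B.ε = 1) (hz : B.z = eN h.ord) : n = 1 ∧ tN h.ord = 2 := by
  classical
  have he := B.one_lt_eR F
  have hμ : ∀ i : ZMod p, (B.μ 1 : G → ℂ) (xp x i) = per (EE h.ord) 1 i := fun i => by
    by_cases hi : i = 0
    · rw [hi, xp_zero, B.μ_one, hz, per_zero]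
    · rw [B.valμ' _ hi, hε]; simp
  have hθ : IsCharacter G ((B.μ 1 : G → ℂ) * fun g => conj ((B.μ 1 : G → ℂ) g)) :=
    (B.μ 1).2.isCharacter.mul (B.μ 1).2.isCharacter.conj
  obtain ⟨m, h1, -, h2, h3⟩ := exists_mult h.ord hθ
  have d1 : charDegree ((B.μ 1 : G → ℂ) * fun g => conj ((B.μ 1 : G → ℂ) g)) = eN h.ord ^ 2 :=
    charDegree_eq_of (by simp [B.μ_one, hz, sq])
  have d2 : fd p x ((B.μ 1 : G → ℂ) * fun g => conj ((B.μ 1 : G → ℂ) g)) = eN h.ord := by
    have := p_mul_fd h.ord hθ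
    rw [hθ.charDegree_cast, ← sum_xp_eq] at this
    simp only [Pi.mul_apply, hμ, sum_per_mul_conj, if_true] at this
    exact_mod_cast mul_left_cancel₀ p_ne_zero_C this
  have d3 : m (irrOne G) = 1 := by
    have := h1 (irrOne G)
    rw [show ((irrOne G : IrrCharacter G) : G → ℂ) = fun _ => 1 from rfl,
      show ((B.μ 1 : G → ℂ) * fun g => conj ((B.μ 1 : G → ℂ) g)) =
        fun g => (B.μ 1 : G → ℂ) g * conj ((B.μ 1 : G → ℂ) g) from rfl,
      ← classInner_eq_mul_conj_one, (B.μ 1).2.classInner_self] at this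
    exact_mod_cast this.symm
  rw [d1, ← Finset.add_sum_erase _ _ (Finset.mem_univ (irrOne G)), d3, charDegree_irrOne] at h2
  rw [d2, ← Finset.add_sum_erase _ _ (Finset.mem_univ (irrOne G)), d3, fd_one h.ord] at h3
  have h4 : sN x * ∑ χ ∈ Finset.univ.erase (irrOne G), m χ * fd p x (χ : G → ℂ) ≤
      (n + 1) * ∑ χ ∈ Finset.univ.erase (irrOne G), m χ * charDegree (χ : G → ℂ) := by
    rw [Finset.mul_sum, Finset.mul_sum]
    refine Finset.sum_le_sum fun χ hχ => ?_
    rw [mul_left_comm, mul_left_comm (n + 1)]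
    refine Nat.mul_le_mul_left _ ?_
    rcases B.fd_casesR F χ with e | e | e | ⟨q, rfl⟩ | e
    · simp [e] at hχ
    · rw [e.1, e.2, mul_comm]
    · simp [e.2]
    · have := B.fd_μ q
      rw [hε, hz, one_mul, sub_self, mul_eq_zero] at this
      rcases this with e | e
      · exact absurd (by exact_mod_cast e) hp.out.ne_zero
      · rw [show fd p x (B.μ q : G → ℂ) = 0 by exact_mod_cast e]; simp
    · rw [← e.2.2, ← mul_assoc, F.hs]
      exact Nat.mul_le_mul_right _ (by have := hp.out.pos; nlinarith)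
  have h5 := eN_mul' h.ord
  obtain ⟨e, he'⟩ : ∃ e, eN h.ord = e + 1 := ⟨eN h.ord - 1, by omega⟩
  rw [he'] at h2 h3 h5 he
  rw [show ∑ χ ∈ Finset.univ.erase (irrOne G), m χ * fd p x (χ : G → ℂ) = e by omega,
    show ∑ χ ∈ Finset.univ.erase (irrOne G), m χ * charDegree (χ : G → ℂ) = (e + 2) * e by
      nlinarith, ← mul_assoc, F.hs] at h4
  have h6 := Nat.le_of_mul_le_mul_right h4 (by omega)
  rw [← h5] at h6
  have h7 : n * tN h.ord ≤ n + 1 :=
    Nat.le_of_mul_le_mul_left (c := e + 1) (by nlinarith) (by omega)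
  have h8 : tN h.ord ≠ 1 := by
    intro ht
    have h9 : (p : ℂ) = eN h.ord + 1 := by
      have := eN_mul' h.ord
      rw [ht, mul_one] at this
      exact_mod_cast this.symm
    have := even_t_of_char h F.perf (B.p_ne_twoR F) (B.μ 1).2.isCharacter (by
      rw [B.μ_one, hz, h9]; simp) (by rw [B.sg_μ, hε, h9]; simp)
    omega
  have h9 := tN_pos h.ord
  have h10 := F.pos
  have h11 : 2 ≤ tN h.ord := by omega
  constructor <;> nlinarith

variable (hε : B.ε = -1) (hz : tN h.ord * B.z = sN x)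
include hε hz

theorem fd_μR (q : (ZMod p)ˣ ⧸ EE h.ord) : p * fd p x (B.μ q : G → ℂ) = B.z + eN h.ord := by
  have := B.fd_μ q
  rw [hε] at this
  exact_mod_cast this.trans (by ring : _ = (B.z : ℤ) + eN h.ord)

theorem t_mul_fdR (q : (ZMod p)ˣ ⧸ EE h.ord) : tN h.ord * fd p x (B.μ q : G → ℂ) = n + 1 := by
  refine Nat.eq_of_mul_eq_mul_left hp.out.pos ?_
  have := eN_mul' h.ord
  rw [mul_left_comm, B.fd_μR F hε hz, mul_add, hz, F.hs]
  nlinarith

theorem mult_oneR {χ : IrrCharacter G} (hne : classInner (indN x 1) χ ≠ 0) :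
    χ = irrOne G ∨ (χ ∉ B.X ∧ ∀ q, B.μ q ≠ χ) := by
  classical
  obtain ⟨m, h1, -, h2, h3⟩ := exists_mult h.ord (isCharacter_indN (x := x) 1)
  have d3 : m (irrOne G) = 1 := by
    have := h1 (irrOne G)
    rw [inner_indN_one, if_pos rfl] at this
    exact_mod_cast this.symm
  rw [charDegree_indN, ← Finset.add_sum_erase _ _ (Finset.mem_univ (irrOne G)), d3,
    charDegree_irrOne, F.hs] at h2
  rw [fd_indN h lin_one F.hs, ← Finset.add_sum_erase _ _ (Finset.mem_univ (irrOne G)), d3,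
    fd_one h.ord] at h3
  have h0 : ∀ χ : IrrCharacter G, fd p x (χ : G → ℂ) = 0 → m χ = 0 := fun χ hχ => by
    have := h1 χ
    rw [inner_indN_eq_zero h.ord lin_one χ.2.isCharacter hχ] at this
    exact_mod_cast this.symm
  have h4 := (Finset.sum_eq_sum_iff_of_le (s := Finset.univ.erase (irrOne G))
    (f := fun χ => m χ * charDegree (χ : G → ℂ)) (g := fun χ => p * (m χ * fd p x (χ : G → ℂ)))
    fun χ hχ => by
      rcases B.fd_casesR F χ with e | e | e | ⟨q, rfl⟩ | e
      · simp [e] at hχ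
      · rw [e.1, e.2, mul_left_comm, F.hs]
        exact Nat.mul_le_mul_left _ (by have := hp.out.pos; nlinarith)
      · simp [h0 χ e.2]
      · rw [mul_left_comm, B.fd_μR F hε hz, B.deg_μ]
        exact Nat.mul_le_mul_left _ (by omega)
      · rw [mul_left_comm, e.2.2]).mp (by rw [← Finset.mul_sum]; nlinarith)
  have hm : 0 < m χ := by
    rw [h1] at hne; exact Nat.pos_of_ne_zero (by exact_mod_cast hne)
  by_cases hχ : χ = irrOne G
  · exact Or.inl hχ
  have h5 := h4 χ (by simpa using hχ)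
  rw [mul_left_comm] at h5
  have h6 := Nat.eq_of_mul_eq_mul_left hm h5
  rcases B.fd_casesR F χ with e | e | e | ⟨q, rfl⟩ | e
  · exact Or.inl e
  · rw [e.1, e.2, F.hs] at h6
    have := hp.out.two_le; nlinarith
  · have := h0 χ e.2; omega
  · rw [B.fd_μR F hε hz, B.deg_μ] at h6
    have := eN_pos h.ord; omega
  · exact Or.inr ⟨e.1, e.2.1⟩

theorem mult_neR {lam : NN x →* ℂˣ} (hl : Lin p x lam) (h1l : lam ≠ 1) {χ : IrrCharacter G}
    (hne : classInner (indN x lam) χ ≠ 0) :
    χ ≠ irrOne G ∧ ((χ ∈ B.X ∧ charDegree (χ : G → ℂ) = sN x) ∨ ∃ q, B.μ q = χ) := by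
  classical
  obtain ⟨m, h1, -, h2, h3⟩ := exists_mult h.ord (isCharacter_indN lam)
  have d3 : m (irrOne G) = 0 := by
    have := h1 (irrOne G)
    rw [inner_indN_one, if_neg h1l] at this
    exact_mod_cast this.symm
  rw [charDegree_indN] at h2
  rw [fd_indN h hl F.hs] at h3
  have h0 : ∀ χ : IrrCharacter G, fd p x (χ : G → ℂ) = 0 → m χ = 0 := fun χ hχ => by
    have := h1 χ
    rw [inner_indN_eq_zero h.ord hl χ.2.isCharacter hχ] at this
    exact_mod_cast this.symm
  have h4 := (Finset.sum_eq_sum_iff_of_le (s := Finset.univ)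
    (f := fun χ => sN x * (m χ * fd p x (χ : G → ℂ)))
    (g := fun χ => (n + 1) * (m χ * charDegree (χ : G → ℂ)))
    fun χ hχ => by
      rcases B.fd_casesR F χ with e | e | e | ⟨q, rfl⟩ | e
      · simp [e, d3]
      · rw [e.1, e.2]; exact le_of_eq (by ring)
      · simp [h0 χ e.2]
      · rw [← hz, ← B.t_mul_fdR F hε hz q, B.deg_μ]; exact le_of_eq (by ring)
      · rw [← e.2.2, F.hs, mul_left_comm, mul_left_comm (n + 1), ← mul_assoc (n + 1)]
        exact Nat.mul_le_mul_left _ (Nat.mul_le_mul_right _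
          (by have := hp.out.pos; nlinarith))).mp
      (by rw [← Finset.mul_sum, ← Finset.mul_sum, ← h2, ← h3, mul_comm])
  have hm : 0 < m χ := by
    rw [h1] at hne; exact Nat.pos_of_ne_zero (by exact_mod_cast hne)
  have hχ : χ ≠ irrOne G := by rintro rfl; omega
  refine ⟨hχ, ?_⟩
  have h5 := h4 χ (Finset.mem_univ _)
  rw [mul_left_comm, mul_left_comm (n + 1)] at h5
  have h6 := Nat.eq_of_mul_eq_mul_left hm h5
  rcases B.cases χ with e | e | e
  · rcases B.degX_casesR F.perf F.hs F.hn F.pos e with e' | e' | e'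
    · exact absurd e' hχ
    · exact Or.inl ⟨e, e'.2⟩
    · have h7 := B.fd_X e
      rw [e'.1, e'.2, Nat.cast_sub hp.out.one_le] at h7
      have h8 : (p : ℤ) * fd p x (χ : G → ℂ) = p * 0 := by rw [h7]; push_cast; ring
      have := h0 χ (by exact_mod_cast mul_left_cancel₀ (by exact_mod_cast hp.out.ne_zero) h8)
      omega
  · exact Or.inr e
  · exfalso
    have h7 := B.fd_other e.1 e.2
    have h8 := χ.2.charDegree_pos
    rw [← h7, F.hs, ← mul_assoc] at h6
    have h9 := Nat.eq_of_mul_eq_mul_right (Nat.pos_of_ne_zero (by rintro e; rw [e] at h7; omega)) h6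
    have := hp.out.two_le; nlinarith

theorem inner_one_neR {lam : NN x →* ℂˣ} (hl : Lin p x lam) (h1l : lam ≠ 1) :
    classInner (indN x 1) (indN x lam) = 0 := by
  rw [(isCharacter_indN 1).isClassFunction.classInner_eq_sum]
  refine Finset.sum_eq_zero fun χ _ => ?_
  by_contra hc
  rw [mul_eq_zero, not_or, map_eq_zero] at hc
  obtain ⟨h1, h2⟩ := B.mult_neR F hε hz hl h1l hc.2
  rcases B.mult_oneR F hε hz hc.1 with e | e
  · exact h1 e
  · rcases h2 with e' | ⟨q, e'⟩
    · exact e.1 e'.1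
    · exact e.2 q e'

theorem indN_one_applyR {y : G} (hy : y ∈ NN x) (hc : ¬ Commute x y) : indN x 1 y = n + 1 := by
  haveI := Fintype.ofFinite (NN x)
  have hπ := isCharacter_indN (x := x) 1
  have h1 := (isCharacter_fx h.ord hπ).mem_charKer_of_forall_constituent (g := ⟨y, hy⟩)
    fun ψ hψ hne => by
      obtain ⟨lam, hl, rfl⟩ := exists_lin_of_fx h hπ hψ hne
      by_cases h1l : lam = 1
      · simp [h1l]
      · rw [← inner_indN h.ord hl hπ.isClassFunction] at hne
        exact absurd (B.inner_one_neR F hε hz hl h1l) hne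
  have h2 := apply_of_mem_charKer h1
  simp only [OneMemClass.coe_one] at h2
  rw [← fx_eq_of_not_commute h.ord hπ.isClassFunction hy hc, h2, ← fd_cast h.ord hπ,
    fd_indN h lin_one F.hs]
  push_cast; rfl

theorem indN_casesR [Fintype ((ZMod p)ˣ ⧸ EE h.ord)] {lam : NN x →* ℂˣ} (hl : Lin p x lam)
    (h1l : lam ≠ 1) :
    (classInner (indN x lam) (indN x lam) = 1 ∧ classInner (indN x lam) (B.μ 1) = 0) ∨
      indN x lam = ∑ q, (B.μ q : G → ℂ) := by
  classical
  obtain ⟨m, h1, h0, h2, -⟩ := exists_mult h.ord (isCharacter_indN lam)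
  rw [charDegree_indN] at h2
  have hq : ∀ q, m (B.μ q) = m (B.μ 1) := fun q => by
    have := B.inner_indN_μ hl q 1
    rw [h1, h1] at this
    exact_mod_cast this
  have hs0 : 0 < sN x := by rw [F.hs]; omega
  by_cases hm : m (B.μ 1) = 0
  · left
    refine ⟨?_, by rw [h1, hm, Nat.cast_zero]⟩
    have h3 : ∑ χ, m χ = 1 := by
      refine Nat.eq_of_mul_eq_mul_right hs0 ?_
      rw [one_mul, Finset.sum_mul]
      conv_rhs => rw [h2]
      refine Finset.sum_congr rfl fun χ _ => ?_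
      by_cases hχ : m χ = 0
      · simp [hχ]
      · rcases (B.mult_neR F hε hz hl h1l (χ := χ) (by rw [h1]; exact_mod_cast hχ)).2 with e | ⟨q, rfl⟩
        · rw [e.2]
        · exact absurd ((hq q).trans hm) hχ
    rw [(isCharacter_indN lam).isClassFunction.classInner_eq_sum]
    simp only [h1, map_natCast]
    have h4 : ∑ χ, m χ * m χ = ∑ χ, m χ := Finset.sum_congr rfl fun χ _ => by
      have := Finset.single_le_sum (f := m) (fun _ _ => Nat.zero_le _) (Finset.mem_univ χ)
      rcases (by omega : m χ = 0 ∨ m χ = 1) with e | e <;> rw [e]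
    rw [h3] at h4
    exact_mod_cast h4
  · right
    let S := Finset.univ.image B.μ
    rw [← Finset.sum_add_sum_compl S, Finset.sum_image fun a _ b _ e => B.inj e] at h2
    simp only [hq, B.deg_μ, Finset.sum_const, Finset.card_univ, smul_eq_mul,
      Fintype.card_eq_nat_card] at h2
    rw [mul_left_comm, show Nat.card ((ZMod p)ˣ ⧸ EE h.ord) * B.z = sN x from hz] at h2
    have h3 : m (B.μ 1) = 1 := by
      by_contra hc
      have := Nat.mul_le_mul_right (sN x) (by omega : 2 ≤ m (B.μ 1))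
      omega
    rw [h3, one_mul, left_eq_add, Finset.sum_eq_zero_iff] at h2
    rw [h0, ← Finset.sum_add_sum_compl S, Finset.sum_image fun a _ b _ e => B.inj e,
      Finset.sum_eq_zero (s := Sᶜ), add_zero]
    · simp [hq, h3]
    · intro χ hχ
      have := h2 χ hχ
      rw [mul_eq_zero, or_iff_left χ.2.charDegree_pos.ne'] at this
      simp [this]

theorem μ_eq_zeroR {v : G} (hv : ¬ p ∣ orderOf v) (hN : ∀ a : G, a * v * a⁻¹ ∉ NN x) :
    (B.μ 1 : G → ℂ) v = 0 := by
  haveI := Fintype.ofFinite (NN x)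
  haveI := Fintype.ofFinite ((ZMod p)ˣ ⧸ EE h.ord)
  have hμ := (B.μ 1).2.isCharacter
  obtain ⟨ψ, hψ, hne⟩ := (isCharacter_fx h.ord hμ).exists_constituent fun e => by
    have h1 := congrFun e 1
    have h2 := B.t_mul_fdR F hε hz 1
    simp only [OneMemClass.coe_one, ← fd_cast h.ord hμ, Pi.zero_apply, Nat.cast_eq_zero] at h1
    rw [h1] at h2
    omega
  obtain ⟨lam, hl, rfl⟩ := exists_lin_of_fx h hμ hψ hne
  rw [← inner_indN h.ord hl hμ.isClassFunction, Ne, classInner_eq_zero_symm] at hne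
  have h1l : lam ≠ 1 := by
    rintro rfl
    rcases B.mult_oneR F hε hz hne with e | e
    · exact B.μ_ne_one 1 e
    · exact e.2 1 rfl
  rcases B.indN_casesR F hε hz hl h1l with e | e
  · exact absurd e.2 hne
  · have h1 := congrFun e v
    rw [indN_eq_zero lam hN, Finset.sum_apply, Finset.sum_congr rfl fun q _ => B.μ_eq q 1 hv,
      Finset.sum_const, nsmul_eq_mul, eq_comm, mul_eq_zero] at h1
    exact h1.resolve_left (by simp)

end BD

end Cfsg.Agent.H19
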