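import Cfsg.Agent.H19.Two
import Cfsg.Agent.H19.E3

/-! Congruences for integer character values, class counting -/

set_option autoImplicit false

namespace Cfsg.Agent.H19

open Cfsg Cfsg.Agent.H4 Cfsg.Agent.H5 Cfsg.Agent.H6 Subgroup
open scoped ComplexConjugate

variable {G : Type*} [Group G] {χ : G → ℂ}

/-- order of the centralizer -/
noncomputable abbrev cc (g : G) : ℕ := Nat.card (centralizer ({g} : Set G))

theorem cc_conj {a b : G} (h : IsConj a b) : cc a = cc b := by
  obtain ⟨c, rfl⟩ := isConj_iff.mp h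
  refine Nat.card_congr ⟨fun y => ⟨c * y * c⁻¹, ?_⟩, fun y => ⟨c⁻¹ * y * c, ?_⟩, fun y => ?_, fun y => ?_⟩
  · have := mem_centralizer_singleton_iff.mp y.2
    rw [mem_centralizer_singleton_iff]
    simp only [mul_assoc, inv_mul_cancel_left]
    rw [← mul_assoc (y : G), this, mul_assoc]
  · have := mem_centralizer_singleton_iff.mp y.2
    rw [mem_centralizer_singleton_iff]
    simpa [mul_assoc] using congrArg (c⁻¹ * · * c) this
  · simp [mul_assoc]
  · simp [mul_assoc]

theorem orderOf_isConj {a b : G} (h : IsConj a b) : orderOf a = orderOf b := by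
  obtain ⟨c, hc⟩ := h
  exact hc.orderOf_eq

variable [Finite G]

theorem int_congr (hχ : IsCharacter G χ) {r k : ℕ} (hr : r.Prime) {v : G} (hv : v ^ r ^ k = 1)
    {n : ℤ} (h0 : χ v = n) : (r : ℤ) ∣ n - charDegree χ := by
  obtain ⟨M, hM⟩ := exists_isPModular hr
  haveI := hM.2.1
  have := redC_apply_of_pow hχ hM hv
  rw [h0, redC_intCast] at this
  exact (intCast_res_eq_zero_iff hM _).mp (by push_cast; rw [this, sub_self])

theorem card_dvd_sum (hχ : IsCharacter G χ) (U : Subgroup G) [Fintype U] {v : G}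
    (hv : v ∈ normalizer (U : Set G)) {n : ℤ} (h : ∑ u : U, χ (u * v) = n) :
    (Nat.card U : ℤ) ∣ n := by
  classical
  haveI := Fintype.ofFinite (U.subgroupOf (normalizer (U : Set G)))
  have h1 := (isCharacter_avg (U.subgroupOf (normalizer (U : Set G)))
    (hχ.restrict (normalizer (U : Set G)))).isGen.isIntegral ⟨v, hv⟩
  have e := subgroupOfEquivOfLe (le_normalizer (H := U))
  have h2 : ∑ n : U.subgroupOf (normalizer (U : Set G)),
      χ (((n : normalizer (U : Set G)) * ⟨v, hv⟩ : normalizer (U : Set G)) : G) = n := h ▸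
    Fintype.sum_equiv (subgroupOfEquivOfLe (le_normalizer (H := U))).toEquiv _ _ fun _ => rfl
  rw [Nat.card_congr e.toEquiv, h2, ← div_eq_inv_mul] at h1
  exact int_dvd_of_isIntegral_div (by exact_mod_cast Nat.card_pos.ne') (by exact_mod_cast h1)

theorem exists_sum_eq (hχ : IsCharacter G χ) (U : Subgroup G) [Fintype U] :
    ∃ m : ℕ, ∑ u : U, χ u = Nat.card U * m := by
  obtain ⟨m, hm⟩ := (hχ.restrict U).classInner_nat isCharacter_one
  exact ⟨m, by rw [← hm, classInner_one_right, mul_inv_cancel_left₀ natCard_ne_zero']⟩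

theorem sq_le_cc (χ : IrrCharacter G) (g : G) {n : ℤ} (h : (χ : G → ℂ) g = n) : n ^ 2 ≤ cc g := by
  have := Finset.single_le_sum (f := fun ψ : IrrCharacter G => ‖(ψ : G → ℂ) g‖ ^ 2)
    (fun _ _ => by positivity) (Finset.mem_univ χ)
  simp only [h, sum_irr_norm_sq, Complex.norm_intCast, sq_abs] at this
  exact_mod_cast this

theorem int_of_gal (hχ : IsCharacter G χ) {g : G} (h : ∀ σ : ℂ ≃+* ℂ, σ (χ g) = χ g) :
    ∃ n : ℤ, χ g = n := exists_int_of_forall_ringEquiv (hχ.isGen.isIntegral g) h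

theorem exists_gal (χ : IrrCharacter G) (σ : ℂ ≃+* ℂ) : ∃ ψ : IrrCharacter G,
    charDegree (ψ : G → ℂ) = charDegree (χ : G → ℂ) ∧ ∀ g, (ψ : G → ℂ) g = σ ((χ : G → ℂ) g) :=
  ⟨⟨_, χ.2.map_ringHom σ.toRingHom⟩, charDegree_eq_of (by
    simp [← χ.2.isCharacter.charDegree_cast]), fun _ => rfl⟩

theorem int_of_unique {d : ℕ}
    (h : Nat.card {χ : IrrCharacter G // charDegree (χ : G → ℂ) = d} = 1) :
    ∃ (χ : IrrCharacter G) (X : G → ℤ), charDegree (χ : G → ℂ) = d ∧ ∀ g, (χ : G → ℂ) g = X g := by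
  obtain ⟨h1, ⟨χ, h2⟩⟩ := Nat.card_eq_one_iff_unique.mp h
  choose X hX using fun g => int_of_gal χ.2.isCharacter (g := g) fun σ => by
    obtain ⟨ψ, h3, h4⟩ := exists_gal χ σ
    obtain rfl : ψ = χ := congrArg Subtype.val (h1.elim ⟨ψ, h3.trans h2⟩ ⟨χ, h2⟩)
    exact (h4 g).symm
  exact ⟨χ, X, h2, hX⟩

/-- the determinant condition at an element of order dividing four -/
theorem four_val (hχ : IsCharacter G χ) {r : G} (hr : r ^ 4 = 1) (hdet : detHom χ r = 1)
    {y w : ℤ} (hy : χ r = y) (hw : χ (r ^ 2) = w) : (8 : ℤ) ∣ charDegree χ + w - 2 * y := by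
  classical
  obtain ⟨n, ρ, rfl⟩ := hχ
  obtain ⟨b, ε, h, h1⟩ := rep_exists_eigenbasis ρ r
  have hk : ∀ k : ℕ, ρ.character (r ^ k) = ∑ i, ε i ^ k := fun k => by
    unfold Representation.character
    refine trace_eq_sum_of_eigenbasis _ b _ fun i => ?_
    rw [map_pow]; exact pow_apply_of_eigen _ (h i) k
  have hd : ∏ i, ε i = 1 := by
    have := detHom_character ρ r
    rw [hdet, ← LinearMap.det_toMatrix b, show LinearMap.toMatrix b b (ρ r) = Matrix.diagonal ε by
      ext i j; by_cases e : i = j <;> simp [LinearMap.toMatrix_apply, h, e, Finsupp.single_apply,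
        eq_comm], Matrix.det_diagonal] at this
    exact this.symm
  have h4 : ∀ i, ∃ a : Fin 4, ε i = Complex.I ^ (a : ℕ) := fun i => by
    obtain ⟨c, hc⟩ := orderOf_dvd_of_pow_eq_one hr
    have h5 : ε i ^ 4 = 1 := by rw [hc, pow_mul, h1, one_pow]
    have : (ε i - 1) * (ε i - Complex.I) * (ε i + 1) * (ε i + Complex.I) = 0 := by
      linear_combination h5 - (ε i ^ 2 - 1) * Complex.I_sq
    simp only [mul_eq_zero, sub_eq_zero, add_eq_zero_iff_eq_neg] at this
    rcases this with ((e | e) | e) | e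
    exacts [⟨0, by simp [e]⟩, ⟨1, by simp [e]⟩, ⟨2, by simp [e]⟩, ⟨3, by simp [e]⟩]
  choose a ha using h4
  set m : Fin 4 → ℕ := fun j => (Finset.univ.filter fun i => a i = j).card
  have hs : ∀ k, ∑ i, ε i ^ k = ∑ j : Fin 4, m j * (Complex.I ^ (j : ℕ)) ^ k := fun k => by
    rw [← Finset.sum_fiberwise (g := a)]
    refine Finset.sum_congr rfl fun j _ => ?_
    rw [Finset.sum_congr rfl fun i hi => by rw [ha, (Finset.mem_filter.mp hi).2], Finset.sum_const,
      nsmul_eq_mul]
  have hp : ∏ i, ε i = ∏ j : Fin 4, (Complex.I ^ (j : ℕ)) ^ m j := by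
    rw [← Finset.prod_fiberwise (g := a)]
    refine Finset.prod_congr rfl fun j _ => ?_
    rw [Finset.prod_congr rfl fun i hi => by rw [ha, (Finset.mem_filter.mp hi).2], Finset.prod_const]
  have e0 := (hk 0).trans (hs 0)
  have e1 := (hk 1).trans (hs 1)
  have e2 := (hk 2).trans (hs 2)
  rw [pow_zero, ← (isCharacter_character ρ).charDegree_cast] at e0
  rw [pow_one, hy] at e1
  rw [hw] at e2
  rw [hd] at hp
  simp only [Fin.sum_univ_four, Fin.prod_univ_four, Fin.val_zero, Fin.val_one, Fin.val_two, pow_zero,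
    pow_one, one_pow, mul_one, Complex.I_sq, show ((3 : Fin 4) : ℕ) = 3 from rfl, Complex.I_pow_three,
    neg_sq, one_mul] at e0 e1 e2 hp
  have f0 : (charDegree ρ.character : ℤ) = m 0 + m 1 + m 2 + m 3 := by exact_mod_cast e0
  have f2 : w = m 0 - m 1 + m 2 - m 3 := by
    have : (w : ℂ) = m 0 - m 1 + m 2 - m 3 := by linear_combination e2
    exact_mod_cast this
  have f1 : y = m 0 - m 2 := by
    have := congrArg Complex.re e1
    simp at this
    exact_mod_cast (by linarith : (y : ℝ) = m 0 - m 2)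
  have f3 : m 1 = m 3 := by
    have := congrArg Complex.im e1
    simp at this
    exact_mod_cast (by linarith : (m 1 : ℝ) = m 3)
  rw [← f3, mul_right_comm, ← mul_pow] at hp
  simp only [mul_neg, Complex.I_mul_I, neg_neg, one_pow, one_mul] at hp
  obtain ⟨k, hk⟩ := (neg_one_pow_eq_one_iff_even (by norm_num)).mp hp.symm
  exact ⟨k, by omega⟩

theorem sum_cc [Fintype G] : ∑ g : G, cc g = Nat.card (IrrCharacter G) * Nat.card G := by
  rw [card_irr_eq_card_conjClasses, ← card_comm_eq_card_conjClasses_mul_card,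
    Nat.card_congr (Equiv.subtypeProdEquivSigmaSubtype fun a b : G => Commute a b), Nat.card_sigma]
  exact Finset.sum_congr rfl fun g _ => Nat.card_congr (Equiv.subtypeEquivRight fun y => by
    rw [mem_centralizer_singleton_iff]; exact eq_comm)

open Classical in
theorem card_filter_isConj [Fintype G] (g : G) :
    cc g * (Finset.univ.filter (IsConj g)).card = Nat.card G := by
  rw [← card_class_mul_card_centralizer g, Nat.card_eq_fintype_card (α := {h // IsConj g h}),
    Fintype.card_subtype]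

theorem cc_dvd (g : G) : cc g ∣ Nat.card G := card_subgroup_dvd_card _

theorem dvd_cc {g : G} {U : Subgroup G} (h : ∀ u ∈ U, Commute u g) : Nat.card U ∣ cc g :=
  card_dvd_of_le fun u hu => mem_centralizer_singleton_iff.mpr (h u hu)

theorem orderOf_dvd_cc {g u : G} (h : Commute u g) : orderOf u ∣ cc g := by
  rw [← Nat.card_zpowers]
  exact dvd_cc fun _ ⟨k, hk⟩ => hk ▸ h.zpow_left k

theorem exists_of_dvd_cc {g : G} {r : ℕ} (hr : r.Prime) (h : r ∣ cc g) :
    ∃ u, orderOf u = r ∧ Commute u g := by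
  haveI := Fact.mk hr
  obtain ⟨u, hu⟩ := exists_prime_orderOf_dvd_card' r h
  exact ⟨u, (orderOf_coe u).trans hu, mem_centralizer_singleton_iff.mp u.2⟩

variable {p : ℕ} [hp : Fact p.Prime] {x : G}

theorem PO.exists_conj (h : PO p x ⊥) {g : G} (hg : p ∣ orderOf g) :
    ∃ i : ZMod p, i ≠ 0 ∧ IsConj (xp x i) g := by
  obtain ⟨t, i, hi, y, hy, rfl⟩ := h.exists_conj_of_dvd hg
  exact ⟨i, hi, isConj_iff.mpr ⟨t, by rw [mem_bot.mp hy, mul_one]⟩⟩

theorem PO.cc_eq (h : PO p x ⊥) {g : G} (hg : p ∣ orderOf g) : orderOf g = p ∧ cc g = p := by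
  obtain ⟨i, hi, e⟩ := h.exists_conj hg
  refine ⟨(orderOf_isConj e).symm.trans (orderOf_xp h.ord hi), ?_⟩
  have h1 := h.card_centralizer
  rw [card_bot, mul_one] at h1
  rw [← cc_conj e]
  refine Eq.trans ?_ h1
  exact congrArg (fun H : Subgroup G => Nat.card H) (Subgroup.ext fun y => by
    simp only [mem_centralizer_singleton_iff]
    exact ⟨fun e => ((commute_xp_iff h.ord hi).mp (Eq.symm e)).symm,
      fun e => ((commute_xp_iff h.ord hi).mpr (Eq.symm e)).symm⟩)

open Classical in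
theorem PO.card_sing [Fintype G] (h : PO p x ⊥) :
    (Finset.univ.filter fun g : G => p ∣ orderOf g).card = (p - 1) * sN x := by
  have h1 := h.sum_singular (θ := fun _ => 1) (isClassFunction_const 1)
  rw [← Finset.add_sum_erase _ _ (Finset.mem_univ (0 : ZMod p)), fn_zero,
    Finset.sum_congr rfl fun k hk => fn_one k (Finset.ne_of_mem_erase hk), h.card_N, h.card_G] at h1
  simp only [Finset.sum_boole, card_bot, Finset.sum_const, Finset.card_erase_of_mem (Finset.mem_univ _),
    Finset.card_univ, ZMod.card, zero_add, nsmul_eq_mul, mul_one, Nat.cast_one, one_mul] at h1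
  have h2 : p * Nat.card (EE h.ord) * (Finset.univ.filter fun g : G => p ∣ orderOf g).card = p * (Nat.card (EE h.ord) * sN x) * (p - 1) := by
    exact_mod_cast h1
  exact Nat.eq_of_mul_eq_mul_left (Nat.mul_pos hp.out.pos Nat.card_pos) (h2.trans (by ring))

end Cfsg.Agent.H19
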