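import Cfsg.Agent.H19.Count
import Cfsg.Agent.H2.Perm1

/-! Derangements in transitive groups -/

set_option autoImplicit false

namespace Cfsg.Agent.H19

open MulAction Subgroup

variable {G Ω : Type*} [Group G] [MulAction G Ω]

noncomputable abbrev fix (Ω : Type*) {G : Type*} [Group G] [MulAction G Ω] (g : G) : ℕ :=
  Nat.card (fixedBy Ω g)

abbrev derS (G Ω : Type*) [Group G] [MulAction G Ω] : Subgroup G :=
  closure {g : G | ∀ ω : Ω, g • ω ≠ ω}

theorem sum_fix [Fintype G] [Finite Ω] :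
    ∑ g : G, fix Ω g = Nat.card (orbitRel.Quotient G Ω) * Nat.card G := by
  classical
  haveI := Fintype.ofFinite Ω
  haveI := Fintype.ofFinite (orbitRel.Quotient G Ω)
  simpa only [Nat.card_eq_fintype_card] using sum_card_fixedBy_eq_card_orbits_mul_card_group G Ω

theorem sum_fix_sub [Fintype G] [Finite Ω] (H : Subgroup G) [DecidablePred (· ∈ H)] :
    ∑ g ∈ Finset.univ.filter (· ∈ H), fix Ω g = Nat.card (orbitRel.Quotient H Ω) * Nat.card H := by
  rw [Finset.sum_subtype (p := (· ∈ H)) _ (by simp), ← sum_fix]; rfl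

theorem fix_prod (g : G) : fix (Ω × Ω) g = fix Ω g ^ 2 := by
  rw [sq, ← Nat.card_prod]
  exact Nat.card_congr ((Equiv.subtypeEquivRight fun _ => Prod.ext_iff).trans
    (Equiv.subtypeProdEquivProd (p := fun a : Ω => g • a = a) (q := fun a : Ω => g • a = a)))

theorem fix_eq_zero_iff [Finite Ω] {g : G} : fix Ω g = 0 ↔ ∀ ω : Ω, g • ω ≠ ω := by
  rw [Finite.card_eq_zero_iff, isEmpty_subtype]; rfl

theorem one_lt_fix [Finite Ω] {g : G} {a b : Ω} (hab : a ≠ b) (ha : g • a = a) (hb : g • b = b) :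
    1 < fix Ω g :=
  Finite.one_lt_card_iff_nontrivial.mpr ⟨⟨a, ha⟩, ⟨b, hb⟩, fun e => hab (congrArg Subtype.val e)⟩

instance [h : Nonempty Ω] : Nonempty (orbitRel.Quotient G Ω) := h.map (Quotient.mk _)

theorem card_orbits_eq_one [Nonempty Ω] [IsPretransitive G Ω] :
    Nat.card (orbitRel.Quotient G Ω) = 1 :=
  Nat.card_eq_one_iff_unique.mpr ⟨(pretransitive_iff_subsingleton_quotient G Ω).mp inferInstance,
    inferInstance⟩

theorem derS_spec [Finite G] [Finite Ω] [IsPretransitive G Ω] :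
    IsPretransitive (derS G Ω) Ω ∧ ∀ g : G, fix Ω g ≠ 1 → g ∈ derS G Ω := by
  classical
  rcases isEmpty_or_nonempty Ω with _ | _
  · exact ⟨⟨fun a => isEmptyElim a⟩, fun g _ => subset_closure fun a => isEmptyElim a⟩
  haveI := Fintype.ofFinite G
  have h1 := sum_fix (G := G) (Ω := Ω)
  rw [card_orbits_eq_one, ← Finset.sum_filter_add_sum_filter_not _ (· ∈ derS G Ω),
    sum_fix_sub] at h1
  have h2 : ∀ g ∈ Finset.univ.filter (· ∉ derS G Ω), 1 ≤ fix Ω g := fun g hg =>
    Nat.pos_of_ne_zero fun e => (Finset.mem_filter.mp hg).2 (subset_closure (fix_eq_zero_iff.mp e))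
  have h3 := Finset.sum_le_sum h2
  have h4 := Finset.card_filter_add_card_filter_not (s := Finset.univ) (· ∈ derS G Ω)
  rw [← Fintype.card_subtype, Finset.card_univ, ← Nat.card_eq_fintype_card,
    ← Nat.card_eq_fintype_card] at h4
  have h5 : 0 < Nat.card (orbitRel.Quotient (derS G Ω) Ω) := Nat.card_pos
  have h6 : 0 < Nat.card (derS G Ω) := Nat.card_pos
  have h7 := (Finset.sum_eq_sum_iff_of_le h2).mp (by
    rw [Finset.sum_const, smul_eq_mul] at h3 ⊢; nlinarith)
  rw [Finset.sum_const, smul_eq_mul] at h3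
  exact ⟨(pretransitive_iff_subsingleton_quotient _ Ω).mpr (Nat.card_eq_one_iff_unique.mp
    (by nlinarith)).1, fun g hg => by_contra fun e => hg (h7 g (by simpa using e)).symm⟩

theorem index_stabilizer_derS [Finite G] [Finite Ω] [IsPretransitive G Ω] (a : Ω) :
    (derS G Ω).relIndex (stabilizer G a) = (derS G Ω).index := by
  haveI := (derS_spec (G := G) (Ω := Ω)).1
  have h1 := relIndex_mul_index (inf_le_left : derS G Ω ⊓ stabilizer G a ≤ _)
  have h2 := relIndex_mul_index (inf_le_right : derS G Ω ⊓ stabilizer G a ≤ _)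
  rw [inf_relIndex_left, show (stabilizer G a).relIndex (derS G Ω) = _ from
    index_stabilizer_of_transitive (derS G Ω) a] at h1
  rw [inf_relIndex_right, index_stabilizer_of_transitive, ← h1, mul_comm] at h2
  haveI : Nonempty Ω := ⟨a⟩
  exact Nat.eq_of_mul_eq_mul_left Nat.card_pos h2

theorem derS_dvd_index [Finite G] [Finite Ω] [IsPretransitive G Ω] {a b : Ω} (hab : a ≠ b) :
    (derS G Ω).index ∣ (stabilizer (stabilizer G a) b).index :=
  index_stabilizer_derS (G := G) a ▸ index_dvd_of_le fun g hg =>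
    derS_spec.2 _ (one_lt_fix hab g.2 hg).ne'

theorem derS_dvd [Finite G] [Finite Ω] [IsPretransitive G Ω] {B : Set Ω} {a : Ω} (ha : a ∈ B)
    (hB : ∀ g : G, g • a = a → ∀ b ∈ B, g • b ∈ B) : (derS G Ω).index ∣ B.ncard - 1 := by
  rw [← Set.ncard_diff_singleton_of_mem ha]
  exact dvd_ncard_of_invariant' (H := stabilizer G a) _ _ (fun g b hb => ⟨hB g g.2 b hb.1,
    fun e => hb.2 (smul_left_cancel g.1 ((show g.1 • b = a from e).trans g.2.symm))⟩)
    fun b hb => derS_dvd_index (Ne.symm hb.2)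

theorem stabilizer_normal_eq_bot [FaithfulSMul G Ω] [IsPretransitive G Ω] {N : Subgroup G}
    [hN : N.Normal] {a : Ω} (h : N ≤ stabilizer G a) : N = ⊥ :=
  (eq_bot_iff_forall _).mpr fun x hx => eq_of_smul_eq_smul fun b : Ω => by
    obtain ⟨g, rfl⟩ := exists_smul_eq G a b
    rw [one_smul]
    exact inv_smul_eq_iff.mp (show g⁻¹ • x • g • a = a by
      simpa only [mul_smul] using mem_stabilizer_iff.mp (h (hN.conj_mem' x hx g)))

theorem card_stabilizer_eq [IsPretransitive G Ω] (a b : Ω) :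
    Nat.card (stabilizer G a) = Nat.card (stabilizer G b) := by
  obtain ⟨g, rfl⟩ := exists_smul_eq G a b
  exact Nat.card_congr (stabilizerEquivStabilizer rfl).toEquiv

end Cfsg.Agent.H19
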