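import Cfsg.Agent.H16.MCode
import Cfsg.Agent.H19.Aff
import Cfsg.Agent.H19.Syl

/-! Packed matrices over the field with two elements; fixed-point-free elements. -/

set_option autoImplicit false

namespace Cfsg.Agent.H19

open Cfsg.Agent.H16

/-- A bit as an element of `ZMod 2`. -/
def bt (x i : ℕ) : ZMod 2 := (x.testBit i).toNat

theorem bt_xor (x y i : ℕ) : bt (x ^^^ y) i = bt x i + bt y i := by
  rw [bt, bt, bt, Nat.testBit_xor]
  cases x.testBit i <;> cases y.testBit i <;> rfl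

theorem bt_xs (n : ℕ) (f : ℕ → ℕ) (i : ℕ) : bt (xs n f) i = ∑ j ∈ Finset.range n, bt (f j) i := by
  induction n with
  | zero => simp [bt, xs]
  | succ n ih => rw [xs_succ, bt_xor, ih, Finset.sum_range_succ]

/-- The matrix whose columns are the entries of width 32. -/
noncomputable def mB (n a : ℕ) : Matrix (Fin n) (Fin n) (ZMod 2) := Matrix.of fun i j => bt (get 32 a j) i

variable {n M : ℕ}

theorem mB_mul (hn : n ≤ 32) (hM : M = dig 32 n fun _ => 1) (a b : ℕ) :
    mB n (mulB n M a b) = mB n a * mB n b := by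
  ext i k
  rw [mB, Matrix.of_apply, get_mulB hn hM, if_pos k.2, apS, xc_eq_xs, bt_xs, Matrix.mul_apply, Finset.sum_range]
  refine Finset.sum_congr rfl fun j _ => ?_
  simp only [mB, Matrix.of_apply, bt]
  cases (get 32 b k).testBit j <;> simp

theorem mB_xor (a b : ℕ) : mB n (a ^^^ b) = mB n a + mB n b := by
  ext i k
  simp only [mB, Matrix.of_apply, Matrix.add_apply, get_xor, bt_xor]

theorem mB_one (hn : n ≤ 32) : mB n (dig 32 n fun k => 2 ^ k) = 1 := by
  ext i k
  rw [mB, Matrix.of_apply, get_oneB hn k.2, bt, Nat.testBit_two_pow, Matrix.one_apply]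
  by_cases h : i = k
  · simp [h]
  · simp [h, Fin.val_inj, Ne.symm h]

theorem mB_ne {a b : ℕ} (i j : Fin n) (h : (get 32 a j).testBit i ≠ (get 32 b j).testBit i) :
    mB n a ≠ mB n b := fun e => by
  have := congrFun (congrFun e i) j
  simp only [mB, Matrix.of_apply, bt] at this
  revert this h
  cases (get 32 a j).testBit i <;> cases (get 32 b j).testBit i <;> decide

theorem exists_conj_mem_of_pow {G : Type*} [Group G] [Finite G] {p : ℕ} [Fact p.Prime]
    (K : Subgroup G) (hK : ¬ p ∣ K.index) {y : G} {k : ℕ} (hy : y ^ p ^ k = 1) :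
    ∃ h : G, h * y * h⁻¹ ∈ K := by
  obtain ⟨Q, hQ⟩ := (show IsPGroup p (Subgroup.zpowers y) from fun ⟨_, i, hi⟩ => ⟨k, Subtype.ext
    (by simp only [← hi, SubgroupClass.coe_pow]; rw [← zpow_natCast, ← zpow_mul, mul_comm, zpow_mul,
      zpow_natCast, hy, one_zpow]; rfl)⟩).exists_le_sylow
  obtain ⟨P⟩ : Nonempty (Sylow p K) := inferInstance
  have h1 : ¬ p ∣ ((P : Subgroup K).map K.subtype).index := by
    rw [Subgroup.index_map_subtype]
    exact fun h => ((Fact.out : p.Prime).dvd_mul.mp h).elim P.not_dvd_index hK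
  obtain ⟨h, hh⟩ := MulAction.exists_smul_eq G Q ((P.2.map K.subtype).toSylow h1)
  refine ⟨h, Subgroup.map_subtype_le (P : Subgroup K) ?_⟩
  have h2 : h * y * h⁻¹ ∈ ((h • Q : Sylow p G) : Subgroup G) :=
    (mem_smul_sylow Q h _).mpr (by simpa [mul_assoc] using hQ (Subgroup.mem_zpowers y))
  rwa [hh] at h2

theorem exists_conj_zpowers {G : Type*} [Group G] [Finite G] {p : ℕ} (hp : p.Prime)
    (h2 : ¬ p ^ 2 ∣ Nat.card G) {x y : G} (hx : orderOf x = p) (hy : orderOf y = p) :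
    ∃ c : G, x ∈ Subgroup.zpowers (c * y * c⁻¹) := by
  haveI := Fact.mk hp
  obtain ⟨c, hc⟩ := exists_conj_mem_of_pow (p := p) (k := 1) (Subgroup.zpowers x) (fun h => h2 (by
    rw [← (Subgroup.zpowers x).index_mul_card, Nat.card_zpowers, hx, sq]
    exact Nat.mul_dvd_mul_right h p)) (y := y) (by rw [pow_one, ← hy, pow_orderOf_eq_one])
  refine ⟨c, ?_⟩
  rw [Subgroup.eq_of_le_of_card_ge (Subgroup.zpowers_le_of_mem hc) (by
    rw [Nat.card_zpowers, Nat.card_zpowers, hx, ← hy]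
    exact ((MulAut.conj c).orderOf_eq y).ge)]
  exact Subgroup.mem_zpowers _

theorem mem_of_pow_mem_coprime {G : Type*} [Group G] {K : Subgroup G} {g : G} {a b : ℕ}
    (h : a.Coprime b) (ha : g ^ a ∈ K) (hb : g ^ b ∈ K) : g ∈ K := by
  have := K.mul_mem (K.zpow_mem ha (a.gcdA b)) (K.zpow_mem hb (a.gcdB b))
  rwa [← zpow_natCast, ← zpow_natCast, ← zpow_mul, ← zpow_mul, ← zpow_add, ← Nat.gcd_eq_gcd_ab,
    h.gcd_eq_one, Nat.cast_one, zpow_one] at this

theorem fpf_of_sylow {G V : Type*} [Group G] [Finite G] [AddCommGroup V] [DistribMulAction G V]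
    {p : ℕ} (hp : p.Prime) (h2 : ¬ p ^ 2 ∣ Nat.card G) (x : G) (h1 : ∀ v : V, x ^ p • v = v)
    (hx : ∀ v : V, x • v = v → v = 0) {y : G} (hy : orderOf y = p) {v : V} (hv : y • v = v) :
    v = 0 := by
  by_cases hd : p ∣ orderOf x
  swap
  · exact hx v (mem_of_pow_mem_coprime (K := MulAction.stabilizer G v)
      (hp.coprime_iff_not_dvd.mpr hd) (h1 v) (by simp))
  obtain ⟨c, hc⟩ := exists_conj_zpowers hp h2 (orderOf_pow_orderOf_div (orderOf_pos x).ne' hd) hy
  refine (smul_eq_zero_iff_eq c).mp (hx _ (mem_of_pow_mem_coprime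
    (K := MulAction.stabilizer G (c • v)) (hp.coprime_iff_not_dvd.mpr fun h => h2 ?_) (h1 _)
    (Subgroup.zpowers_le_of_mem (by simp [mul_smul, hv]) hc)))
  exact ((sq p).symm ▸ (Nat.dvd_div_iff_mul_dvd hd).mp h).trans (orderOf_dvd_natCard x)

end Cfsg.Agent.H19
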