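import Cfsg.Agent.H19.Lat3

/-! Indecomposable lattices: trace on an isotypic component of the centralizer -/

set_option autoImplicit false

namespace Cfsg.Agent.H19

open Module

variable {p : ℕ} {R : Type*} [CommRing R] [IsDomain R] [IsPrincipalIdealRing R]
  {M : Type*} [AddCommGroup M] [Module R M] [Module.Free R M] [Module.Finite R M]

/-- acts as zero on the Tate cohomology of a set of vectors -/
def JJon (p : ℕ) (S : Set M) (X φ : Module.End R M) : Prop :=
  (∀ v ∈ S, (X - 1) v = 0 → φ v ∈ LinearMap.range (nrmOp p X)) ∧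
    (∀ v ∈ S, nrmOp p X v = 0 → φ v ∈ LinearMap.range (X - 1))

theorem Good.trace_fix [CharZero R] (hR : Good p R) {N : Type*} [Group N]
    (ρ : N →* Module.End R M) {x h : N} (hx : orderOf x = p) [(Subgroup.zpowers x).Normal]
    (K : Subgroup N) [hKN : K.Normal] [Fintype K] (hK : ¬ p ∣ Nat.card K) (hh : h ^ (p - 1) ∈ K)
    (hgen : ∀ n, ∃ i j : ℕ, ∃ y ∈ K, n = x ^ i * h ^ j * y)
    (LP : ∀ φ : Module.End R M, (∀ n, Commute φ (ρ n)) → ∃ m, 0 < m ∧
      (JJon p {v | ∀ y ∈ K, ρ y v = v} (ρ x) (φ ^ m) ∨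
        JJon p {v | ∀ y ∈ K, ρ y v = v} (ρ x) (φ ^ m - 1))) :
    ∃ τ : ℤ, (τ = 0 ∨ τ = 1 ∨ τ = -1) ∧
      LinearMap.trace R M ((nrmOp p (ρ x) - 1) * ∑ y : K, ρ y) =
        Nat.card K * (((p : R) - 1) * τ) := by
  obtain ⟨κ, hκ⟩ := hR.isUnit_natCast hK
  let W : Submodule R M :=
    { carrier := {v | ∀ y ∈ K, ρ y v = v}
      add_mem' := fun ha hb y hy => by rw [map_add, ha y hy, hb y hy]
      zero_mem' := fun y _ => map_zero _
      smul_mem' := fun c v hv y hy => by rw [map_smul, hv y hy] }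
  have sW : ∀ n : N, ∀ v ∈ W, ρ n v ∈ W := by
    intro n v hv y hy
    have := hv _ (hKN.conj_mem y hy n⁻¹)
    rw [inv_inv, map_mul, map_mul, Module.End.mul_apply, Module.End.mul_apply] at this
    conv_rhs => rw [← this, rho_apply_inv]
  let σ : N →* Module.End R W :=
    { toFun := fun n => (ρ n).restrict (sW n)
      map_one' := by ext v; simp
      map_mul' := fun a b => by ext v; simp }
  have hσ : ∀ (n : N) (v : W), (σ n v : M) = ρ n v := fun n v => rfl
  let E : Module.End R M := ∑ y : K, ρ y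
  have hEW : ∀ v, E v ∈ W := by
    intro v y hy
    have := Equiv.sum_comp (Equiv.mulLeft (⟨y, hy⟩ : K)) (fun z : K => ρ z)
    rw [← Module.End.mul_apply, Finset.mul_sum]
    simp only [E]
    rw [← this]
    simp
  have hE : ∀ v ∈ W, E v = (κ : R) • v := by
    intro v hv
    rw [LinearMap.sum_apply, Finset.sum_congr rfl fun (y : K) _ => hv y y.2, hκ]
    simp [Nat.cast_smul_eq_nsmul]
  have hEc : ∀ n, Commute E (ρ n) := by
    intro n
    let e : K ≃ K :=
      { toFun := fun y => ⟨n * y * n⁻¹, hKN.conj_mem y y.2 n⟩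
        invFun := fun y => ⟨n⁻¹ * y * n⁻¹⁻¹, hKN.conj_mem y y.2 _⟩
        left_inv := fun y => Subtype.ext (by simp [mul_assoc])
        right_inv := fun y => Subtype.ext (by simp [mul_assoc]) }
    rw [Commute, SemiconjBy, Finset.mul_sum, Finset.sum_mul, ← e.sum_comp (fun y => ρ y * ρ n)]
    refine Finset.sum_congr rfl fun y _ => ?_
    rw [← map_mul, ← map_mul]
    simp [e]
  let π : M →ₗ[R] W := ((↑κ⁻¹ : R) • E).codRestrict W fun v => W.smul_mem _ (hEW v)
  have hπ : ∀ v, (π v : M) = (↑κ⁻¹ : R) • E v := fun v => rfl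
  have hπW : ∀ v : W, π v = v := fun v => Subtype.ext (by
    rw [hπ, hE _ v.2, smul_smul, Units.inv_mul, one_smul])
  have hπn : ∀ (n : N) v, π (ρ n v) = σ n (π v) := fun n v => Subtype.ext (by
    rw [hσ, hπ, hπ, map_smul, ← Module.End.mul_apply, (hEc n).eq]; rfl)
  have hpowW : ∀ (k : ℕ) (v : W), ((σ x ^ k) v : M) = (ρ x ^ k) v := fun k v => by
    rw [← map_pow, hσ, ← map_pow]
  have hnW : ∀ v : W, (nrmOp p (σ x) v : M) = nrmOp p (ρ x) v := fun v => by
    simp only [nrmOp, LinearMap.sum_apply, Submodule.coe_sum, hpowW]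
  have hπS : ∀ v, π (nrmOp p (ρ x) v) = nrmOp p (σ x) (π v) := fun v => by
    simp only [nrmOp, LinearMap.sum_apply, map_sum]
    refine Finset.sum_congr rfl fun i _ => ?_
    rw [← map_pow, ← map_pow]
    exact hπn (x ^ i) v
  have hπT : ∀ v, π ((ρ x - 1) v) = (σ x - 1) (π v) := fun v => by
    rw [LinearMap.sub_apply, map_sub, LinearMap.sub_apply]
    congr 1
    exact hπn x v
  have hJ : ∀ (φ : Module.End R W) (ψ : Module.End R M), (∀ v : W, π (ψ v) = φ v) →
      JJon p {v | ∀ y ∈ K, ρ y v = v} (ρ x) ψ → JJ p (σ x) φ := by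
    intro φ ψ h1 h2
    refine ⟨fun v hv => ?_, fun v hv => ?_⟩
    · obtain ⟨w, hw⟩ := h2.1 v v.2 (congrArg Subtype.val hv)
      exact ⟨π w, by rw [← hπS, hw, h1]⟩
    · obtain ⟨w, hw⟩ := h2.2 v v.2 (by rw [← hnW, hv]; rfl)
      exact ⟨π w, by rw [← hπT, hw, h1]⟩
  obtain ⟨τ, hτ, htr⟩ := hR.local_trace σ (h := h) hx (by
    ext v
    exact v.2 _ hh) (by
    intro φ c1 c2
    have c3 : ∀ n : N, Commute φ (σ n) := by
      intro n
      obtain ⟨i, j, y, hy, hn⟩ := hgen n
      have : σ n = σ x ^ i * σ h ^ j := by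
        ext v
        rw [← map_pow, ← map_pow, ← map_mul, hσ, hσ, hn, map_mul, Module.End.mul_apply, v.2 y hy]
      rw [this]
      exact (c1.pow_right i).mul_right (c2.pow_right j)
    let φ' : Module.End R M := W.subtype ∘ₗ φ ∘ₗ π
    have hφ' : ∀ v, φ' v = φ (π v) := fun v => rfl
    have hpow : ∀ (m : ℕ) (v : W), (φ' ^ m) v = (φ ^ m) v := by
      intro m
      induction m with
      | zero => intro v; rfl
      | succ m ih => intro v; rw [pow_succ, pow_succ, Module.End.mul_apply, hφ', hπW, ih]; rfl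
    obtain ⟨m, hm, hlp⟩ := LP φ' (by
      intro n
      ext v
      rw [Module.End.mul_apply, Module.End.mul_apply, hφ', hφ', hπn n,
        ← Module.End.mul_apply, (c3 n).eq]
      rfl)
    refine ⟨m, hm, hlp.imp (hJ _ _ fun v => ?_) (hJ _ _ fun v => ?_)⟩
    · rw [hpow, hπW]
    · rw [LinearMap.sub_apply, hpow, map_sub, hπW, Module.End.one_apply, hπW]; rfl)
  refine ⟨τ, hτ, ?_⟩
  have hmem : ∀ v, ((nrmOp p (ρ x) - 1) * E) v ∈ W := fun v => by
    rw [Module.End.mul_apply, LinearMap.sub_apply]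
    refine W.sub_mem ?_ (hEW v)
    rw [← hnW ⟨_, hEW v⟩]
    exact Subtype.prop _
  rw [← LinearMap.trace_restrict_eq_of_forall_mem W _ hmem, ← htr, ← hκ, ← smul_eq_mul (κ : R),
    ← map_smul]
  congr 1
  ext v
  rw [LinearMap.restrict_coe_apply, Module.End.mul_apply, hE _ v.2, map_smul]
  simp [hnW]

variable {G : Type*} [Group G] (ρ : G →* Module.End R M)

omit [IsDomain R] [IsPrincipalIdealRing R] [Module.Free R M] [Module.Finite R M] in
theorem exists_induce [Finite G] {T N : Subgroup G} (φ : Module.End R M)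
    (hφ : ∀ t ∈ T, Commute φ (ρ t)) : ∃ Φ : Module.End R M, (∀ n ∈ N, Commute Φ (ρ n)) ∧
      ∀ w, (∀ n ∈ N, n ∉ T → φ (ρ n⁻¹ w) = 0) → Φ w = φ w := by
  classical
  haveI := Fintype.ofFinite (N ⧸ T.subgroupOf N)
  let F : N ⧸ T.subgroupOf N → Module.End R M := fun q => ρ q.out * φ * ρ (q.out : G)⁻¹
  have hF : ∀ g : N, F g = ρ g * φ * ρ (g : G)⁻¹ := by
    intro g
    obtain ⟨n, hn⟩ := QuotientGroup.mk_out_eq_mul (T.subgroupOf N) g
    simp only [F, hn, map_mul, mul_inv_rev, Subgroup.coe_mul]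
    rw [mul_assoc (ρ g), ← (hφ n n.2).eq, mul_assoc, mul_assoc, ← mul_assoc (ρ n), ← map_mul,
      mul_inv_cancel, map_one, one_mul, mul_assoc]
  have hFs : ∀ (g : N) q, F (g • q) = ρ g * F q * ρ (g : G)⁻¹ := by
    intro g q
    induction q using QuotientGroup.induction_on with
    | H a =>
      rw [MulAction.Quotient.smul_coe, smul_eq_mul, hF, hF, Subgroup.coe_mul, mul_inv_rev, map_mul,
        map_mul]
      simp only [mul_assoc]
  refine ⟨∑ q, F q, fun g hg => ?_, fun w hw => ?_⟩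
  · have e1 : ρ g * (∑ q, F q) * ρ g⁻¹ = ∑ q, F q := by
      rw [Finset.mul_sum, Finset.sum_mul, ← Equiv.sum_comp (MulAction.toPerm (⟨g, hg⟩ : N)) F]
      exact Finset.sum_congr rfl fun q _ => (hFs ⟨g, hg⟩ q).symm
    have e2 : ρ g⁻¹ * ρ g = 1 := by rw [← map_mul, inv_mul_cancel, map_one]
    rw [Commute, SemiconjBy]
    conv_lhs => rw [← e1]
    rw [mul_assoc, e2, mul_one]
  · rw [LinearMap.sum_apply, Finset.sum_eq_single ((1 : N) : N ⧸ T.subgroupOf N), hF]
    · simp
    · intro q _ hq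
      induction q using QuotientGroup.induction_on with
      | H a =>
        rw [hF, Module.End.mul_apply, Module.End.mul_apply, hw a a.2 fun h => hq ?_, map_zero]
        rw [eq_comm, QuotientGroup.eq]
        simpa [Subgroup.mem_subgroupOf] using h
    · simp

variable {ι : Type*} [Fintype ι] [DecidableEq ι]

/-- twisted action on tuples -/
def twOp (σ : G → Matrix ι ι R) (t : G) : Module.End R (ι → M) :=
  LinearMap.pi fun i => ρ t ∘ₗ ∑ j, σ t⁻¹ j i • LinearMap.proj j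

omit [IsDomain R] [IsPrincipalIdealRing R] [Module.Free R M] [Module.Finite R M] [DecidableEq ι] in
theorem twOp_apply (σ : G → Matrix ι ι R) (t : G) (v : ι → M) (i : ι) :
    twOp ρ σ t v i = ∑ j, σ t⁻¹ j i • ρ t (v j) := by
  simp [twOp]

omit [IsDomain R] [IsPrincipalIdealRing R] in
theorem trace_twOp (σ : G → Matrix ι ι R) (t : G) :
    LinearMap.trace R _ (twOp ρ σ t) = LinearMap.trace R M (ρ t) * (σ t⁻¹).trace := by
  have e : twOp ρ σ t = ∑ i, LinearMap.single R (fun _ => M) i ∘ₗ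
      (ρ t ∘ₗ ∑ j, σ t⁻¹ j i • LinearMap.proj j) := by
    ext1 k
    ext v i
    simp [twOp_apply, Finset.sum_apply, Pi.single_apply, apply_ite (ρ t)]
  rw [e, map_sum, Matrix.trace, Finset.mul_sum]
  refine Finset.sum_congr rfl fun i _ => ?_
  rw [LinearMap.trace_comp_comm', mul_comm, ← smul_eq_mul, ← map_smul]
  congr 1
  ext v
  simp [Pi.single_apply]

theorem Good.lattice_trace_tw [CharZero R] (hR : Good p R) [Finite G]
    (hind : ∀ U : Module.End R M, (∀ g, Commute U (ρ g)) → U * U = U → U = 0 ∨ U = 1)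
    {x h : G} (hx : orderOf x = p) {N T K : Subgroup G} [Fintype K]
    (hTI : ∀ g, ∀ y ∈ Subgroup.zpowers x, y ≠ 1 → g⁻¹ * y * g ∈ N → g ∈ N)
    (hTN : T ≤ N) (hKT : K ≤ T) (hxT : x ∈ T) (hhT : h ∈ T)
    (hPN : ∀ n ∈ N, n * x * n⁻¹ ∈ Subgroup.zpowers x)
    (hKN : ∀ n ∈ N, ∀ y ∈ K, n * y * n⁻¹ ∈ K) (hK : ¬ p ∣ Nat.card K) (hh : h ^ (p - 1) ∈ K)
    (hgen : ∀ n ∈ T, ∃ i j : ℕ, ∃ y ∈ K, n = x ^ i * h ^ j * y)
    (σ : G → Matrix ι ι R) (hσ1 : σ 1 = 1) (hσ : ∀ a ∈ T, ∀ b ∈ T, σ (a * b) = σ a * σ b)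
    (hσx : σ x = 1)
    (S1 : ∀ a b c e, (Fintype.card ι : R) * ∑ y : K, σ y a b * σ (y : G)⁻¹ c e =
      if b = c ∧ a = e then (Nat.card K : R) else 0)
    (S2 : ∀ n ∈ N, n ∉ T → ∀ a b c e, ∑ y : K, σ (n * y * n⁻¹) a b * σ (y : G)⁻¹ c e = 0) :
    ∃ τ : ℤ, (τ = 0 ∨ τ = 1 ∨ τ = -1) ∧
      ∑ i ∈ Finset.range p, ∑ y : K, LinearMap.trace R M (ρ (x ^ i * y)) * (σ (y : G)⁻¹).trace -
        ∑ y : K, LinearMap.trace R M (ρ y) * (σ (y : G)⁻¹).trace =
        Nat.card K * (((p : R) - 1) * τ) := by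
  classical
  obtain ⟨κ, hκ⟩ := hR.isUnit_natCast hK
  have hinv : ∀ t ∈ T, σ t * σ t⁻¹ = 1 := fun t ht => by
    rw [← hσ t ht _ (inv_mem ht), mul_inv_cancel, hσ1]
  have hinv' : ∀ t ∈ T, σ t⁻¹ * σ t = 1 := fun t ht => by
    simpa using hinv t⁻¹ (inv_mem ht)
  have hxp : ∀ i : ℕ, σ (x ^ i)⁻¹ = 1 := fun i => by
    have : σ (x ^ i) = 1 := by
      induction i with
      | zero => rw [pow_zero, hσ1]
      | succ i ih => rw [pow_succ, hσ _ (T.pow_mem hxT i) _ hxT, ih, hσx, one_mul]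
    rw [← hinv _ (T.pow_mem hxT i), this, one_mul]
  let τ : T →* Module.End R (ι → M) :=
    { toFun := fun t => twOp ρ σ t
      map_one' := by
        ext1 k
        ext v i
        simp [twOp_apply, hσ1, Matrix.one_apply, Pi.single_apply, eq_comm]
      map_mul' := fun s t => by
        refine LinearMap.ext fun v => funext fun i => ?_
        simp only [Module.End.mul_apply, twOp_apply, Subgroup.coe_mul, mul_inv_rev, map_sum,
          map_smul, Finset.smul_sum, smul_smul, map_mul]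
        rw [hσ _ (inv_mem t.2) _ (inv_mem s.2), Finset.sum_comm]
        simp only [Matrix.mul_apply, Finset.sum_smul, mul_comm] }
  have hτ : ∀ (t : T) v i, τ t v i = ∑ j, σ (t : G)⁻¹ j i • ρ t (v j) := fun t =>
    twOp_apply ρ σ t
  let x' : T := ⟨x, hxT⟩
  have hτx : ∀ (k : ℕ) v i, (τ x' ^ k) v i = (ρ x ^ k) (v i) := fun k v i => by
    rw [← map_pow, hτ, ← map_pow]
    simp [x', hxp, Matrix.one_apply]
  have hnx : ∀ v i, nrmOp p (τ x') v i = nrmOp p (ρ x) (v i) := fun v i => by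
    simp only [nrmOp, LinearMap.sum_apply, Finset.sum_apply, hτx]
  have hsx : ∀ v i, (τ x' - 1) v i = (ρ x - 1) (v i) := fun v i => by
    simpa using congrArg (· - v i) (hτx 1 v i)
  have hx' : orderOf x' = p := by rw [← hx, ← Subgroup.orderOf_coe]
  haveI : (Subgroup.zpowers x').Normal := ⟨fun a ha g => by
    obtain ⟨k, rfl⟩ := Subgroup.mem_zpowers_iff.mp ha
    obtain ⟨l, hl⟩ := Subgroup.mem_zpowers_iff.mp (hPN g (hTN g.2))
    rw [← conj_zpow]
    refine Subgroup.zpow_mem _ ?_ _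
    exact Subgroup.mem_zpowers_iff.mpr ⟨l, Subtype.ext hl⟩⟩
  haveI : (K.subgroupOf T).Normal := ⟨fun a ha g => hKN g (hTN g.2) a ha⟩
  let eK := (Subgroup.subgroupOfEquivOfLe hKT).toEquiv
  haveI : Fintype (K.subgroupOf T) := Fintype.ofFinite _
  have hcard : Nat.card (K.subgroupOf T) = Nat.card K := Nat.card_congr eK
  obtain ⟨s, hs, htr⟩ := hR.trace_fix τ (h := ⟨h, hhT⟩) hx' (K.subgroupOf T) (hcard ▸ hK) hh
    (fun n => by
      obtain ⟨i, j, y, hy, e⟩ := hgen n n.2
      exact ⟨i, j, ⟨y, hKT hy⟩, hy, Subtype.ext e⟩) (by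
    intro φ hφ
    let E : Module.End R (ι → M) := ∑ y : K, τ ⟨y, hKT y.2⟩
    have hE : ∀ k w i, E (Pi.single k w) i = ∑ y : K, σ (y : G)⁻¹ k i • ρ y w := fun k w i => by
      simp only [E, LinearMap.sum_apply, Finset.sum_apply, hτ]
      refine Finset.sum_congr rfl fun y _ => ?_
      rw [Finset.sum_eq_single k (fun j _ hj => by simp [hj]) (by simp), Pi.single_eq_same]
    have hEc : ∀ t : T, Commute E (τ t) := by
      intro t
      let e : K ≃ K :=
        { toFun := fun y => ⟨t * y * (t : G)⁻¹, hKN t (hTN t.2) y y.2⟩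
          invFun := fun y => ⟨(t : G)⁻¹ * y * (t : G)⁻¹⁻¹, hKN _ (inv_mem (hTN t.2)) y y.2⟩
          left_inv := fun y => Subtype.ext (by simp [mul_assoc])
          right_inv := fun y => Subtype.ext (by simp [mul_assoc]) }
      rw [Commute, SemiconjBy, Finset.mul_sum, Finset.sum_mul,
        ← e.sum_comp (fun y => τ ⟨y, hKT y.2⟩ * τ t)]
      refine Finset.sum_congr rfl fun y _ => ?_
      rw [← map_mul, ← map_mul]
      congr 1
      exact Subtype.ext (by simp [e])
    let S : Set (ι → M) := {v | ∀ y ∈ K.subgroupOf T, τ y v = v}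
    have hS : ∀ v ∈ S, ∀ y ∈ K, ∀ l, ρ y (v l) = ∑ j, σ y j l • v j := by
      intro v hv y hy l
      have h1 := fun i => (hτ ⟨y, hKT hy⟩ v i).symm.trans (congrFun (hv ⟨y, hKT hy⟩ hy) i)
      rw [← Finset.sum_congr rfl fun j _ => congrArg (σ y j l • ·) (h1 j)]
      simp only [Finset.smul_sum, smul_smul]
      rw [Finset.sum_comm]
      simp only [← Finset.sum_smul, mul_comm (σ y _ l), ← Matrix.mul_apply, hinv' y (hKT hy)]
      simp [Matrix.one_apply]
    have hSφ : ∀ v ∈ S, φ v ∈ S := fun v hv y hy => by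
      rw [← Module.End.mul_apply, ← (hφ y).eq, Module.End.mul_apply, hv y hy]
    let φ' : Module.End R M := ((Fintype.card ι : R) * (↑κ⁻¹ : R)) •
      ∑ k, LinearMap.proj k ∘ₗ φ ∘ₗ E ∘ₗ LinearMap.single R (fun _ => M) k
    have hφ' : ∀ w, φ' w = ((Fintype.card ι : R) * (↑κ⁻¹ : R)) • ∑ k, φ (E (Pi.single k w)) k :=
      fun w => by simp [φ']
    have h1 : ∀ v ∈ S, ∀ l, φ' (v l) = φ v l := by
      intro v hv l
      have e1 : ∀ k, ((Fintype.card ι : R) * (↑κ⁻¹ : R)) • E (Pi.single k (v l)) =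
          if l = k then v else 0 := by
        intro k
        ext i
        simp only [Pi.smul_apply, hE, hS v hv _ (Subtype.prop _), Finset.smul_sum, smul_smul]
        rw [Finset.sum_comm]
        have e0 : ∀ j, ∑ y : K, (Fintype.card ι : R) * (↑κ⁻¹ : R) * (σ (y : G)⁻¹ k i * σ y j l) =
            if l = k ∧ j = i then 1 else 0 := fun j => by
          simp only [← Finset.mul_sum, mul_comm (σ (_ : G)⁻¹ k i)]
          rw [mul_right_comm, S1, ← hκ]
          split_ifs <;> simp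
        simp only [← Finset.sum_smul, e0]
        split_ifs with hlk <;> simp [hlk]
      rw [hφ', Finset.smul_sum]
      have e2 : ∀ k, ((Fintype.card ι : R) * (↑κ⁻¹ : R)) • φ (E (Pi.single k (v l))) k =
          φ (if l = k then v else 0) k := fun k => by rw [← e1, map_smul]; rfl
      simp only [e2]
      rw [Finset.sum_eq_single l (fun k _ hk => by simp [hk.symm]) (by simp), if_pos rfl]
    have h3 : ∀ t ∈ T, Commute φ' (ρ t) := by
      intro t ht
      ext w
      have e1 : ∀ k, Pi.single k (ρ t w) = ∑ l, σ t k l • τ ⟨t, ht⟩ (Pi.single l w) := by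
        intro k
        ext i
        have : ∀ l, τ ⟨t, ht⟩ (Pi.single l w) i = σ t⁻¹ l i • ρ t w := fun l => by
          rw [hτ, Finset.sum_eq_single l (fun j _ hj => by simp [hj]) (by simp), Pi.single_eq_same]
        simp only [Finset.sum_apply, Pi.smul_apply, this, smul_smul, ← Finset.sum_smul,
          ← Matrix.mul_apply, hinv t ht]
        simp [Matrix.one_apply, Pi.single_apply, eq_comm]
      have e2 : ∀ u, φ (E (τ ⟨t, ht⟩ u)) = τ ⟨t, ht⟩ (φ (E u)) := fun u => by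
        rw [← Module.End.mul_apply E, (hEc _).eq, Module.End.mul_apply, ← Module.End.mul_apply φ,
          (hφ _).eq, Module.End.mul_apply]
      rw [Module.End.mul_apply, Module.End.mul_apply, hφ', hφ', map_smul, map_sum]
      congr 1
      simp only [e1, map_sum, map_smul, e2, Finset.sum_apply, Pi.smul_apply, hτ, Finset.smul_sum,
        smul_smul]
      rw [Finset.sum_comm]
      refine Finset.sum_congr rfl fun l _ => ?_
      rw [Finset.sum_comm]
      simp only [← Finset.sum_smul, mul_comm (σ t _ l), ← Matrix.mul_apply, hinv' t ht]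
      simp [Matrix.one_apply]
    obtain ⟨Φ, hΦ, hΦ'⟩ := exists_induce ρ (N := N) φ' h3
    have h4 : ∀ v ∈ S, ∀ l, Φ (v l) = φ v l := by
      intro v hv l
      rw [hΦ', h1 v hv]
      intro n hn hnT
      rw [hφ', Finset.sum_eq_zero, smul_zero]
      intro k _
      have : E (Pi.single k (ρ n⁻¹ (v l))) = 0 := by
        ext i
        have e1 : ∀ y : K, ρ y (ρ n⁻¹ (v l)) = ρ n⁻¹ (∑ j, σ (n * y * n⁻¹) j l • v j) := fun y => by
          rw [← hS v hv _ (hKN n hn y y.2), ← Module.End.mul_apply, ← Module.End.mul_apply,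
            ← map_mul, ← map_mul]
          congr 2; group
        simp only [hE, e1, map_sum, map_smul, Finset.smul_sum, smul_smul, Pi.zero_apply]
        rw [Finset.sum_comm]
        simp only [← Finset.sum_smul, mul_comm (σ (_ : G)⁻¹ k i), S2 n hn hnT, zero_smul,
          Finset.sum_const_zero]
      rw [this, map_zero, Pi.zero_apply]
    have h5 : ∀ (m : ℕ), ∀ v ∈ S, ∀ l, (Φ ^ m) (v l) = (φ ^ m) v l := by
      intro m
      induction m with
      | zero => intro v _ l; rfl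
      | succ m ih =>
        intro v hv l
        rw [pow_succ, pow_succ, Module.End.mul_apply, h4 v hv, ih _ (hSφ v hv)]; rfl
    have hJ : ∀ (Ψ : Module.End R M) (ψ : Module.End R (ι → M)),
        (∀ v ∈ S, ∀ l, Ψ (v l) = ψ v l) → JJ p (ρ x) Ψ → JJon p S (τ x') ψ := by
      intro Ψ ψ e hj
      refine ⟨fun v hv h0 => ?_, fun v hv h0 => ?_⟩
      · choose w hw using fun l => hj.1 (v l) (by rw [← hsx, h0]; rfl)
        exact ⟨w, funext fun l => by rw [hnx, hw, e v hv]⟩
      · choose w hw using fun l => hj.2 (v l) (by rw [← hnx, h0]; rfl)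
        exact ⟨w, funext fun l => by rw [hsx, hw, e v hv]⟩
    obtain ⟨m, hm, hlp⟩ := hR.lp_of_indec ρ hind hx (hTN hxT) hTI Φ hΦ
    refine ⟨m, hm, hlp.imp (hJ _ _ (h5 m)) (hJ _ _ fun v hv l => ?_)⟩
    rw [LinearMap.sub_apply, LinearMap.sub_apply, h5 m v hv]; rfl)
  refine ⟨s, hs, ?_⟩
  rw [← hcard, ← htr, sub_mul, one_mul, nrmOp, Finset.sum_mul_sum, map_sub]
  simp only [map_sum, ← map_pow, ← map_mul]
  congr 1
  · refine Finset.sum_congr rfl fun i _ => ?_
    rw [← eK.sum_comp]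
    refine Finset.sum_congr rfl fun y _ => ?_
    refine Eq.trans ?_ (trace_twOp ρ σ _).symm
    rw [Subgroup.coe_mul, mul_inv_rev, hσ _ (inv_mem y.1.2) _ (inv_mem (x' ^ i).2)]
    simp only [x', SubmonoidClass.mk_pow, hxp, mul_one]
    rfl
  · rw [← eK.sum_comp]
    exact Finset.sum_congr rfl fun y _ => (trace_twOp ρ σ _).symm

end Cfsg.Agent.H19
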