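import Cfsg.Agent.H19.Gen1
import Cfsg.Agent.H19.Def1C
import Cfsg.Agent.H5.Split
import Cfsg.Agent.H5.Cover

/-! Integral matrix realizations and Schur relations -/

set_option autoImplicit false

namespace Cfsg.Agent.H19

open Module Cfsg Cfsg.Agent.H4
open scoped ComplexConjugate

theorem exists_matrix_of_roots {R : Type} [CommRing R] [IsDomain R] [IsPrincipalIdealRing R]
    (j : R →+* ℂ) (hj : Function.Injective j) {H : Type*} [Group H] [Finite H]
    (hroots : ∀ z : ℂ, z ^ Nat.card H = 1 → z ∈ j.range) {χ : H → ℂ} (hχ : IsCharacter H χ) :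
    ∃ (n : ℕ) (A : H →* Matrix (Fin n) (Fin n) R), ∀ g, j (A g).trace = χ g := by
  classical
  let F := FractionRing R
  let J : F →+* ℂ := IsFractionRing.lift hj
  have hJ : ∀ r, J (algebraMap R F r) = j r := fun r => IsFractionRing.lift_algebraMap hj r
  obtain ⟨n, M, hM⟩ := H5.realizable_of_roots (F := J.fieldRange) (fun z hz => by
    obtain ⟨c, hc⟩ := Group.exponent_dvd_nat_card (G := H)
    obtain ⟨r, rfl⟩ := hroots z (by rw [hc, pow_mul, hz, one_pow])
    exact ⟨_, hJ r⟩) hχ
  let e := J.rangeRestrictFieldEquiv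
  let M' : H →* Matrix (Fin n) (Fin n) F := e.symm.toRingHom.mapMatrix.toMonoidHom.comp M
  have hM' : ∀ g, J (M' g).trace = χ g := fun g => by
    rw [hM, show M' g = (M g).map e.symm from rfl, ← AddMonoidHom.map_trace]
    exact RingHom.rangeRestrictFieldEquiv_apply_symm_apply J _
  let ρ : H →* Module.End F (Fin n → F) := H5.repOfMatrix M'
  let Λ : Submodule R (Fin n → F) :=
    Submodule.span R (Set.range fun a : H × Fin n => ρ a.1 (Pi.single a.2 1))
  haveI : Λ.IsLattice F := ⟨Submodule.fg_span (Set.finite_range _), by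
    rw [eq_top_iff, ← (Pi.basisFun F (Fin n)).span_eq]
    refine Submodule.span_mono ?_
    rintro _ ⟨i, rfl⟩
    exact Submodule.subset_span ⟨(1, i), by simp⟩⟩
  haveI : Module.Free R Λ := Submodule.IsLattice.free F Λ
  have hΛ : ∀ g, ∀ v ∈ Λ, (ρ g).restrictScalars R v ∈ Λ := by
    intro g v hv
    refine Submodule.span_induction (fun _ ⟨a, ha⟩ => ?_) (by simp) (fun a b _ _ ha hb => ?_)
      (fun r a _ ha => ?_) hv
    · rw [← ha]
      exact Submodule.subset_span ⟨(g * a.1, a.2), by simp⟩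
    · rw [map_add]; exact add_mem ha hb
    · rw [map_smul]; exact Λ.smul_mem r ha
  let σ : H →* Module.End R Λ :=
    { toFun := fun g => ((ρ g).restrictScalars R).restrict (hΛ g)
      map_one' := by ext v; simp
      map_mul' := fun a b => by ext v; simp }
  let b := Module.finBasis R Λ
  let b' := b.extendOfIsLattice F
  refine ⟨_, (LinearMap.toMatrixAlgEquiv b).toMulEquiv.toMonoidHom.comp σ, fun g => ?_⟩
  have h1 : LinearMap.toMatrix b' b' (ρ g) = (LinearMap.toMatrix b b (σ g)).map (algebraMap R F) := by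
    ext i k
    rw [LinearMap.toMatrix_apply, Matrix.map_apply, LinearMap.toMatrix_apply]
    have e1 : ρ g (b' k) = ∑ l, algebraMap R F (b.repr (σ g (b k)) l) • b' l := by
      have := congrArg Subtype.val (b.sum_repr (σ g (b k)))
      rw [Submodule.coe_sum] at this
      simp only [b', Module.Basis.extendOfIsLattice_apply, algebraMap_smul]
      exact this.symm
    rw [e1, b'.repr_sum_self]
  rw [← hM', ← hJ, ← H5.repOfMatrix_character, Representation.character,
    LinearMap.trace_eq_matrix_trace F b', AddMonoidHom.map_trace]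
  congr 2
  exact h1.symm

theorem witt_roots (p : ℕ) [hp : Fact p.Prime] (k : Type) [Field k] [Finite k] [CharP k p]
    {m : ℕ} (hm0 : m ≠ 0) (hc : m ∣ Nat.card kˣ) (j : WittVector p k →+* ℂ)
    (hj : Function.Injective j) (z : ℂ) (hz : z ^ m = 1) : z ∈ j.range := by
  obtain ⟨u, hu⟩ := IsCyclic.exists_ofOrder_eq_natCard (α := kˣ)
  obtain ⟨ζ, hζ⟩ : ∃ ζ : k, orderOf ζ = m := ⟨((u ^ (Nat.card kˣ / m) : kˣ) : k), by
    rw [orderOf_units, ← hu]
    exact orderOf_pow_orderOf_div (by rw [hu]; exact Nat.card_pos.ne') (hu ▸ hc)⟩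
  have ht : Function.Injective (WittVector.teichmuller p : k →* WittVector p k) := fun a b h => by
    simpa using congrArg (fun w => WittVector.coeff w 0) h
  have h1 : orderOf (j (WittVector.teichmuller p ζ)) = m :=
    (orderOf_injective j.toMonoidHom hj _).trans ((orderOf_injective _ ht ζ).trans hζ)
  haveI : NeZero m := ⟨hm0⟩
  have h2 := IsPrimitiveRoot.orderOf (j (WittVector.teichmuller p ζ))
  rw [h1] at h2
  obtain ⟨i, -, rfl⟩ := h2.eq_pow_of_pow_eq_one hz
  exact ⟨_, map_pow _ _ _⟩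

theorem exists_good_roots (p : ℕ) [hp : Fact p.Prime] {m : ℕ} (hm : ¬ p ∣ m) :
    ∃ (R : Type) (_ : CommRing R) (_ : IsDomain R) (_ : IsPrincipalIdealRing R) (j : R →+* ℂ),
      Good p R ∧ Function.Injective j ∧ ∀ z : ℂ, z ^ m = 1 → z ∈ j.range := by
  have hm0 : m ≠ 0 := by rintro rfl; exact hm (dvd_zero p)
  have hφ : m.totient ≠ 0 := (Nat.totient_pos.mpr (Nat.pos_of_ne_zero hm0)).ne'
  obtain ⟨k, _, _, _, hc⟩ : ∃ (k : Type) (_ : Field k) (_ : Finite k) (_ : CharP k p),
      m ∣ Nat.card kˣ := ⟨GaloisField p m.totient, inferInstance, inferInstance, inferInstance, by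
    rw [Nat.card_units, GaloisField.card p _ hφ]
    exact (Nat.modEq_iff_dvd' (Nat.one_le_pow _ _ hp.out.pos)).mp
      (Nat.ModEq.pow_totient (hp.out.coprime_iff_not_dvd.mpr hm)).symm⟩
  obtain ⟨j, hj⟩ := exists_witt_complex p k
  exact ⟨WittVector p k, inferInstance, inferInstance, inferInstance, j, good_witt p k, hj,
    witt_roots p k hm0 hc j hj⟩

section schur
variable {H : Type*} [Group H] [Fintype H] {ι : Type*} [Fintype ι] [DecidableEq ι]

theorem sum_mul_single_mul (B' B : H →* Matrix ι ι ℂ) (a b c e : ι) :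
    (∑ y, B' y * (Matrix.single b c (1 : ℂ) * B y⁻¹)) a e = ∑ y, B' y a b * B y⁻¹ c e := by
  rw [Matrix.sum_apply]
  exact Finset.sum_congr rfl fun y _ => mul_single_mul_apply _ _ _ _ _ _

theorem intertw (B' B : H →* Matrix ι ι ℂ) (E : Matrix ι ι ℂ) (g : H) :
    B' g * ∑ y, B' y * (E * B y⁻¹) = (∑ y, B' y * (E * B y⁻¹)) * B g := by
  rw [Finset.mul_sum, Finset.sum_mul, ← Equiv.sum_comp (Equiv.mulLeft g)
    (fun y => B' y * (E * B y⁻¹) * B g)]
  refine Finset.sum_congr rfl fun y _ => ?_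
  simp only [Equiv.coe_mulLeft, map_mul, mul_assoc, mul_inv_rev]
  rw [← map_mul B g⁻¹ g, inv_mul_cancel, map_one, mul_one]

theorem schur_S1 (B : H →* Matrix ι ι ℂ) (hB : IsIrrCharacter H fun y => (B y).trace)
    (a b c e : ι) : (Fintype.card ι : ℂ) * ∑ y, B y a b * B y⁻¹ c e =
      if b = c ∧ a = e then (Nat.card H : ℂ) else 0 := by
  haveI := isIrreducible_of_isIrrCharacter (H5.repOfMatrix B) (by
    convert hB using 1; ext g; exact H5.repOfMatrix_character B g)
  set Φ := ∑ y, B y * (Matrix.single b c (1 : ℂ) * B y⁻¹) with hΦ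
  obtain ⟨s, hs⟩ := schur_scalar (H5.repOfMatrix B) (Matrix.toLin' Φ) fun g => by
    rw [H5.repOfMatrix_apply, ← Matrix.toLin'_mul, ← Matrix.toLin'_mul, hΦ, intertw]
  have h1 : Φ = s • (1 : Matrix ι ι ℂ) := Matrix.toLin'.injective (by
    rw [hs, map_smul, Matrix.toLin'_one])
  have h2 : s * Fintype.card ι = if b = c then (Nat.card H : ℂ) else 0 := by
    have := congrArg Matrix.trace h1
    rw [Matrix.trace_smul, Matrix.trace_one, smul_eq_mul] at this
    rw [← this, hΦ, Matrix.trace_sum]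
    have e1 : ∀ y, (B y * (Matrix.single b c (1 : ℂ) * B y⁻¹)).trace =
        if b = c then 1 else 0 := fun y => by
      rw [Matrix.trace_mul_comm, mul_assoc, ← map_mul, inv_mul_cancel, map_one, mul_one]
      split_ifs with h
      · rw [h, Matrix.trace_single_eq_same]
      · rw [Matrix.trace_single_eq_of_ne _ _ _ h]
    simp only [e1]
    split_ifs <;> simp
  rw [← sum_mul_single_mul, ← hΦ, h1, Matrix.smul_apply, smul_eq_mul, ← mul_assoc, mul_comm _ s,
    h2, Matrix.one_apply]
  by_cases h3 : b = c <;> by_cases h4 : a = e <;> simp [h3, h4]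

theorem schur_S2 (B' B : H →* Matrix ι ι ℂ) (hB : IsIrrCharacter H fun y => (B y).trace)
    (h0 : classInner (fun y => (B' y).trace) (fun y => (B y).trace) = 0)
    (a b c e : ι) : ∑ y, B' y a b * B y⁻¹ c e = 0 := by
  haveI := isIrreducible_of_isIrrCharacter (H5.repOfMatrix B) (by
    convert hB using 1; ext g; exact H5.repOfMatrix_character B g)
  have hG : (Nat.card H : ℂ) ≠ 0 := natCard_ne_zero'
  set Φ := ∑ y, B' y * (Matrix.single b c (1 : ℂ) * B y⁻¹) with hΦ
  have h1 := proj_eq_zero_of_inner (H5.repOfMatrix B') hB (by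
    rw [← h0]; congr 1; ext g; exact H5.repOfMatrix_character B' g)
  have h1' : ∑ g, (B g⁻¹).trace • B' g = 0 := Matrix.toLin'.injective (by
    rw [map_zero, ← h1, map_sum]
    simp [H5.repOfMatrix_apply])
  have h2 := sum_smul_rep_eq_smul (H5.repOfMatrix B) hB.isClassFunction.comp_inv
  have h3 : ∑ g, (B g⁻¹).trace * (H5.repOfMatrix B).character g = Nat.card H := by
    have := hB.classInner_self
    rw [classInner_def, inv_mul_eq_one₀ hG] at this
    rw [this]
    refine Finset.sum_congr rfl fun g _ => ?_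
    rw [H5.repOfMatrix_character, mul_comm, ← hB.isCharacter.apply_inv]
  rw [h3] at h2
  have hc : (Nat.card H / (H5.repOfMatrix B).character 1 : ℂ) ≠ 0 :=
    div_ne_zero hG (by rw [H5.repOfMatrix_character]; exact hB.apply_one_ne_zero)
  set s : ℂ := Nat.card H / (H5.repOfMatrix B).character 1
  have h2' : ∑ g, (B g⁻¹).trace • B g = s • (1 : Matrix ι ι ℂ) := Matrix.toLin'.injective (by
    rw [map_smul, Matrix.toLin'_one, ← h2, map_sum]
    simp [H5.repOfMatrix_apply])
  have h4 : Φ * (s • (1 : Matrix ι ι ℂ)) = 0 := by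
    rw [← h2', Finset.mul_sum]
    simp only [Matrix.mul_smul, hΦ, ← intertw]
    simp only [← Matrix.smul_mul, ← Finset.sum_mul, h1', zero_mul]
  rw [Matrix.mul_smul, mul_one, smul_eq_zero, or_iff_right hc] at h4
  rw [← sum_mul_single_mul, ← hΦ, h4]; rfl

end schur

end Cfsg.Agent.H19
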