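import Cfsg.Agent.H19.Gen2

/-! Sylow subgroup of prime order: Fourier coefficients relative to a character of `K` -/

set_option autoImplicit false

namespace Cfsg.Agent.H19

open Cfsg Cfsg.Agent.H4 Cfsg.Agent.H6
open scoped ComplexConjugate

variable {G : Type*} [Group G] {p : ℕ} [hp : Fact p.Prime]

/-- weighted sum over the `p`-regular part of the section -/
noncomputable def AW (x : G) (K : Subgroup G) [Fintype K] (θ : K → ℂ) (χ : G → ℂ) (i : ZMod p) : ℂ :=
  ∑ y : K, χ (xp x i * y) * conj (θ y)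

/-- Fourier coefficient -/
noncomputable def gm (x : G) (K : Subgroup G) [Fintype K] (θ : K → ℂ) (χ : G → ℂ) (k : ZMod p) : ℂ :=
  ((p : ℂ) * Nat.card K)⁻¹ * ∑ i, AW x K θ χ i * ee (-(i * k))

/-- difference of Fourier coefficients -/
noncomputable def gn (x : G) (K : Subgroup G) [Fintype K] (θ : K → ℂ) (χ : G → ℂ) (k : ZMod p) : ℂ :=
  gm x K θ χ (0 : ZMod p) - gm x K θ χ k

variable {x : G} {K : Subgroup G} [Fintype K] {θ θ' : K → ℂ}

theorem gn_eq (χ : G → ℂ) (k : ZMod p) :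
    gn x K θ χ k = ((p : ℂ) * Nat.card K)⁻¹ * ∑ i, AW x K θ χ i * (1 - ee (-(i * k))) := by
  simp only [gn, gm, mul_zero, neg_zero, ee_zero, mul_sub, Finset.sum_sub_distrib]

theorem gn_zero (χ : G → ℂ) : gn x K θ χ (0 : ZMod p) = 0 := sub_self _

theorem AW_eq_gm (χ : G → ℂ) (i : ZMod p) :
    AW x K θ χ i = Nat.card K * ∑ k, gm x K θ χ k * ee (i * k) := by
  have hK : (Nat.card K : ℂ) ≠ 0 := natCard_ne_zero'
  simp only [gm, mul_assoc, Finset.sum_mul, ← Finset.mul_sum]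
  rw [Finset.sum_comm]
  have e : ∀ l : ZMod p, ∑ k, AW x K θ χ l * (ee (-(l * k)) * ee (i * k)) =
      if l = i then AW x K θ χ l * p else 0 := by
    intro l
    rw [← Finset.mul_sum]
    have : ∀ k, ee (-(l * k)) * ee (i * k) = ee (k * (i - l)) := fun k => by
      rw [← ee_add]; congr 1; ring
    simp only [this, sum_ee, sub_eq_zero, eq_comm (a := i)]
    split_ifs <;> simp
  simp only [e, Finset.sum_ite_eq', Finset.mem_univ, if_true]
  have := p_ne_zero_C (p := p)
  field_simp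

theorem AW_eq_gn (χ : G → ℂ) {i : ZMod p} (hi : i ≠ 0) :
    AW x K θ χ i = -(Nat.card K * ∑ k, gn x K θ χ k * ee (i * k)) := by
  have e : ∑ k, ee (i * k) = 0 := by
    simp only [mul_comm i, sum_ee, hi, if_false]
  rw [AW_eq_gm]
  simp only [gn, sub_mul, Finset.sum_sub_distrib, ← Finset.mul_sum, e]
  ring

theorem sum_AW_sub (χ : G → ℂ) :
    ∑ i : ZMod p, AW x K θ χ i - AW x K θ χ (0 : ZMod p) =
      Nat.card K * ∑ k : ZMod p, gn x K θ χ k := by
  have hK : (Nat.card K : ℂ) ≠ 0 := natCard_ne_zero'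
  have := p_ne_zero_C (p := p)
  rw [AW_eq_gm χ 0]
  simp only [gn, Finset.sum_sub_distrib, zero_mul, ee_zero, mul_one, Finset.sum_const,
    Finset.card_univ, ZMod.card, nsmul_eq_mul]
  rw [mul_sub]
  congr 1
  simp only [gm, mul_zero, neg_zero, ee_zero, mul_one]
  field_simp

theorem gn_sum {ι : Type*} (s : Finset ι) (a : ι → ℂ) (χ : ι → G → ℂ) (k : ZMod p) :
    gn x K θ (∑ i ∈ s, a i • χ i) k = ∑ i ∈ s, a i * gn x K θ (χ i) k := by
  simp only [gn_eq, AW, Finset.sum_apply, Pi.smul_apply, smul_eq_mul, Finset.mul_sum,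
    Finset.sum_mul]
  conv_rhs => rw [Finset.sum_comm]
  refine Finset.sum_congr rfl fun i _ => ?_
  conv_rhs => rw [Finset.sum_comm]
  exact Finset.sum_congr rfl fun y _ => Finset.sum_congr rfl fun b _ => by ring

theorem sum_gn_eq_units (χ : G → ℂ) :
    ∑ k : ZMod p, gn x K θ χ k = ∑ k : (ZMod p)ˣ, gn x K θ χ (k : ZMod p) := by
  rw [sum_zmod_eq_units, gn_zero, zero_add]

namespace PO
variable (h : PO p x K)

/-- conjugation on `K` -/
def cK (n : Subgroup.normalizer (Subgroup.zpowers x : Set G)) : K ≃* K where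
  toFun y := ⟨n * y * (n : G)⁻¹, h.conj_mem n.2 y.2⟩
  invFun y := ⟨(n : G)⁻¹ * y * (n : G)⁻¹⁻¹, h.conj_mem (inv_mem n.2) y.2⟩
  left_inv y := Subtype.ext (by simp [mul_assoc])
  right_inv y := Subtype.ext (by simp [mul_assoc])
  map_mul' a b := Subtype.ext (by simp [mul_assoc])

omit [Fintype K] in
@[simp] theorem coe_cK (n : Subgroup.normalizer (Subgroup.zpowers x : Set G)) (y : K) :
    (h.cK n y : G) = n * y * (n : G)⁻¹ := rfl

omit [Fintype K] in
theorem cK_mul (m n : Subgroup.normalizer (Subgroup.zpowers x : Set G)) (y : K) :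
    h.cK (m * n) y = h.cK m (h.cK n y) := Subtype.ext (by simp [mul_assoc])

omit [Fintype K] in
theorem cK_one (y : K) : h.cK 1 y = y := Subtype.ext (by simp)

/-- inertia group -/
def TT (θ : K → ℂ) : Subgroup G where
  carrier := {n | ∃ hn : n ∈ Subgroup.normalizer (Subgroup.zpowers x : Set G),
    ∀ y, θ (h.cK ⟨n, hn⟩ y) = θ y}
  one_mem' := ⟨one_mem _, fun y => congrArg θ (h.cK_one y)⟩
  mul_mem' := by
    rintro a b ⟨ha, ha'⟩ ⟨hb, hb'⟩
    exact ⟨mul_mem ha hb, fun y => by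
      rw [← hb' y, ← ha' (h.cK ⟨b, hb⟩ y), ← cK_mul]; rfl⟩
  inv_mem' := by
    rintro a ⟨ha, ha'⟩
    exact ⟨inv_mem ha, fun y => by
      rw [← ha', ← cK_mul]
      exact congrArg θ (Subtype.ext (by simp))⟩

omit [Fintype K] in
theorem TT_le (θ : K → ℂ) : h.TT θ ≤ Subgroup.normalizer (Subgroup.zpowers x : Set G) :=
  fun _ ha => ha.1

omit [Fintype K] in
theorem mem_TT {n : Subgroup.normalizer (Subgroup.zpowers x : Set G)} :
    (n : G) ∈ h.TT θ ↔ ∀ y, θ (h.cK n y) = θ y :=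
  ⟨fun ⟨_, hn⟩ => hn, fun hn => ⟨n.2, hn⟩⟩

omit [Fintype K] in
theorem mem_TT_of_commute [Finite G] (hθ : IsClassFunction K θ) {g : G} (hg : Commute x g) :
    g ∈ h.TT θ := by
  refine ⟨mem_normalizer_of_commute h.ord hg, fun y => ?_⟩
  obtain ⟨i, z, hz, rfl⟩ := h.exists_eq_mul hg
  rw [← hθ y ⟨z, hz⟩]
  refine congrArg θ (Subtype.ext ?_)
  have := (h.commute_xp i (K.mul_mem (K.mul_mem hz y.2) (K.inv_mem hz))).eq
  simp only [coe_cK, mul_inv_rev, Subgroup.coe_mul, Subgroup.coe_inv]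
  rw [← mul_inv_eq_iff_eq_mul] at this
  rw [← this]; group

/-- inertial automizer -/
def EW (θ : K → ℂ) : Subgroup (ZMod p)ˣ where
  carrier := {c | ∃ g ∈ h.TT θ, g * x * g⁻¹ = xp x (c : ZMod p)}
  one_mem' := ⟨1, one_mem _, by simp [xp_one h.ord]⟩
  mul_mem' := by
    rintro a b ⟨g, hg', hg⟩ ⟨k, hk', hk⟩
    exact ⟨g * k, mul_mem hg' hk', by
      rw [Units.val_mul, ← conj_xp h.ord hg, ← hk]; group⟩
  inv_mem' := by
    rintro a ⟨g, hg', hg⟩
    refine ⟨g⁻¹, inv_mem hg', ?_⟩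
    have := conj_xp h.ord hg (a⁻¹ : (ZMod p)ˣ)
    rw [Units.mul_inv, xp_one h.ord] at this
    conv_lhs => rw [← this]
    group

include h

theorem exists_gm_nat {χ : G → ℂ} (hχ : IsCharacter G χ) (hθ : IsCharacter K θ) (k : ZMod p) :
    ∃ m : ℕ, gm x K θ χ k = m := by
  let f : Multiplicative (ZMod p) × K →* G :=
    { toFun := fun a => xp x a.1.toAdd * a.2
      map_one' := by simp
      map_mul' := fun a b => by
        simp only [Prod.fst_mul, toAdd_mul, Prod.snd_mul, Subgroup.coe_mul, xp_add h.ord]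
        rw [mul_assoc, mul_assoc, ← mul_assoc (xp x b.1.toAdd), (h.commute_xp _ a.2.2).eq,
          mul_assoc] }
  let lam : Multiplicative (ZMod p) × K →* ℂˣ := MonoidHom.toHomUnits
    { toFun := fun a => ee (a.1.toAdd * k)
      map_one' := by simp
      map_mul' := fun a b => by simp [add_mul, ee_add] }
  obtain ⟨m, hm⟩ := (hχ.comp f).classInner_nat
    ((isCharacter_linear lam).mul (hθ.comp (MonoidHom.snd _ _)))
  refine ⟨m, ?_⟩
  rw [← hm, classInner_def, gm, Nat.card_prod, Nat.card_congr Multiplicative.toAdd, Nat.card_zmod,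
    Fintype.sum_prod_type, ← Equiv.sum_comp Multiplicative.toAdd]
  push_cast
  congr 1
  refine Finset.sum_congr rfl fun i _ => ?_
  rw [AW, Finset.sum_mul]
  refine Finset.sum_congr rfl fun y _ => ?_
  rw [← conj_ee, mul_assoc, ← map_mul, mul_comm (θ y)]; rfl

theorem exists_gn_int {χ : G → ℂ} (hχ : IsCharacter G χ) (hθ : IsCharacter K θ) (k : ZMod p) :
    ∃ m : ℤ, gn x K θ χ k = m := by
  obtain ⟨a, ha⟩ := h.exists_gm_nat hχ hθ 0
  obtain ⟨b, hb⟩ := h.exists_gm_nat hχ hθ k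
  exact ⟨a - b, by rw [gn, ha, hb]; simp⟩

theorem AW_cK {χ : G → ℂ} (hχ : IsClassFunction G χ)
    (n : Subgroup.normalizer (Subgroup.zpowers x : Set G)) {c : ZMod p}
    (hn : n * x * (n : G)⁻¹ = xp x c) (i : ZMod p) :
    AW x K (fun y => θ (h.cK n y)) χ i = AW x K θ χ (c * i) := by
  rw [AW, AW, ← (h.cK n).toEquiv.sum_comp (fun y => χ (xp x (c * i) * y) * conj (θ y))]
  refine Finset.sum_congr rfl fun y _ => ?_
  rw [← conj_xp h.ord hn, ← hχ (xp x i * y) n]
  congr 2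
  simp [mul_assoc]

theorem AW_conj {χ : G → ℂ} (hχ : IsClassFunction G χ) {c : (ZMod p)ˣ} (hc : c ∈ h.EW θ)
    (i : ZMod p) : AW x K θ χ ((c : ZMod p) * i) = AW x K θ χ i := by
  obtain ⟨n, ⟨hN, hθ⟩, hn⟩ := hc
  rw [← h.AW_cK hχ ⟨n, hN⟩ hn]
  simp only [hθ]

theorem gn_conj {χ : G → ℂ} (hχ : IsClassFunction G χ) {c : (ZMod p)ˣ} (hc : c ∈ h.EW θ)
    (k : ZMod p) : gn x K θ χ ((c : ZMod p) * k) = gn x K θ χ k := by
  rw [gn_eq, gn_eq,
    ← Equiv.sum_comp (Units.mulLeft c) (fun i => AW x K θ χ i * (1 - ee (-(i * k))))]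
  congr 1
  refine Finset.sum_congr rfl fun i _ => ?_
  rw [Units.mulLeft_apply, h.AW_conj hχ hc]
  congr 4; ring

variable [Fintype G]

theorem sum_AW_mul_conj_of_regular {i : ZMod p} (hi : i ≠ 0) {g : G} (hg : ¬ p ∣ orderOf g) :
    ∑ χ : IrrCharacter G, AW x K θ χ i * conj ((χ : G → ℂ) g) = 0 := by
  simp only [AW, Finset.sum_mul]
  rw [Finset.sum_comm]
  refine Finset.sum_eq_zero fun y _ => ?_
  simp only [mul_right_comm _ (conj (θ y)), ← Finset.sum_mul]
  refine mul_eq_zero_of_left (column_orthogonality_of_not_isConj fun hc => hg ?_) _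
  rw [← orderOf_eq_of_isConj hc]
  exact h.dvd_orderOf hi y.2

theorem sum_gn_mul_of_regular (k : ZMod p) {g : G} (hg : ¬ p ∣ orderOf g) :
    ∑ χ : IrrCharacter G, gn x K θ χ k * (χ : G → ℂ) g = 0 := by
  have e : ∑ χ : IrrCharacter G, gn x K θ χ k * conj ((χ : G → ℂ) g⁻¹) = 0 := by
    simp only [gn_eq, mul_assoc, ← Finset.mul_sum, Finset.sum_mul]
    rw [Finset.sum_comm]
    refine mul_eq_zero_of_right _ (Finset.sum_eq_zero fun i _ => ?_)
    by_cases hi : i = 0
    · simp [hi]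
    · have := h.sum_AW_mul_conj_of_regular (θ := θ) hi (g := g⁻¹) (by rwa [orderOf_inv])
      simp only [mul_left_comm (AW x K θ _ i), ← Finset.mul_sum, this, mul_zero]
  rw [← e]
  refine Finset.sum_congr rfl fun χ _ => ?_
  rw [χ.2.isCharacter.apply_inv, Complex.conj_conj]

omit [Fintype G] in
theorem irr_cK (hθ : IsIrrCharacter K θ) (n : Subgroup.normalizer (Subgroup.zpowers x : Set G)) :
    IsIrrCharacter K fun y => θ (h.cK n y) :=
  hθ.comp_equiv (h.cK n)

open Classical in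
theorem sum_AW_mul_conj (hθ : IsIrrCharacter K θ) (i : ZMod p) {j : ZMod p} (hj : j ≠ 0) :
    ∑ χ : IrrCharacter G, AW x K θ χ i * conj (AW x K θ χ j) =
      Nat.card K * (p * Nat.card K) * ∑ c : h.EW θ, if i = c.1 * j then 1 else 0 := by
  have hK : (Nat.card K : ℂ) ≠ 0 := natCard_ne_zero'
  have e1 : ∀ g : G, ∑ z : K, ∑ y : K,
      (if g * (xp x j * z) * g⁻¹ = xp x i * y then conj (θ y) * θ z else 0) =
      if g ∈ h.TT θ ∧ g * xp x j * g⁻¹ = xp x i then (Nat.card K : ℂ) else 0 := by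
    intro g
    by_cases hg : g * xp x j * g⁻¹ = xp x i
    · have hN := mem_normalizer_of_conj_xp h.ord hj hg
      have e : ∀ z : K, ∑ y : K,
          (if g * (xp x j * z) * g⁻¹ = xp x i * y then conj (θ y) * θ z else 0) =
          θ z * conj (θ (h.cK ⟨g, hN⟩ z)) := by
        intro z
        rw [Finset.sum_eq_single (h.cK ⟨g, hN⟩ z), if_pos, mul_comm]
        · rw [← hg, coe_cK]; group
        · intro y _ hy
          exact if_neg fun e => hy (Subtype.ext (h.conj_eq z.2 y.2 e).2.symm)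
        · simp
      have e' := hθ.classInner_eq_ite (h.irr_cK hθ ⟨g, hN⟩)
      rw [classInner_def, inv_mul_eq_iff_eq_mul₀ hK] at e'
      simp only [e, e', hg, and_true]
      have : (θ = fun y => θ (h.cK ⟨g, hN⟩ y)) ↔ g ∈ h.TT θ :=
        ⟨fun e => h.mem_TT (n := ⟨g, hN⟩).mpr fun y => (congrFun e y).symm,
          fun e => funext fun y => (h.mem_TT (n := ⟨g, hN⟩).mp e y).symm⟩
      simp only [this]
      split_ifs <;> simp
    · rw [if_neg (fun e => hg e.2)]
      exact Finset.sum_eq_zero fun z _ => Finset.sum_eq_zero fun y _ =>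
        if_neg fun e => hg (h.conj_eq z.2 y.2 e).1
  have e2 : ∑ g : G, (if g ∈ h.TT θ ∧ g * xp x j * g⁻¹ = xp x i then (1 : ℂ) else 0) =
      (p * Nat.card K) * ∑ c : h.EW θ, if i = c.1 * j then 1 else 0 := by
    by_cases hc : ∃ g ∈ h.TT θ, g * xp x j * g⁻¹ = xp x i
    · obtain ⟨g, hgT, hg⟩ := hc
      have hi := ne_zero_of_conj h.ord hj hg
      rw [Finset.sum_eq_single (⟨Units.mk0 (i * j⁻¹) (mul_ne_zero hi (inv_ne_zero hj)), g, hgT,
          conj_eq_of_conj_xp h.ord hj hg⟩ : h.EW θ), if_pos, ← Equiv.sum_comp (Equiv.mulLeft g)]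
      · have := natCard_subtype_eq_sum (R := ℂ) (fun a => a ∈ Subgroup.centralizer ({x} : Set G))
        have e := h.card_centralizer
        rw [mul_one, ← Nat.cast_mul, ← e]
        refine Eq.trans ?_ this.symm
        refine Finset.sum_congr rfl fun a _ => if_congr ?_ rfl rfl
        rw [Equiv.coe_mulLeft, mem_centralizer_singleton, ← hg, ← commute_xp_iff h.ord hj]
        have e3 : g * a * xp x j * (g * a)⁻¹ = g * xp x j * g⁻¹ ↔ Commute (xp x j) a := by
          rw [show g * a * xp x j * (g * a)⁻¹ = g * (a * xp x j * a⁻¹) * g⁻¹ by group,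
            mul_left_inj, mul_right_inj, mul_inv_eq_iff_eq_mul, eq_comm]; rfl
        rw [e3]
        exact ⟨fun e => e.2, fun e => ⟨mul_mem hgT (h.mem_TT_of_commute hθ.isClassFunction
          ((commute_xp_iff h.ord hj).mp e)), e⟩⟩
      · simp [hj]
      · intro c _ hc
        refine if_neg fun e => hc (Subtype.ext (Units.ext ?_))
        simp [e, hj]
      · simp
    · rw [Finset.sum_eq_zero fun g _ => if_neg fun e => hc ⟨g, e⟩, Finset.sum_eq_zero]
      · simp
      · rintro ⟨c, g, hgT, hg⟩ _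
        exact if_neg fun e => hc ⟨g, hgT, by rw [conj_xp h.ord hg, e]⟩
  have e3 : ∀ y z : K, ∑ χ : IrrCharacter G, (χ : G → ℂ) (xp x i * y) * conj (θ y) *
      conj ((χ : G → ℂ) (xp x j * z) * conj (θ z)) =
      ∑ g : G, if g * (xp x j * z) * g⁻¹ = xp x i * y then conj (θ y) * θ z else 0 := by
    intro y z
    have := sum_irr_mul_conj (xp x i * y) (xp x j * (z : G))
    rw [natCard_subtype_eq_sum] at this
    simp only [map_mul, Complex.conj_conj]
    rw [Finset.sum_congr rfl fun (χ : IrrCharacter G) _ => mul_mul_mul_comm _ _ _ _,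
      ← Finset.sum_mul, this, Finset.sum_mul]
    simp
  simp only [AW, map_sum, Finset.sum_mul_sum]
  rw [Finset.sum_comm, Finset.sum_congr rfl fun y _ => Finset.sum_comm]
  simp only [e3]
  rw [Finset.sum_comm, Finset.sum_congr rfl fun y _ => Finset.sum_comm, Finset.sum_comm]
  simp only [e1]
  rw [mul_assoc, ← e2, Finset.mul_sum]
  simp

open Classical in
theorem gramW (hθ : IsIrrCharacter K θ) (k l : (ZMod p)ˣ) :
    ∑ χ : IrrCharacter G, gn x K θ χ (k : ZMod p) * conj (gn x K θ χ (l : ZMod p)) =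
      Nat.card (h.EW θ) + if k⁻¹ * l ∈ h.EW θ then 1 else 0 := by
  have hK : (Nat.card K : ℂ) ≠ 0 := natCard_ne_zero'
  have hp0 := p_ne_zero_C (p := p)
  have e1 : ∀ i j : ZMod p, ∑ χ : IrrCharacter G, AW x K θ χ i * (1 - ee (-(i * (k : ZMod p)))) *
      (conj (AW x K θ χ j) * (1 - ee (j * (l : ZMod p)))) = Nat.card K * (p * Nat.card K) *
        ∑ c : h.EW θ, if i = (c.1 : ZMod p) * j then (1 - ee (-(i * (k : ZMod p)))) * (1 - ee (j * (l : ZMod p))) else 0 := by
    intro i j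
    by_cases hj : j = 0
    · simp [hj]
    · have : ∀ χ : IrrCharacter G, AW x K θ χ i * (1 - ee (-(i * (k : ZMod p)))) *
          (conj (AW x K θ χ j) * (1 - ee (j * (l : ZMod p)))) =
          (AW x K θ χ i * conj (AW x K θ χ j)) *
            ((1 - ee (-(i * (k : ZMod p)))) * (1 - ee (j * (l : ZMod p)))) := fun χ => by ring
      simp only [this]
      rw [← Finset.sum_mul, h.sum_AW_mul_conj hθ i hj, mul_assoc, Finset.sum_mul]
      simp
  have e2 : ∀ c : h.EW θ, ∑ j : ZMod p, (1 - ee (-((c.1 : ZMod p) * j * (k : ZMod p)))) * (1 - ee (j * (l : ZMod p))) =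
      p * (1 + if c.1 = k⁻¹ * l then 1 else 0) := by
    intro c
    have : ∀ j : ZMod p, (1 - ee (-((c.1 : ZMod p) * j * (k : ZMod p)))) * (1 - ee (j * (l : ZMod p))) =
        1 - ee (j * (-((c.1 : ZMod p) * (k : ZMod p)))) - ee (j * (l : ZMod p)) + ee (j * ((l : ZMod p) - (c.1 : ZMod p) * (k : ZMod p))) := fun j => by
      rw [show j * ((l : ZMod p) - (c.1 : ZMod p) * (k : ZMod p)) = -((c.1 : ZMod p) * j * (k : ZMod p)) + j * (l : ZMod p) by ring, ee_add,
        show j * (-((c.1 : ZMod p) * (k : ZMod p)) : ZMod p) = -((c.1 : ZMod p) * j * (k : ZMod p)) by ring]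
      ring
    have hck : (-((c.1 : ZMod p) * (k : ZMod p)) : ZMod p) ≠ 0 := neg_ne_zero.mpr (mul_ne_zero c.1.ne_zero k.ne_zero)
    have hiff : ((l : ZMod p) - (c.1 : ZMod p) * (k : ZMod p) = 0) ↔ c.1 = k⁻¹ * l := by
      rw [sub_eq_zero, ← Units.val_mul, Units.val_inj, eq_inv_mul_iff_mul_eq, mul_comm, eq_comm]
    simp only [this, Finset.sum_add_distrib, Finset.sum_sub_distrib, sum_ee, hck, l.ne_zero,
      if_false, hiff, Finset.sum_const, Finset.card_univ, ZMod.card]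
    split_ifs <;> simp; ring
  have e3 : ∑ c : h.EW θ, (if c.1 = k⁻¹ * l then (1 : ℂ) else 0) =
      if k⁻¹ * l ∈ h.EW θ then 1 else 0 := by
    split_ifs with hc
    · rw [Finset.sum_eq_single ⟨_, hc⟩ (fun b _ hb => if_neg fun e => hb (Subtype.ext e)) (by simp),
        if_pos rfl]
    · exact Finset.sum_eq_zero fun c _ => if_neg fun e => hc (by rw [← e]; exact c.2)
  have e4 : ∀ χ : IrrCharacter G, gn x K θ χ (k : ZMod p) * conj (gn x K θ χ (l : ZMod p)) =
      ((p : ℂ) * Nat.card K)⁻¹ * ((p : ℂ) * Nat.card K)⁻¹ * ∑ j : ZMod p, ∑ i : ZMod p,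
        AW x K θ χ i * (1 - ee (-(i * (k : ZMod p)))) *
          (conj (AW x K θ χ j) * (1 - ee (j * (l : ZMod p)))) := by
    intro χ
    rw [Finset.sum_comm, ← Finset.sum_mul_sum]
    simp only [gn_eq, map_mul, map_inv₀, map_natCast, map_sum, map_sub, map_one, conj_ee, neg_neg]
    ring
  simp only [e4]
  rw [← Finset.mul_sum, Finset.sum_comm, Finset.sum_congr rfl fun j _ => Finset.sum_comm]
  simp only [e1, ← Finset.mul_sum]
  rw [Finset.sum_congr rfl fun j _ => Finset.sum_comm, Finset.sum_comm]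
  simp only [Finset.sum_ite_eq', Finset.mem_univ, if_true, e2, ← Finset.mul_sum,
    Finset.sum_add_distrib, e3, Finset.sum_const, Finset.card_univ, nsmul_eq_mul, mul_one,
    Fintype.card_eq_nat_card]
  field_simp

end PO

end Cfsg.Agent.H19
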