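import Cfsg.Agent.H19.Gen3

/-! Sylow subgroup of prime order: lattice characters relative to a character of `K` -/

set_option autoImplicit false

namespace Cfsg.Agent.H19

open Cfsg Cfsg.Agent.H4 Cfsg.Agent.H6
open scoped ComplexConjugate

variable {G : Type*} [Group G] {p : ℕ} [hp : Fact p.Prime]
variable {x : G} {K : Subgroup G} [Fintype K] {θ θ' : K → ℂ} [Fintype G]

namespace PO
variable (h : PO p x K)
include h

omit [Fintype K] in
theorem exists_genT (hθ : IsClassFunction K θ) : ∃ g ∈ h.TT θ, g ^ (p - 1) ∈ K ∧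
    ∀ n ∈ h.TT θ, ∃ i j : ℕ, ∃ y ∈ K, n = x ^ i * g ^ j * y := by
  obtain ⟨⟨c, g₀, hT₀, hg₀⟩, hc⟩ := IsCyclic.exists_monoid_generator (α := h.EW θ)
  have hN₀ := h.TT_le θ hT₀
  obtain ⟨u, hu⟩ := exists_isPPart hp.out g₀
  obtain ⟨i₀, rfl⟩ := (mem_zpowers_iff_xp h.ord).mp (mem_zpowers_of_pelt h.ord h.nsq
    (IsPPart.pow_order hu) (IsPPart.mem_subgroup hp.out hu hN₀))
  obtain ⟨g, rfl, hcm, -, hg⟩ := hu
  have hg1 : g * x * g⁻¹ = xp x (c : ZMod p) := by
    have e : xp x i₀ * x = x * xp x i₀ := ((Commute.refl x).pow_left _).eq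
    rw [← hg₀, hcm.eq, mul_assoc g (xp x i₀), e]; group
  have hpow : ∀ j : ℕ, g ^ j * x * (g ^ j)⁻¹ = xp x ((c ^ j : (ZMod p)ˣ) : ZMod p) := by
    intro j
    induction j with
    | zero => simp [xp_one h.ord]
    | succ j ih => rw [pow_succ' c, Units.val_mul, ← conj_xp h.ord hg1, ← ih, pow_succ']; group
  have hT : g ∈ h.TT θ := (mul_mem_cancel_left
    (h.mem_TT_of_commute hθ ((Commute.refl x).pow_right _))).mp hT₀
  have hN := h.TT_le θ hT
  refine ⟨g, hT, (h.memK _).mpr ⟨?_, fun hd => hg (hd.trans (orderOf_pow_dvd _))⟩, fun n hn => ?_⟩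
  · have := hpow (p - 1)
    rw [ZMod.units_pow_card_sub_one_eq_one, Units.val_one, xp_one h.ord,
      mul_inv_eq_iff_eq_mul] at this
    exact this.symm
  · obtain ⟨d, hd⟩ := exists_unit_of_mem_normalizer h.ord (h.TT_le θ hn)
    obtain ⟨j, hj⟩ := hc ⟨d, n, hn, hd⟩
    have hj' : c ^ j = d := congrArg Subtype.val hj
    have h1 : Commute x (n * (g ^ j)⁻¹) := by
      have e1 := hpow j
      rw [hj'] at e1
      have e2 := conj_xp h.ord e1 (d⁻¹ : (ZMod p)ˣ)
      have e3 := conj_xp h.ord hd (d⁻¹ : (ZMod p)ˣ)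
      rw [Units.mul_inv, xp_one h.ord] at e2 e3
      rw [Commute, SemiconjBy]
      conv_lhs => rw [← e3]
      conv_rhs => rw [← e2]
      group
    obtain ⟨i, y, hy, e⟩ := h.exists_eq_mul h1
    refine ⟨i.val, j, (g ^ j)⁻¹ * y * (g ^ j)⁻¹⁻¹,
      h.conj_mem (inv_mem (Subgroup.pow_mem _ hN j)) hy, ?_⟩
    rw [mul_inv_eq_iff_eq_mul] at e
    rw [e, xp]; group

theorem exists_sigma (hθ : IsIrrCharacter K θ) :
    ∃ (R : Type) (_ : CommRing R) (_ : IsDomain R) (_ : IsPrincipalIdealRing R) (j : R →+* ℂ)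
      (n : ℕ) (σ : G → Matrix (Fin n) (Fin n) R), Good p R ∧ Function.Injective j ∧ σ 1 = 1 ∧
      (∀ a ∈ h.TT θ, ∀ b ∈ h.TT θ, σ (a * b) = σ a * σ b) ∧ σ x = 1 ∧
      ∀ y : K, j (σ y).trace = θ y := by
  classical
  obtain ⟨g, hgT, -, hgen⟩ := h.exists_genT hθ.isClassFunction
  set T := h.TT θ
  have hxT : x ∈ T := h.mem_TT_of_commute hθ.isClassFunction rfl
  have hKT : K ≤ T := fun y hy => h.mem_TT_of_commute hθ.isClassFunction (h.commute hy)
  let P := (Subgroup.zpowers x).subgroupOf T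
  haveI : P.Normal := Subgroup.normal_subgroupOf_of_le_normalizer (h.TT_le θ)
  let E : H5.NEmb K (T ⧸ P) :=
    { f := (QuotientGroup.mk' P).comp (Subgroup.inclusion hKT)
      inj := (injective_iff_map_eq_one _).mpr fun y hy => by
        have h1 : (y : G) ∈ Subgroup.zpowers x := (QuotientGroup.eq_one_iff (N := P) _).mp hy
        obtain ⟨i, hi⟩ := (mem_zpowers_iff_xp h.ord).mp h1
        have := (h.eq_of_mul_eq (i := i) (j := 0) K.one_mem y.2 (by simp [hi])).2
        exact Subtype.ext this.symm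
      act := fun q y => h.cK ⟨q.out, h.TT_le θ q.out.2⟩ y
      f_act := fun q y => by
        conv_rhs => rw [← q.out_eq']
        rfl }
  haveI hEn : E.f.range.Normal := E.instNormalRange
  have hcyc : IsCyclic ((T ⧸ P) ⧸ E.f.range) := by
    refine isCyclic_iff_exists_zpowers_eq_top.mpr ⟨((⟨g, hgT⟩ : T) : T ⧸ P), ?_⟩
    rw [eq_top_iff]
    intro q _
    induction q using QuotientGroup.induction_on with
    | H q =>
    induction q using QuotientGroup.induction_on with
    | H t =>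
    obtain ⟨i, j, y, hy, e⟩ := hgen t t.2
    have e' : t = ⟨x, hxT⟩ ^ i * ⟨g, hgT⟩ ^ j * ⟨y, hKT hy⟩ := Subtype.ext e
    have h1 : ((⟨x, hxT⟩ : T) : T ⧸ P) = 1 :=
      (QuotientGroup.eq_one_iff _).mpr (Subgroup.mem_zpowers x)
    have h2 : ((((⟨y, hKT hy⟩ : T) : T ⧸ P)) : (T ⧸ P) ⧸ E.f.range) = 1 :=
      (QuotientGroup.eq_one_iff _).mpr ⟨⟨y, hy⟩, rfl⟩
    rw [e']
    simp only [QuotientGroup.mk_mul, QuotientGroup.mk_pow, h1, h2, one_pow, one_mul, mul_one]
    exact Subgroup.pow_mem _ (Subgroup.mem_zpowers _) _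
  obtain ⟨ψ, hψ, hψθ⟩ := E.exists_ext_of_isCyclic hθ
    (fun q y => (h.mem_TT (n := ⟨q.out, h.TT_le θ q.out.2⟩)).mp q.out.2 y) hcyc
  have hm : ¬ p ∣ Nat.card (T ⧸ P) := fun hd => h.nsq (by
    refine Dvd.dvd.trans ?_ (Subgroup.card_subgroup_dvd_card T)
    rw [Subgroup.card_eq_card_quotient_mul_card_subgroup P,
      Nat.card_congr (Subgroup.subgroupOfEquivOfLe (Subgroup.zpowers_le.mpr hxT)).toEquiv,
      Nat.card_zpowers, h.ord, sq]
    exact Nat.mul_dvd_mul_right hd p)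
  obtain ⟨R, _, _, _, j, hR, hj, hr⟩ := exists_good_roots p hm
  obtain ⟨n, A, hA⟩ := exists_matrix_of_roots j hj hr hψ.isCharacter
  refine ⟨R, inferInstance, inferInstance, inferInstance, j, n,
    H5.extMat T (A.comp (QuotientGroup.mk' P)), hR, hj, ?_, fun a ha b _ => ?_, ?_, fun y => ?_⟩
  · rw [H5.extMat_mem _ _ T.one_mem]; exact map_one _
  · rw [H5.extMat_mul _ _ ha]
  · rw [H5.extMat_mem _ _ hxT, MonoidHom.comp_apply, ← map_one A]
    exact congrArg A ((QuotientGroup.eq_one_iff _).mpr (Subgroup.mem_zpowers x))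
  · rw [H5.extMat_mem _ _ (hKT y.2), ← hψθ, ← hA]; rfl

open Classical in
theorem exists_lattice_charW (hθ : IsIrrCharacter K θ) {χ : G → ℂ} (hχ : IsIrrCharacter G χ) :
    ∃ (ψ : G → ℂ) (τ : ℤ), IsCharacter G ψ ∧ classInner ψ χ ≠ 0 ∧ (τ = 0 ∨ τ = 1 ∨ τ = -1) ∧
      (∀ k : ZMod p, k ≠ 0 → gn x K θ ψ k = τ) ∧
      (∑ k : ZMod p, gn x K θ χ k) * ψ 1 = χ 1 * ((p - 1) * τ) := by
  have hK : (Nat.card K : ℂ) ≠ 0 := natCard_ne_zero'
  have hG : (Nat.card G : ℂ) ≠ 0 := natCard_ne_zero'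
  obtain ⟨R, _, _, _, j, n, σ, hR, hj, hσ1, hσ, hσx, hσθ⟩ := h.exists_sigma hθ
  haveI := hR.charZero
  obtain ⟨L, ρ, hind, hψ, hin, hf⟩ := exists_min_lattice j hj hχ
  obtain ⟨g₀, hg₀, hg₀K, hgen⟩ := h.exists_genT hθ.isClassFunction
  have hKT : K ≤ h.TT θ := fun y hy => h.mem_TT_of_commute hθ.isClassFunction (h.commute hy)
  let B : K →* Matrix (Fin n) (Fin n) ℂ :=
    { toFun := fun y => (σ y).map j
      map_one' := by simp [hσ1]
      map_mul' := fun a b => by
        rw [Subgroup.coe_mul, hσ _ (hKT a.2) _ (hKT b.2), Matrix.map_mul] }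
  have hB : (fun y => (B y).trace) = θ := funext fun y => by
    rw [← hσθ, AddMonoidHom.map_trace]; rfl
  have hσi : ∀ y : K, j (σ (y : G)⁻¹).trace = conj (θ y) := fun y => by
    rw [← hθ.isCharacter.apply_inv, ← hσθ]; rfl
  obtain ⟨τ, hτ, htr⟩ := hR.lattice_trace_tw ρ hind h.ord h.ti (h.TT_le θ) hKT
    (h.mem_TT_of_commute hθ.isClassFunction rfl) hg₀
    (fun n hn => (mem_normalizer_iff_xp h.ord).mp hn) (fun n hn y hy => h.conj_mem hn hy)
    h.not_dvd_card hg₀K hgen σ hσ1 hσ hσx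
    (fun a b c e => hj (by
      have := schur_S1 B (hB ▸ hθ) a b c e
      rw [map_mul, map_sum, map_natCast, apply_ite j, map_natCast, map_zero, ← this]
      simp [B]))
    (fun m hm hmT a b c e => hj (by
      have := schur_S2 (B.comp (h.cK ⟨m, hm⟩).toMonoidHom) B (hB ▸ hθ) (by
        have e1 : (fun y => ((B.comp (h.cK ⟨m, hm⟩).toMonoidHom) y).trace) =
            fun y => θ (h.cK ⟨m, hm⟩ y) := funext fun y => congrFun hB _
        rw [hB, e1]
        exact (h.irr_cK hθ _).classInner_of_ne hθ fun e =>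
          hmT (h.mem_TT (n := ⟨m, hm⟩).mpr (congrFun e))) a b c e
      rw [map_sum, map_zero, ← this]
      simp [B]))
  set ψ : G → ℂ := fun g => j (LinearMap.trace _ L (ρ g)) with hψdef
  have hsum : ∑ k : ZMod p, gn x K θ ψ k = (p - 1) * τ := by
    apply mul_left_cancel₀ hK
    have := congrArg j htr
    simp only [map_mul j, map_natCast, map_sub, map_one, map_intCast, map_sum, hσi] at this
    rw [← this, ← sum_AW_sub]
    congr 1
    · obtain ⟨n, rfl⟩ : ∃ n, p = n + 1 := ⟨p - 1, by have := hp.out.pos; omega⟩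
      rw [Finset.sum_range]
      rfl
    · simp [AW, ψ]
  choose m hm using h.exists_gm_nat hψ hθ.isCharacter
  have hconst : ∀ k l : ZMod p, k ≠ 0 → l ≠ 0 → gn x K θ ψ k = gn x K θ ψ l := by
    intro k l hk hl
    obtain ⟨κ, hκ⟩ := hR.isUnit_natCast h.not_dvd_card
    have := hR.coeff_eq j hj (fun k => (m k : ℤ))
      ((↑κ⁻¹ : R) * ∑ y : K, LinearMap.trace _ L (ρ (xp x (1 : ZMod p) * y)) *
        (σ (y : G)⁻¹).trace)
      (by
        apply mul_left_cancel₀ hK
        have e := AW_eq_gm (x := x) (K := K) (θ := θ) ψ (1 : ZMod p)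
        simp only [hm, one_mul] at e
        rw [← map_natCast j, ← map_mul, ← hκ, Units.mul_inv_cancel_left, hκ, map_natCast, map_sum]
        simp only [Int.cast_natCast, map_mul j, hσi]
        exact e.symm) hk hl
    rw [gn, gn, hm k, hm l, Int.natCast_inj.mp this]
  have hp1 : (p : ℂ) - 1 ≠ 0 := by
    rw [sub_ne_zero]; exact_mod_cast hp.out.ne_one
  refine ⟨ψ, τ, hψ, hin, hτ, fun k hk => ?_, ?_⟩
  · apply mul_left_cancel₀ hp1
    rw [← hsum, ← Finset.add_sum_erase _ _ (Finset.mem_univ (0 : ZMod p)), gn_zero, zero_add,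
      Finset.sum_congr rfl fun l hl => hconst l k (Finset.ne_of_mem_erase hl) hk]
    simp [Finset.card_erase_of_mem, Nat.cast_sub hp.out.one_le]
  · choose a ha using h.exists_gn_int hχ.isCharacter hθ.isCharacter
    obtain ⟨d, -, hd⟩ := hχ.exists_degree
    let F : G → R := fun g => ∑ t : G, ∑ i : ZMod p, ∑ y : K,
      if i ≠ 0 ∧ t * (xp x i * y) * t⁻¹ = g then (σ (y : G)⁻¹).trace else 0
    have hF : ∀ g s, F (s * g * s⁻¹) = F g := fun g s => by
      simp only [F]
      rw [← Equiv.sum_comp (Equiv.mulLeft s)]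
      refine Finset.sum_congr rfl fun t _ => Finset.sum_congr rfl fun i _ =>
        Finset.sum_congr rfl fun y _ => if_congr (and_congr_right fun _ => ?_) rfl rfl
      rw [Equiv.coe_mulLeft, show s * t * (xp x i * y) * (s * t)⁻¹ =
        s * (t * (xp x i * y) * t⁻¹) * s⁻¹ by group]
      simp
    have hF2 : ∀ φ : G → ℂ, IsClassFunction G φ → ∑ g, j (F g) * φ g =
        Nat.card G * (Nat.card K * ∑ k : ZMod p, gn x K θ φ k) := by
      intro φ hφ
      simp only [F, map_sum, Finset.sum_mul, apply_ite j, map_zero, hσi, ite_mul, zero_mul]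
      rw [Finset.sum_comm, ← sum_AW_sub, ← Fintype.card_eq_nat_card, ← nsmul_eq_mul,
        ← Finset.card_univ, ← Finset.sum_const]
      refine Finset.sum_congr rfl fun t _ => ?_
      rw [Finset.sum_comm, ← Finset.add_sum_erase _ _ (Finset.mem_univ (0 : ZMod p)),
        ← Finset.add_sum_erase _ _ (Finset.mem_univ (0 : ZMod p)), add_sub_cancel_left]
      simp only [ne_eq, not_true_eq_false, false_and, if_false, Finset.sum_const_zero, zero_add]
      refine Finset.sum_congr rfl fun i hi => ?_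
      rw [Finset.sum_comm, AW]
      refine Finset.sum_congr rfl fun y _ => ?_
      simp [Finset.ne_of_mem_erase hi, hφ _ t, mul_comm]
    have key : ∀ φ : G → ℂ, IsClassFunction G φ →
        ∑ g, j (d * F g - ((Nat.card G * Nat.card K * (∑ k, a k) * (if g = 1 then 1 else 0) : ℤ) :
            R)) * φ g =
        Nat.card G * Nat.card K * (d * ∑ k : ZMod p, gn x K θ φ k - (∑ k, a k : ℤ) * φ 1) := by
      intro φ hφ
      have e := hF2 φ hφ
      simp only [map_intCast, map_sub, map_mul, map_natCast]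
      push_cast
      simp only [sub_mul, Finset.sum_sub_distrib, mul_assoc, ← Finset.mul_sum, ite_mul, one_mul,
        zero_mul, Finset.sum_ite_eq', Finset.mem_univ, if_true]
      rw [e]; ring
    have h1 := hf (fun g => d * F g -
      ((Nat.card G * Nat.card K * (∑ k, a k) * (if g = 1 then 1 else 0) : ℤ) : R))
      (fun g t => by simp only [hF, conj_eq_one_iff]) (by
      rw [key χ hχ.isClassFunction]
      simp [ha, hd, mul_comm])
    have h2 := congrArg j h1
    rw [map_sum, map_zero] at h2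
    simp only [map_mul j _ (LinearMap.trace R L _)] at h2
    have h3 := (key ψ hψ.isClassFunction).symm.trans h2
    rw [mul_eq_zero, mul_eq_zero, or_iff_right (not_or.mpr ⟨hG, hK⟩), sub_eq_zero, hsum] at h3
    rw [hd, h3]
    simp [ha]

end PO

end Cfsg.Agent.H19
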