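import Cfsg.Agent.H19.Gen4

/-! Sylow subgroup of prime order: Brauer's structure theorem for every block of defect one -/

set_option autoImplicit false

namespace Cfsg.Agent.H19

open Cfsg Cfsg.Agent.H4 Cfsg.Agent.H6
open scoped ComplexConjugate

variable {G : Type*} [Group G] {p : ℕ} [hp : Fact p.Prime]
variable {x : G} {K : Subgroup G} [Fintype K] {θ : K → ℂ} [Fintype G]

namespace PO
variable (h : PO p x K)
include h

omit [Fintype K] [Fintype G] in
theorem card_EW_mul (θ : K → ℂ) :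
    Nat.card (h.EW θ) * Nat.card ((ZMod p)ˣ ⧸ h.EW θ) = p - 1 := by
  rw [mul_comm, ← Subgroup.card_eq_card_quotient_mul_card_subgroup, Nat.card_eq_fintype_card,
    ZMod.card_units]

theorem abs_le_one_of_constW (hθ : IsIrrCharacter K θ) {χ : G → ℂ} (hχ : IsIrrCharacter G χ) {a : ℤ}
    (ha : ∀ k : (ZMod p)ˣ, gn x K θ χ (k : ZMod p) = a) : a = 0 ∨ a = 1 ∨ a = -1 := by
  obtain ⟨ψ, τ, hψ, hin, hτ, -, e⟩ := h.exists_lattice_charW hθ hχ
  obtain ⟨d, hd0, hd⟩ := hχ.exists_degree
  obtain ⟨D, hD⟩ := hψ.exists_degree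
  have hle := hψ.degree_le_of_constituent hχ hin hD hd
  have hp1 : (p : ℂ) - 1 ≠ 0 := by
    rw [sub_ne_zero]; exact_mod_cast hp.out.ne_one
  rw [sum_gn_eq_units, Finset.sum_congr rfl fun k _ => ha k, Finset.sum_const, Finset.card_univ,
    ZMod.card_units, nsmul_eq_mul, Nat.cast_sub hp.out.one_le, Nat.cast_one, hd, hD] at e
  have e2 : (a : ℂ) * D = d * τ := mul_left_cancel₀ hp1 (by linear_combination e)
  have e3 : a * D = d * τ := by exact_mod_cast e2
  have hd0' : (0 : ℤ) < d := by exact_mod_cast hd0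
  have hle' : (d : ℤ) ≤ D := by exact_mod_cast hle
  rcases hτ with rfl | rfl | rfl
  · left; nlinarith
  · have : a ≤ 1 := by nlinarith
    have : 0 ≤ a := by nlinarith
    omega
  · have : -1 ≤ a := by nlinarith
    have : a ≤ 0 := by nlinarith
    omega

open Classical in
theorem exists_exceptionalW (hθ : IsIrrCharacter K θ) : ∃ (ε : ℤ) (μ : (ZMod p)ˣ ⧸ h.EW θ → IrrCharacter G),
    (ε = 1 ∨ ε = -1) ∧ Function.Injective μ ∧
    (∀ q (k : (ZMod p)ˣ), gn x K θ (μ q) (k : ZMod p) = if (k : _ ⧸ h.EW θ) = q then -(ε : ℂ) else 0) ∧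
    ∀ χ : IrrCharacter G, (∀ q, μ q ≠ χ) → ∀ k l : (ZMod p)ˣ,
      gn x K θ χ (k : ZMod p) = gn x K θ χ (l : ZMod p) := by
  set E := h.EW θ
  choose n hn using fun (χ : IrrCharacter G) (k : (ZMod p)ˣ) =>
    h.exists_gn_int χ.2.isCharacter hθ.isCharacter (k : ZMod p)
  have hinv : ∀ χ (k l : (ZMod p)ˣ), (k : _ ⧸ E) = l → n χ k = n χ l := by
    intro χ k l e
    have := h.gn_conj χ.2.isClassFunction (QuotientGroup.eq.mp e) (k : ZMod p)
    rw [← Units.val_mul, mul_comm, mul_inv_cancel_left, hn, hn] at this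
    exact_mod_cast this.symm
  have hgram : ∀ k l : (ZMod p)ˣ, ∑ χ, n χ k * n χ l =
      Nat.card E + if (k : _ ⧸ E) = l then 1 else 0 := by
    intro k l
    have := h.gramW hθ k l
    simp only [hn, map_intCast, ← QuotientGroup.eq] at this
    exact_mod_cast this
  have hE : 0 < Nat.card E := Nat.card_pos
  rcases subsingleton_or_nontrivial ((ZMod p)ˣ ⧸ E) with hs | hs
  · have hc : ∀ χ k l, n χ k = n χ l := fun χ k l => hinv χ k l (Subsingleton.elim _ _)
    obtain ⟨ξ, hξ⟩ : ∃ ξ, n ξ 1 ≠ 0 := by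
      by_contra hcon
      push Not at hcon
      have := hgram 1 1
      rw [Finset.sum_eq_zero (fun b _ => by rw [hcon b, zero_mul]), if_pos rfl] at this
      omega
    have := h.abs_le_one_of_constW hθ ξ.2 (a := n ξ 1) fun k => by rw [hn, hc ξ k 1]
    refine ⟨-n ξ 1, fun _ => ξ, by omega, fun a b _ => Subsingleton.elim _ _,
      fun q k => ?_, fun χ _ k l => by rw [hn, hn, hc χ k l]⟩
    rw [if_pos (Subsingleton.elim _ _), hn, hc ξ k 1]
    simp
  · let q₀ : (ZMod p)ˣ ⧸ E := ((1 : (ZMod p)ˣ) : _ ⧸ E)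
    let v : (ZMod p)ˣ ⧸ E → IrrCharacter G → ℤ := fun q χ => n χ q.out
    have hv : ∀ χ (k : (ZMod p)ˣ), n χ k = v k χ := fun χ k => hinv χ _ _ (by simp)
    have hgv : ∀ q r, ∑ χ, v q χ * v r χ = Nat.card E + if q = r then 1 else 0 := by
      intro q r
      have := hgram q.out r.out
      simpa only [QuotientGroup.out_eq'] using this
    let τ : (ZMod p)ˣ ⧸ E → G → ℂ := fun q =>
      ∑ χ : IrrCharacter G, ((v q₀ χ - v q χ : ℤ) : ℂ) • (χ : G → ℂ)
    have hτin : ∀ q r, classInner (τ q) (τ r) =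
        ((∑ χ, (v q₀ χ - v q χ) * (v q₀ χ - v r χ) : ℤ) : ℂ) := by
      intro q r
      rw [classInner_sum_irr]
      simp
    have hτin' : ∀ q r, ∑ χ, (v q₀ χ - v q χ) * (v q₀ χ - v r χ) =
        1 - (if q₀ = r then 1 else 0) - (if q = q₀ then 1 else 0) + if q = r then 1 else 0 := by
      intro q r
      simp only [sub_mul, mul_sub, Finset.sum_sub_distrib, hgv, if_true]
      ring
    have hτ1 : ∀ q, τ q 1 = 0 := by
      intro q
      have e1 := h.sum_gn_mul_of_regular (θ := θ) (q₀.out : (ZMod p)ˣ) (g := 1) (by simp [hp.out.ne_one])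
      have e2 := h.sum_gn_mul_of_regular (θ := θ) (q.out : (ZMod p)ˣ) (g := 1) (by simp [hp.out.ne_one])
      simp only [hn] at e1 e2
      simp only [τ, Finset.sum_apply, Pi.smul_apply, smul_eq_mul, Int.cast_sub, sub_mul,
        Finset.sum_sub_distrib, v, e1, e2, sub_self]
    obtain ⟨ε', hε', μ', hirr, hinj, hτ⟩ := H5.exists_sign_of_gram q₀ τ (by simp [τ])
      (fun q => isGen_iff_exists_int.mpr ⟨_, rfl⟩) hτ1
      (fun q hq => by rw [hτin, hτin']; simp [hq, hq.symm])
      (fun q r hq hr hqr => by rw [hτin, hτin']; simp [hq, hr.symm, hqr])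
    obtain ⟨ε, hε, rfl⟩ : ∃ ε : ℤ, (ε = 1 ∨ ε = -1) ∧ ε' = ε := by
      rcases hε' with rfl | rfl
      · exact ⟨1, Or.inl rfl, by simp⟩
      · exact ⟨-1, Or.inr rfl, by simp⟩
    have hε2 : ε * ε = 1 := by rcases hε with rfl | rfl <;> simp
    let μ : (ZMod p)ˣ ⧸ E → IrrCharacter G := fun q => ⟨μ' q, hirr q⟩
    have hμ : Function.Injective μ := fun a b e => hinj (congrArg Subtype.val e)
    have hdiff0 : ∀ q χ, v q₀ χ - v q χ =
        ε * ((if μ q = χ then 1 else 0) - if μ q₀ = χ then 1 else 0) := by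
      intro q χ
      have e1 := classInner_sum_irr_left (fun χ => ((v q₀ χ - v q χ : ℤ) : ℂ)) χ
      have e2 : classInner (τ q) χ = classInner ((ε : ℂ) • (μ' q - μ' q₀)) χ := by rw [hτ q]
      rw [classInner_smul_left, classInner_sub_left] at e2
      have e3 := irr_classInner (μ q) χ
      have e4 := irr_classInner (μ q₀) χ
      have e5 := e1.symm.trans e2
      rw [show μ' q = (μ q : G → ℂ) from rfl, show μ' q₀ = (μ q₀ : G → ℂ) from rfl, e3, e4] at e5
      exact_mod_cast e5
    have hdiff : ∀ q r χ, v r χ - v q χ =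
        ε * ((if μ q = χ then 1 else 0) - if μ r = χ then 1 else 0) := fun q r χ => by
      linear_combination hdiff0 q χ - hdiff0 r χ
    have hsumd : ∀ (q r) (w : IrrCharacter G → ℤ), ∑ χ, w χ * (v r χ - v q χ) =
        ε * (w (μ q) - w (μ r)) := by
      intro q r w
      simp only [hdiff, mul_sub, Finset.sum_sub_distrib, mul_ite, mul_zero, mul_one,
        Finset.sum_ite_eq, Finset.mem_univ, if_true]
      ring
    obtain ⟨c, hc⟩ : ∃ c, ∀ q r, v q (μ r) = c - ε * if q = r then 1 else 0 := by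
      refine ⟨v q₀ (μ q₀) + ε, fun q r => ?_⟩
      have e1 := hsumd r q₀ (v q)
      simp only [mul_sub, Finset.sum_sub_distrib, hgv] at e1
      have e2 := hdiff q q₀ (μ q₀)
      simp only [hμ.eq_iff, if_true] at e2
      linear_combination (-ε) * e1 - e2 + (v q (μ q₀) - v q (μ r)) * hε2
    have hout : ∀ χ : IrrCharacter G, (∀ q, μ q ≠ χ) → ∀ k l : (ZMod p)ˣ,
        gn x K θ χ (k : ZMod p) = gn x K θ χ (l : ZMod p) := by
      intro χ hχ k l
      have := hdiff k l χ
      rw [if_neg (hχ _), if_neg (hχ _), sub_self, mul_zero, sub_eq_zero] at this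
      rw [hn, hn, hv, hv, this]
    set t := Nat.card ((ZMod p)ˣ ⧸ E) with ht
    have ht2 : 2 ≤ t := Finite.one_lt_card
    have hcases : c = 0 ∨ (t = 2 ∧ c = ε) := by
      obtain ⟨ψ, τ', hψ, hin, hτ', hψc, e⟩ := h.exists_lattice_charW hθ (μ q₀).2
      obtain ⟨a, rfl⟩ := isCharacter_iff_exists_nat.mp hψ
      rw [classInner_sum_irr_left] at hin
      have ha : ∀ q, a (μ q) = a (μ q₀) := by
        intro q
        have e1 := hsumd q q₀ (fun χ => a χ)
        have e2 : ∀ r : (ZMod p)ˣ ⧸ E, ∑ χ, (a χ : ℤ) * v r χ = τ' := by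
          intro r
          have := hψc _ r.out.ne_zero
          rw [gn_sum] at this
          simp only [hn] at this
          exact_mod_cast this
        simp only [mul_sub, Finset.sum_sub_distrib, e2, sub_self] at e1
        have e3 : (a (μ q) : ℤ) = a (μ q₀) := by
          linear_combination (-ε) * e1 - ((a (μ q) : ℤ) - a (μ q₀)) * hε2
        exact_mod_cast e3
      choose d hd0 hd using fun χ : IrrCharacter G => χ.2.exists_degree
      have hdq : ∀ q, d (μ q) = d (μ q₀) := by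
        intro q
        have e1 := hτ1 q
        rw [hτ q, Pi.smul_apply, Pi.sub_apply, smul_eq_mul, mul_eq_zero, sub_eq_zero] at e1
        rcases e1 with e1 | e1
        · rcases hε with rfl | rfl <;> simp at e1
        · have e2 : (d (μ q) : ℂ) = d (μ q₀) := by rw [← hd, ← hd]; exact e1
          exact_mod_cast e2
      have hD : t * d (μ q₀) ≤ ∑ χ, a χ * d χ := by
        have ha0 : 1 ≤ a (μ q₀) := Nat.one_le_iff_ne_zero.mpr (by exact_mod_cast hin)
        calc t * d (μ q₀) = ∑ q : (ZMod p)ˣ ⧸ E, d (μ q₀) := by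
              simp [ht, Nat.card_eq_fintype_card]
          _ ≤ ∑ q : (ZMod p)ˣ ⧸ E, a (μ q) * d (μ q) := Finset.sum_le_sum fun q _ => by
              rw [ha q, hdq q]; exact Nat.le_mul_of_pos_left _ ha0
          _ = ∑ χ ∈ Finset.univ.image μ, a χ * d χ :=
              (Finset.sum_image (f := fun χ => a χ * d χ) fun a _ b _ e => hμ e).symm
          _ ≤ _ := Finset.sum_le_sum_of_subset (Finset.subset_univ _)
      have het : (p : ℤ) - 1 = Nat.card E * t := by
        have := h.card_EW_mul θ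
        have h1 := hp.out.one_le
        zify [h1] at this
        exact this.symm
      have e1 : ∑ k : (ZMod p)ˣ, v k (μ q₀) = Nat.card E * (t * c - ε) := by
        simp only [hc, Finset.sum_sub_distrib, mul_ite, mul_one, mul_zero]
        rw [sum_ite_coe_eq, Finset.sum_const, Finset.card_univ, ZMod.card_units, nsmul_eq_mul,
          Nat.cast_sub hp.out.one_le, Nat.cast_one, het]
        ring
      have e2 : (∑ k : (ZMod p)ˣ, v k (μ q₀)) * (∑ χ, a χ * d χ : ℕ) =
          d (μ q₀) * ((p - 1) * τ') := by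
        rw [sum_gn_eq_units] at e
        simp only [hn, hv, Finset.sum_apply, Pi.smul_apply, smul_eq_mul, hd] at e
        exact_mod_cast e
      rw [e1, het] at e2
      set D := ∑ χ, a χ * d χ
      have hE' : (0 : ℤ) < Nat.card E := by exact_mod_cast hE
      have e3 : (t * c - ε) * D = d (μ q₀) * t * τ' :=
        mul_left_cancel₀ hE'.ne' (by linear_combination e2)
      have hD' : (t : ℤ) * d (μ q₀) ≤ D := by exact_mod_cast hD
      have hd' : (0 : ℤ) < d (μ q₀) := by exact_mod_cast hd0 _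
      have ht' : (2 : ℤ) ≤ t := by exact_mod_cast ht2
      have hpos : (0 : ℤ) < t * d (μ q₀) := by positivity
      have e4 : -1 ≤ t * c - ε ∧ t * c - ε ≤ 1 := by
        rcases hτ' with rfl | rfl | rfl <;> constructor <;> nlinarith
      by_cases hc0 : c = 0
      · exact Or.inl hc0
      · right
        rcases hε with rfl | rfl
        · have : c = 1 := by
            have : c ≤ 1 := by nlinarith
            have : 0 ≤ c := by nlinarith
            omega
          subst this
          constructor <;> omega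
        · have : c = -1 := by
            have : -1 ≤ c := by nlinarith
            have : c ≤ 0 := by nlinarith
            omega
          subst this
          constructor <;> omega
    have fin : ∀ (ε₁ : ℤ) (σ : Equiv.Perm ((ZMod p)ˣ ⧸ E)), (ε₁ = 1 ∨ ε₁ = -1) →
        (∀ q r, v q (μ (σ r)) = if q = r then -ε₁ else 0) →
        ∃ (ε : ℤ) (μ : (ZMod p)ˣ ⧸ E → IrrCharacter G),
          (ε = 1 ∨ ε = -1) ∧ Function.Injective μ ∧
          (∀ q (k : (ZMod p)ˣ), gn x K θ (μ q) (k : ZMod p) =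
            if (k : _ ⧸ E) = q then -(ε : ℂ) else 0) ∧
          ∀ χ : IrrCharacter G, (∀ q, μ q ≠ χ) → ∀ k l : (ZMod p)ˣ,
            gn x K θ χ (k : ZMod p) = gn x K θ χ (l : ZMod p) := by
      intro ε₁ σ h1 h2
      refine ⟨ε₁, μ ∘ σ, h1, hμ.comp σ.injective, fun q k => ?_,
        fun χ hχ => hout χ fun q => by simpa using hχ (σ.symm q)⟩
      rw [Function.comp_apply, hn, hv, h2]
      split_ifs <;> simp
    rcases hcases with rfl | ⟨ht2, rfl⟩
    · exact fin ε 1 hε fun q r => by rw [Equiv.Perm.one_apply, hc]; split_ifs <;> simp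
    · obtain ⟨a, b, hab, huniv⟩ := Nat.card_eq_two_iff.mp ht2
      have hall : ∀ q, q = a ∨ q = b := fun q => by
        have : q ∈ ({a, b} : Set _) := huniv ▸ Set.mem_univ q
        simpa using this
      refine fin (-c) (Equiv.swap a b) (by omega) fun q r => ?_
      rw [hc]
      rcases hall q with rfl | rfl <;> rcases hall r with rfl | rfl <;> simp [hab, hab.symm]

open Classical in
/-- Brauer's theorem on characters of a group with a Sylow subgroup of prime order -/
theorem brauer_dataW (hθ : IsIrrCharacter K θ) : ∃ (ε : ℤ) (μ : (ZMod p)ˣ ⧸ h.EW θ → IrrCharacter G)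
    (X : Finset (IrrCharacter G)) (a : IrrCharacter G → ℤ),
    (ε = 1 ∨ ε = -1) ∧ Function.Injective μ ∧ (∀ q, μ q ∉ X) ∧ X.card = Nat.card (h.EW θ) ∧
    (∀ χ ∈ X, (a χ = 1 ∨ a χ = -1) ∧ ∀ k : (ZMod p)ˣ, gn x K θ χ (k : ZMod p) = a χ) ∧
    (∀ q (k : (ZMod p)ˣ), gn x K θ (μ q) (k : ZMod p) = if (k : _ ⧸ h.EW θ) = q then -(ε : ℂ) else 0) ∧
    ∀ χ : IrrCharacter G, χ ∉ X → (∀ q, μ q ≠ χ) → ∀ k : (ZMod p)ˣ, gn x K θ χ (k : ZMod p) = 0 := by
  obtain ⟨ε, μ, hε, hμ, h2, h3⟩ := h.exists_exceptionalW hθ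
  choose a ha using fun χ : IrrCharacter G =>
    h.exists_gn_int χ.2.isCharacter hθ.isCharacter ((1 : (ZMod p)ˣ) : ZMod p)
  let X := Finset.univ.filter fun χ : IrrCharacter G => (∀ q, μ q ≠ χ) ∧ a χ ≠ 0
  have hX : ∀ χ, χ ∈ X ↔ (∀ q, μ q ≠ χ) ∧ a χ ≠ 0 := fun χ => by simp [X]
  have hXa : ∀ χ ∈ X, (a χ = 1 ∨ a χ = -1) ∧ ∀ k : (ZMod p)ˣ, gn x K θ χ (k : ZMod p) = a χ := by
    intro χ hχ
    obtain ⟨e1, e2⟩ := (hX χ).mp hχ
    have e3 : ∀ k : (ZMod p)ˣ, gn x K θ χ (k : ZMod p) = a χ := fun k => by rw [h3 χ e1 k 1, ha]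
    exact ⟨(h.abs_le_one_of_constW hθ χ.2 e3).resolve_left e2, e3⟩
  refine ⟨ε, μ, X, a, hε, hμ, fun q hq => ((hX _).mp hq).1 q rfl, ?_,
    hXa, h2, fun χ hχ hq k => ?_⟩
  · have e := h.gramW hθ 1 1
    simp only [ha, map_intCast, inv_one, mul_one, one_mem, if_true] at e
    have e' : ∑ χ, a χ * a χ = Nat.card (h.EW θ) + 1 := by exact_mod_cast e
    let q₀ : (ZMod p)ˣ ⧸ h.EW θ := ((1 : (ZMod p)ˣ) : _ ⧸ h.EW θ)
    have e2 : ∀ χ, a χ * a χ = (if χ ∈ X then 1 else 0) + if μ q₀ = χ then 1 else 0 := by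
      intro χ
      by_cases hq : ∃ q, μ q = χ
      · obtain ⟨q, rfl⟩ := hq
        have e3 := h2 q 1
        rw [ha] at e3
        rw [if_neg fun hh => ((hX _).mp hh).1 q rfl, zero_add]
        simp only [hμ.eq_iff]
        split_ifs at e3 ⊢ with hh
        · have : a (μ q) = -ε := by exact_mod_cast e3
          rw [this]; rcases hε with rfl | rfl <;> simp
        · have : a (μ q) = 0 := by exact_mod_cast e3
          rw [this, zero_mul]
      · push Not at hq
        rw [if_neg (hq _), add_zero]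
        split_ifs with hh
        · rcases (hXa χ hh).1 with e | e <;> simp [e]
        · have : a χ = 0 := by
            by_contra h0
            exact hh ((hX χ).mpr ⟨hq, h0⟩)
          rw [this, zero_mul]
    simp only [e2, Finset.sum_add_distrib, Finset.sum_ite_eq, Finset.mem_univ, if_true,
      Finset.sum_ite_mem, Finset.univ_inter, Finset.sum_const, nsmul_eq_mul, mul_one] at e'
    exact_mod_cast add_right_cancel e'
  · rw [h3 χ hq k 1, ha]
    by_contra h0
    exact hχ ((hX χ).mpr ⟨hq, fun e => h0 (by rw [e]; simp)⟩)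

end PO

end Cfsg.Agent.H19
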