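import Cfsg.Agent.H19.Gen5
import Cfsg.Agent.H19.BD5
import Cfsg.Agent.H6.Second

/-! Sylow subgroup of prime order: identification of the blocks of defect one -/

set_option autoImplicit false

namespace Cfsg.Agent.H19

open Cfsg Cfsg.Agent.H4 Cfsg.Agent.H6
open scoped ComplexConjugate

variable {G : Type*} [Group G] {p : ℕ} [hp : Fact p.Prime]
variable {x : G} {K : Subgroup G} [Fintype K] {θ θ' : K → ℂ} [Fintype G]

/-- centralizer -/
abbrev CC (x : G) : Subgroup G := Subgroup.centralizer ({x} : Set G)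

namespace PO
variable (h : PO p x K)
include h

omit hp [Fintype K] [Fintype G] in
theorem mul_mem_CC (i : ZMod p) {y : G} (hy : y ∈ K) : xp x i * y ∈ CC x :=
  mem_centralizer_singleton.mpr (((Commute.refl x).pow_right _).mul_right (h.commute hy))

omit hp [Fintype K] [Fintype G] in
theorem K_le_CC : K ≤ CC x := fun _ hy => mem_centralizer_singleton.mpr (h.commute hy)

/-- the centralizer as a product -/
noncomputable def eC : ZMod p × K ≃ CC x := Equiv.ofBijective
  (fun a => ⟨xp x a.1 * a.2, h.mul_mem_CC a.1 a.2.2⟩) ⟨fun a b e => by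
    obtain ⟨h1, h2⟩ := h.eq_of_mul_eq a.2.2 b.2.2 (congrArg Subtype.val e)
    exact Prod.ext h1 (Subtype.ext h2), fun c => by
    obtain ⟨i, y, hy, e⟩ := h.exists_eq_mul (mem_centralizer_singleton.mp c.2)
    exact ⟨(i, ⟨y, hy⟩), Subtype.ext e.symm⟩⟩

omit [Fintype K] in
theorem coe_eC (a : ZMod p × K) : (h.eC a : G) = xp x a.1 * a.2 := rfl

/-- projection of the centralizer onto `K` -/
noncomputable def piK : CC x →* K := MonoidHom.mk' (fun c => (h.eC.symm c).2) fun a b => by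
  obtain ⟨a, rfl⟩ := h.eC.surjective a
  obtain ⟨b, rfl⟩ := h.eC.surjective b
  have : h.eC a * h.eC b = h.eC (a.1 + b.1, a.2 * b.2) := Subtype.ext (by
    simp only [Subgroup.coe_mul, coe_eC, xp_add h.ord]
    rw [mul_assoc, mul_assoc, ← mul_assoc (xp x b.1), (h.commute_xp _ a.2.2).eq, mul_assoc])
  simp [this]

omit [Fintype K] in
theorem piK_eC (a : ZMod p × K) : h.piK (h.eC a) = a.2 := by simp [piK]

omit [Fintype K] in
theorem piK_mk (i : ZMod p) (y : K) : h.piK ⟨xp x i * y, h.mul_mem_CC i y.2⟩ = y :=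
  h.piK_eC (i, y)

omit [Fintype K] in
theorem piK_coe (y : K) : h.piK ⟨y, h.K_le_CC y.2⟩ = y := by
  conv_rhs => rw [← h.piK_mk 0 y]
  congr 1; simp

omit [Fintype K] in
theorem piK_surj : Function.Surjective h.piK := fun y => ⟨_, h.piK_coe y⟩

/-- inflation to the centralizer -/
noncomputable def hat (hθ : IsIrrCharacter K θ) : IrrCharacter (CC x) :=
  ⟨fun c => θ (h.piK c), hθ.comp_of_surjective _ h.piK_surj⟩

omit [Fintype K] in
theorem hat_apply (hθ : IsIrrCharacter K θ) (c : CC x) : (h.hat hθ : CC x → ℂ) c = θ (h.piK c) := rfl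

open Classical in
/-- class function attached to `θ` on the section of `x` -/
noncomputable def zf (_h : PO p x K) (θ : K → ℂ) (g : G) : ℂ :=
  (Nat.card (CC x) : ℂ)⁻¹ * ∑ t : G, ∑ y : K, if t * (x * y) * t⁻¹ = g then conj (θ y) else 0

theorem zf_conj (g s : G) : h.zf θ (s * g * s⁻¹) = h.zf θ g := by
  classical
  simp only [zf]
  rw [← Equiv.sum_comp (Equiv.mulLeft s)]
  refine congrArg _ (Finset.sum_congr rfl fun t _ =>
    Finset.sum_congr rfl fun y _ => if_congr ?_ rfl rfl)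
  rw [Equiv.coe_mulLeft, show s * t * (x * y) * (s * t)⁻¹ = s * (t * (x * y) * t⁻¹) * s⁻¹ by group]
  simp

theorem zf_apply (hθ : IsClassFunction K θ) (y : K) : h.zf θ (x * y) = conj (θ y) := by
  classical
  have hC : (Nat.card (CC x) : ℂ) ≠ 0 := natCard_ne_zero'
  rw [zf, inv_mul_eq_iff_eq_mul₀ hC, natCard_subtype_eq_sum, Finset.sum_mul]
  refine Finset.sum_congr rfl fun t _ => ?_
  have key : ∀ z : K, t * (x * z) * t⁻¹ = x * y → t * x * t⁻¹ = x ∧ t * z * t⁻¹ = y := by
    intro z e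
    have := h.conj_eq (g := t) (i := 1) (j := 1) z.2 y.2 (by rwa [xp_one h.ord])
    rwa [xp_one h.ord] at this
  split_ifs with ht
  · have hc : Commute x t := mem_centralizer_singleton.mp ht
    have hT := inv_mem (h.mem_TT_of_commute hθ hc)
    rw [Finset.sum_eq_single (h.cK ⟨t⁻¹, h.TT_le θ hT⟩ y), if_pos,
      (h.mem_TT (n := ⟨t⁻¹, h.TT_le θ hT⟩)).mp hT, one_mul]
    · rw [coe_cK, ← mul_assoc t, ← hc.eq]; group
    · intro z _ hz
      refine if_neg fun e => hz (Subtype.ext ?_)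
      rw [coe_cK, ← (key z e).2]; group
    · simp
  · rw [zero_mul]
    refine Finset.sum_eq_zero fun z _ => if_neg fun e => ht (mem_centralizer_singleton.mpr ?_)
    exact (mul_inv_eq_iff_eq_mul.mp (key z e).1).symm

theorem zf_mem {M : Ideal AlgInt} [M.IsMaximal] (hθ : IsCharacter K θ) (g : G) :
    h.zf θ g ∈ locRing M := by
  by_cases hg : ∃ (t : G) (y : K), t * (x * y) * t⁻¹ = g
  · obtain ⟨t, y, rfl⟩ := hg
    rw [zf_conj, h.zf_apply hθ.isClassFunction]
    exact conj_char_mem hθ y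
  · push Not at hg
    simp [zf, hg]

theorem chiL_zf {χ : G → ℂ} (hχ : IsClassFunction G χ) : chiL χ (ofFun (h.zf θ)) =
    (Nat.card (CC x) : ℂ)⁻¹ * (Nat.card G * AW x K θ χ (1 : ZMod p)) := by
  classical
  rw [chiL_ofFun]
  simp only [zf, mul_assoc, ← Finset.mul_sum, Finset.sum_mul, ite_mul, zero_mul]
  congr 1
  rw [Finset.sum_comm, ← Fintype.card_eq_nat_card, ← nsmul_eq_mul, ← Finset.card_univ,
    ← Finset.sum_const]
  refine Finset.sum_congr rfl fun t _ => ?_
  rw [Finset.sum_comm, AW, xp_one h.ord]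
  refine Finset.sum_congr rfl fun y _ => ?_
  rw [Finset.sum_ite_eq, if_pos (Finset.mem_univ _), mul_comm, ← mul_assoc x, ← mul_assoc t, hχ]

open Classical in
theorem chiL_trunc_zf [Fintype (NN x)] (hθ : IsIrrCharacter K θ) (hθ' : IsIrrCharacter K θ') :
    chiL (h.hat hθ : CC x → ℂ) (trunc ℂ (CC x) (ofFun (h.zf θ'))) =
      (Nat.card (CC x) : ℂ)⁻¹ * (Nat.card K *
        ∑ n : NN x, if (fun y => θ (h.cK n y)) = θ' then 1 else 0) := by
  have hK : (Nat.card K : ℂ) ≠ 0 := natCard_ne_zero'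
  rw [chiL_apply]
  simp only [coeff_trunc, coeff_ofFun, zf, mul_assoc, ← Finset.mul_sum, Finset.sum_mul, ite_mul,
    zero_mul]
  congr 1
  rw [Finset.sum_comm, Finset.mul_sum, ← Finset.sum_subset (Finset.subset_univ
    (Finset.univ.map (Function.Embedding.subtype (· ∈ NN x)))), Finset.sum_map]
  · refine Finset.sum_congr rfl fun n _ => ?_
    have e := (h.irr_cK hθ n).classInner_eq_ite hθ'
    rw [classInner_def, inv_mul_eq_iff_eq_mul₀ hK] at e
    rw [← e, Finset.sum_comm]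
    refine Finset.sum_congr rfl fun y _ => ?_
    have e2 : (n : G) * (x * (y * (n : G)⁻¹)) = xp x (actN h.ord n : ZMod p) * h.cK n y := by
      rw [← actN_spec, coe_cK]; group
    rw [Finset.sum_eq_single ⟨_, h.mul_mem_CC (actN h.ord n : ZMod p) (h.cK n y).2⟩]
    · exact (if_pos e2).trans (by rw [hat_apply, piK_mk, mul_comm])
    · exact fun c _ hc => if_neg fun e => hc (Subtype.ext (e.symm.trans e2))
    · simp
  · intro t _ ht
    refine Finset.sum_eq_zero fun c _ => Finset.sum_eq_zero fun y _ => if_neg fun e => ht ?_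
    obtain ⟨a, rfl⟩ := h.eC.surjective c
    have := (h.conj_eq (g := t) (i := 1) (j := a.1) y.2 a.2.2 (by
      rw [xp_one h.ord, ← h.coe_eC, ← e]; group)).1
    exact Finset.mem_map.mpr ⟨⟨t, mem_normalizer_of_conj_xp h.ord one_ne_zero this⟩,
      Finset.mem_univ _, rfl⟩

omit [Fintype K] [Fintype G] in
theorem card_EW [Finite G] (hθ : IsClassFunction K θ) :
    Nat.card (h.EW θ) = (CC x).relIndex (h.TT θ) := by
  let φ : h.TT θ →* (ZMod p)ˣ := (actN h.ord).comp (Subgroup.inclusion (h.TT_le θ))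
  have h1 : φ.range = h.EW θ := by
    ext c
    exact ⟨fun ⟨t, ht⟩ => ⟨t, t.2, ht ▸ actN_spec h.ord ⟨t, h.TT_le θ t.2⟩⟩,
      fun ⟨g, hg, e⟩ => ⟨⟨g, hg⟩, actN_eq h.ord _ e⟩⟩
  have h2 : φ.ker = (CC x).subgroupOf (h.TT θ) := by
    ext t
    rw [MonoidHom.mem_ker, Subgroup.mem_subgroupOf, mem_centralizer_singleton]
    exact actN_eq_one_iff h.ord _
  rw [Subgroup.relIndex, ← h2, Subgroup.index_ker, h1]

omit [Fintype K] [Fintype G] in
theorem CC_le_TT [Finite G] (hθ : IsClassFunction K θ) : CC x ≤ h.TT θ := fun _ hc =>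
  h.mem_TT_of_commute hθ (mem_centralizer_singleton.mp hc)

omit [Fintype K] [Fintype G] in
theorem card_TT [Finite G] (hθ : IsClassFunction K θ) :
    Nat.card (h.TT θ) = Nat.card (CC x) * Nat.card (h.EW θ) := by
  rw [h.card_EW hθ, ← Subgroup.relIndex_bot_left, ← Subgroup.relIndex_bot_left,
    Subgroup.relIndex_mul_relIndex _ _ _ bot_le (h.CC_le_TT hθ)]

omit [Fintype K] [Fintype G] in
theorem not_dvd_EW (θ : K → ℂ) : ¬ p ∣ Nat.card (h.EW θ) := fun hd => by
  have h1 := h.card_EW_mul θ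
  have h2 := hp.out.two_le
  have := Nat.le_of_dvd (by omega) (h1 ▸ hd.mul_right _)
  omega

open Classical in
theorem sum_ite_cK [Fintype (NN x)] (m : NN x) :
    ∑ n : NN x, (if (fun y => θ (h.cK n y)) = fun y => θ (h.cK m y) then (1 : ℂ) else 0) =
      Nat.card (h.TT θ) := by
  rw [← Nat.card_congr (Subgroup.subgroupOfEquivOfLe (h.TT_le θ)).toEquiv, natCard_subtype_eq_sum,
    ← Equiv.sum_comp (Equiv.mulRight m)]
  refine Finset.sum_congr rfl fun n _ => if_congr ?_ rfl rfl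
  rw [Subgroup.mem_subgroupOf, h.mem_TT]
  simp only [Equiv.coe_mulRight, cK_mul]
  exact ⟨fun e y => by simpa using congrFun e ((h.cK m).symm y), fun e => funext fun y => e _⟩

variable {M : Ideal AlgInt} [hMm : M.IsMaximal]

theorem redC_hat_ne_zero (hM : IsPModular p M) (hθ : IsIrrCharacter K θ) :
    redC M (omega (h.hat hθ : CC x → ℂ) (trunc ℂ (CC x) (ofFun (h.zf θ)))) ≠ 0 := by
  classical
  have hC : (Nat.card (CC x) : ℂ) ≠ 0 := natCard_ne_zero'
  have e := h.sum_ite_cK (θ := θ) 1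
  simp only [cK_one] at e
  obtain ⟨d, hd0, hd⟩ := hθ.exists_degree
  obtain ⟨c, hc⟩ := hθ.degree_dvd_card hd
  have hd' : (d : ℂ) ≠ 0 := by exact_mod_cast hd0.ne'
  rw [omega_apply, h.chiL_trunc_zf hθ hθ, e, h.card_TT hθ.isClassFunction, hat_apply, map_one, hd,
    hc, show (Nat.card (CC x) : ℂ)⁻¹ * ((d * c : ℕ) * (Nat.card (CC x) * Nat.card (h.EW θ) : ℕ)) / d
      = (c * Nat.card (h.EW θ) : ℕ) by push_cast; field_simp, redC_natCast, Ne,
    natCast_res_eq_zero_iff hM, hp.out.dvd_mul]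
  exact not_or.mpr ⟨fun e => h.not_dvd_card (hc ▸ e.mul_left d), h.not_dvd_EW θ⟩

theorem redC_omega_zf {b : Set (IrrCharacter (CC x))} {B : Set (IrrCharacter G)}
    (hind : IsInducedBlock M (CC x) b B) {ξ : IrrCharacter (CC x)} (hξ : ξ ∈ b)
    {χ : IrrCharacter G} (hχ : χ ∈ B) (hθ' : IsCharacter K θ') :
    redC M (omega (ξ : CC x → ℂ) (trunc ℂ (CC x) (ofFun (h.zf θ')))) =
      redC M (omega (χ : G → ℂ) (ofFun (h.zf θ'))) :=
  redC_omega_trunc_of_induced hind hξ hχ (ofFun_mem_center fun g s => h.zf_conj g s)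
    (ofFun_mem_intAlg (h.zf_mem hθ'))

theorem AW_ne_zero_of_mem (hM : IsPModular p M) (hθ : IsIrrCharacter K θ)
    {b : Set (IrrCharacter (CC x))} {B : Set (IrrCharacter G)}
    (hind : IsInducedBlock M (CC x) b B) (hb : h.hat hθ ∈ b) {χ : IrrCharacter G} (hχ : χ ∈ B) :
    AW x K θ χ (1 : ZMod p) ≠ 0 := fun e => h.redC_hat_ne_zero hM hθ (by
  rw [h.redC_omega_zf hind hb hχ hθ.isCharacter, omega_apply, h.chiL_zf χ.2.isClassFunction, e]
  simp)

theorem mem_of_AW_ne_zero (hM : IsPModular p M) (hθ : IsIrrCharacter K θ)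
    {b : Set (IrrCharacter (CC x))} {B : Set (IrrCharacter G)}
    (hind : IsInducedBlock M (CC x) b B) (hb : h.hat hθ ∈ b) {χ : IrrCharacter G}
    (hχ : AW x K θ χ (1 : ZMod p) ≠ 0) : χ ∈ B := by
  classical
  by_contra hn
  apply hχ
  have hK : (Nat.card K : ℂ) ≠ 0 := natCard_ne_zero'
  let f : CC x → ℂ := fun c => (χ : G → ℂ) (x * c)
  have hf : IsClassFunction (CC x) f := isClassFunction_section χ.2.isClassFunction le_rfl
  let ι : K →* CC x := Subgroup.inclusion h.K_le_CC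
  have h1 : ∀ y : K, blockPart b f (ι y) = 0 := fun y =>
    second_main hM ⟨1, by rw [h.ord, pow_one]⟩ (isPBlock_blockOf χ) (mem_blockOf_self χ) hind.1
      (fun e => hn (induced_unique hind e ▸ mem_blockOf_self χ))
      (by rw [← Subgroup.orderOf_coe]; exact h.not_dvd y.2)
  let N := K.subgroupOf (CC x)
  haveI : N.Normal := Subgroup.normal_subgroupOf_of_le_normalizer fun c hc =>
    Subgroup.mem_normalizer_fintype fun y hy =>
      h.conj_mem (mem_normalizer_of_commute h.ord (mem_centralizer_singleton.mp hc)) hy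
  let e : N ≃* K := Subgroup.subgroupOfEquivOfLe h.K_le_CC
  have hin : ∀ ξ : CC x → ℂ, classInner (fun n : N => ξ n) (fun n => θ (e n)) =
      (Nat.card K : ℂ)⁻¹ * ∑ y : K, ξ (ι y) * conj (θ y) := fun ξ => by
    rw [classInner_def, Nat.card_congr e.toEquiv, ← e.toEquiv.sum_comp]; rfl
  have h2 : ∀ ξ : IrrCharacter (CC x), ξ ∉ b → ∑ y : K, (ξ : CC x → ℂ) (ι y) * conj (θ y) = 0 := by
    intro ξ hξ
    by_contra h0
    refine hξ (mem_of_sameBlock hind.1 hb (sameBlock_of_common hM (N := N) ⟨1, ?_⟩ (h.hat hθ).2 ξ.2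
      (hθ.comp_equiv e) ?_ ?_))
    · have h3 := N.card_mul_index
      rw [Nat.card_congr e.toEquiv, h.card_centralizer, mul_comm p] at h3
      rw [pow_one]
      exact Nat.eq_of_mul_eq_mul_left Nat.card_pos h3
    · rw [hin]
      have := hθ.classInner_self
      rw [classInner_def] at this
      simp only [hat_apply]
      rw [Finset.sum_congr rfl fun y _ => by rw [show h.piK (ι y) = y from h.piK_coe y], this]
      exact one_ne_zero
    · rw [hin]; exact mul_ne_zero (inv_ne_zero hK) h0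
  have h3 : ∀ c, f c = blockPart b f c + ∑ ξ : IrrCharacter (CC x),
      if ξ ∈ b then 0 else classInner f ξ * (ξ : CC x → ℂ) c := fun c => by
    rw [blockPart_eq_sum, ← Finset.sum_add_distrib]
    conv_lhs => rw [hf.eq_sum]
    rw [Finset.sum_apply]
    exact Finset.sum_congr rfl fun ξ _ => by split_ifs <;> simp
  have h4 : AW x K θ χ (1 : ZMod p) = ∑ y : K, f (ι y) * conj (θ y) := by
    rw [AW, xp_one h.ord]; rfl
  rw [h4, Finset.sum_congr rfl fun y _ => by rw [h3, h1, zero_add, Finset.sum_mul],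
    Finset.sum_comm]
  refine Finset.sum_eq_zero fun ξ _ => ?_
  split_ifs with hξ
  · simp
  · simp only [mul_assoc, ← Finset.mul_sum, h2 ξ hξ, mul_zero]

omit hMm in
theorem exists_cK_of_AW (hθ : IsIrrCharacter K θ) (hθ' : IsIrrCharacter K θ') {χ : IrrCharacter G}
    (h1 : AW x K θ χ (1 : ZMod p) ≠ 0) (h2 : AW x K θ' χ (1 : ZMod p) ≠ 0) :
    ∃ n : NN x, (fun y => θ (h.cK n y)) = θ' := by
  classical
  obtain ⟨M, hM⟩ := exists_isPModular hp.out
  haveI := hM.2.1
  have hx : ∃ k, orderOf x = p ^ k := ⟨1, by rw [h.ord, pow_one]⟩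
  obtain ⟨B, hB⟩ := inducedBlockDefined_centralizer_elt hM hx (isPBlock_blockOf (h.hat hθ))
  obtain ⟨B', hB'⟩ := inducedBlockDefined_centralizer_elt hM hx (isPBlock_blockOf (h.hat hθ'))
  have m1 := h.mem_of_AW_ne_zero hM hθ hB (mem_blockOf_self _) h1
  have m2 := h.mem_of_AW_ne_zero hM hθ' hB' (mem_blockOf_self _) h2
  have e := h.redC_hat_ne_zero hM hθ'
  rw [h.redC_omega_zf hB' (mem_blockOf_self _) m2 hθ'.isCharacter,
    ← h.redC_omega_zf hB (mem_blockOf_self _) m1 hθ'.isCharacter, omega_apply,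
    h.chiL_trunc_zf hθ hθ'] at e
  by_contra hn
  push Not at hn
  simp [hn] at e

end PO

end Cfsg.Agent.H19
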