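import Cfsg.Agent.H19.Gen6
import Cfsg.Agent.H6.Kernel

/-! Sylow subgroup of prime order: data of a block of defect one -/

set_option autoImplicit false

namespace Cfsg.Agent.H19

open Cfsg Cfsg.Agent.H4 Cfsg.Agent.H6
open scoped ComplexConjugate

variable {G : Type*} [Group G] {p : ℕ} [hp : Fact p.Prime]
variable {x : G} {K : Subgroup G} [Fintype K] {θ θ' : K → ℂ} [Fintype G]

theorem per_mem {M : Ideal AlgInt} [M.IsMaximal] (hM : IsPModular p M) (E : Subgroup (ZMod p)ˣ)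
    (q : (ZMod p)ˣ ⧸ E) (i : ZMod p) : redC M (per E q i) = Nat.card E := by
  classical
  have h1 : ∀ a : ZMod p, ee a ^ p = 1 := fun a => by
    rw [← AddChar.map_nsmul_eq_pow]; simp
  rw [per, redC_sum, ← mul_one (Nat.card E : Res M), ← sum_ite_coe_eq E q]
  · refine Finset.sum_congr rfl fun k _ => ?_
    split_ifs
    · exact redC_eq_one_of_pow_eq_one hM (k := 1) (by rw [pow_one, h1])
    · simp
  · intro k _
    split_ifs
    · exact mem_locRing_of_pow_eq_one hp.out.ne_zero (h1 _)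
    · exact zero_mem _

theorem not_dvd_card_units (E : Subgroup (ZMod p)ˣ) : ¬ p ∣ Nat.card E := fun hd => by
  have h1 := hd.trans (Subgroup.card_subgroup_dvd_card E)
  rw [Nat.card_eq_fintype_card, ZMod.card_units] at h1
  have h2 := hp.out.two_le
  have := Nat.le_of_dvd (by omega) h1
  omega

theorem per_ne_zero (E : Subgroup (ZMod p)ˣ) (q : (ZMod p)ˣ ⧸ E) (i : ZMod p) : per E q i ≠ 0 := by
  obtain ⟨M, hM⟩ := exists_isPModular hp.out
  haveI := hM.2.1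
  apply ne_zero_of_redC_ne_zero (M := M)
  rw [per_mem hM, Ne, natCast_res_eq_zero_iff hM]
  exact not_dvd_card_units E

/-- data of the family of characters attached to `θ` -/
structure GD (h : PO p x K) (θ : K → ℂ) where
  irr : IsIrrCharacter K θ
  ε : ℤ
  μ : (ZMod p)ˣ ⧸ h.EW θ → IrrCharacter G
  X : Finset (IrrCharacter G)
  a : IrrCharacter G → ℤ
  hε : ε = 1 ∨ ε = -1
  inj : Function.Injective μ
  notX : ∀ q, μ q ∉ X
  cardX : X.card = Nat.card (h.EW θ)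
  ha : ∀ χ ∈ X, a χ = 1 ∨ a χ = -1
  AX : ∀ χ ∈ X, ∀ i : ZMod p, i ≠ 0 → AW x K θ χ i = Nat.card K * a χ
  Aμ : ∀ q, ∀ i : ZMod p, i ≠ 0 → AW x K θ (μ q) i = Nat.card K * (ε * per (h.EW θ) q i)
  A0 : ∀ χ : IrrCharacter G, χ ∉ X → (∀ q, μ q ≠ χ) → ∀ i : ZMod p, i ≠ 0 → AW x K θ χ i = 0
  rel : ∀ q g, ¬ p ∣ orderOf g → ε * (μ q : G → ℂ) g = ∑ χ ∈ X, a χ * (χ : G → ℂ) g

theorem PO.nonempty_GD (h : PO p x K) (hθ : IsIrrCharacter K θ) : Nonempty (GD h θ) := by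
  classical
  obtain ⟨ε, μ, X, a, hε, hμ, hμX, hX, hXa, hμv, hout⟩ := h.brauer_dataW hθ
  refine ⟨⟨hθ, ε, μ, X, a, hε, hμ, hμX, hX, fun χ hχ => (hXa χ hχ).1, fun χ hχ i hi => ?_,
    fun q i hi => ?_, fun χ h1 h2 i hi => ?_, fun q g hg => ?_⟩⟩
  · rw [AW_eq_gn _ hi, sum_zmod_eq_units, gn_zero]
    simp only [(hXa χ hχ).2, ← Finset.mul_sum, sum_units_ee hi]
    ring
  · rw [AW_eq_gn _ hi, sum_zmod_eq_units, gn_zero, zero_mul, zero_add, ← mul_neg, per,
      Finset.mul_sum, ← Finset.sum_neg_distrib]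
    refine congrArg _ (Finset.sum_congr rfl fun k _ => ?_)
    rw [hμv]; split_ifs <;> simp
  · rw [AW_eq_gn _ hi, sum_zmod_eq_units, gn_zero]
    simp [hout χ h1 h2]
  · have e := h.sum_gn_mul_of_regular (θ := θ) (q.out : (ZMod p)ˣ) hg
    have e2 : ∀ χ : IrrCharacter G, gn x K θ χ ((q.out : (ZMod p)ˣ) : ZMod p) * (χ : G → ℂ) g =
        (if χ ∈ X then a χ * (χ : G → ℂ) g else 0) - if μ q = χ then ε * (χ : G → ℂ) g else 0 := by
      intro χ
      by_cases hχ : χ ∈ X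
      · rw [if_pos hχ, if_neg fun e => hμX q (by rwa [e]), (hXa χ hχ).2, sub_zero]
      · rw [if_neg hχ]
        by_cases hq : ∃ r, μ r = χ
        · obtain ⟨r, rfl⟩ := hq
          simp only [hμv, QuotientGroup.out_eq', hμ.eq_iff]
          split_ifs <;> simp
        · push Not at hq
          rw [hout χ hχ hq, if_neg (hq q)]; simp
    simp only [e2, Finset.sum_sub_distrib, Finset.sum_ite_eq, Finset.mem_univ, if_true,
      Finset.sum_ite_mem, Finset.univ_inter] at e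
    exact (sub_eq_zero.mp e).symm

namespace GD
variable {h : PO p x K} (D : GD h θ)

/-- membership in the family -/
def Mem (χ : IrrCharacter G) : Prop := χ ∈ D.X ∨ ∃ q, D.μ q = χ

theorem ε_ne : (D.ε : ℂ) ≠ 0 := by rcases D.hε with e | e <;> simp [e]

theorem ε_sq : D.ε * D.ε = 1 := by rcases D.hε with e | e <;> simp [e]

theorem a_ne {χ : IrrCharacter G} (hχ : χ ∈ D.X) : (D.a χ : ℂ) ≠ 0 := by
  rcases D.ha χ hχ with e | e <;> simp [e]

theorem mem_iff {χ : IrrCharacter G} {i : ZMod p} (hi : i ≠ 0) : D.Mem χ ↔ AW x K θ χ i ≠ 0 := by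
  have hK : (Nat.card K : ℂ) ≠ 0 := natCard_ne_zero'
  refine ⟨?_, fun h0 => ?_⟩
  · rintro (hχ | ⟨q, rfl⟩)
    · rw [D.AX χ hχ i hi]; exact mul_ne_zero hK (D.a_ne hχ)
    · rw [D.Aμ q i hi]; exact mul_ne_zero hK (mul_ne_zero D.ε_ne (per_ne_zero _ _ _))
  · by_contra hn
    rw [Mem, not_or, not_exists] at hn
    exact h0 (D.A0 χ hn.1 hn.2 i hi)

theorem μ_eq (q r : (ZMod p)ˣ ⧸ h.EW θ) {g : G} (hg : ¬ p ∣ orderOf g) :
    (D.μ q : G → ℂ) g = (D.μ r : G → ℂ) g :=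
  mul_left_cancel₀ D.ε_ne ((D.rel q g hg).trans (D.rel r g hg).symm)

theorem mem_block_iff {M : Ideal AlgInt} (hM : IsPModular p M)
    {b : Set (IrrCharacter (CC x))} {B : Set (IrrCharacter G)}
    (hind : IsInducedBlock M (CC x) b B) (hb : h.hat D.irr ∈ b) {χ : IrrCharacter G} :
    χ ∈ B ↔ D.Mem χ := by
  haveI := hM.2.1
  rw [D.mem_iff one_ne_zero]
  exact ⟨h.AW_ne_zero_of_mem hM D.irr hind hb, h.mem_of_AW_ne_zero hM D.irr hind hb⟩

theorem mem_iff_of_mem {M : Ideal AlgInt} (hM : IsPModular p M) {B : Set (IrrCharacter G)}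
    (hB : IsPBlock M B) {ψ : IrrCharacter G} (hψ : ψ ∈ B) (hψ' : D.Mem ψ) {χ : IrrCharacter G} :
    χ ∈ B ↔ D.Mem χ := by
  haveI := hM.2.1
  obtain ⟨B', hB'⟩ := inducedBlockDefined_centralizer_elt hM ⟨1, by rw [h.ord, pow_one]⟩
    (isPBlock_blockOf (h.hat D.irr))
  rw [block_eq_of_mem hB hB'.2.1 hψ ((D.mem_block_iff hM hB' (mem_blockOf_self _)).mpr hψ')]
  exact D.mem_block_iff hM hB' (mem_blockOf_self _)

end GD

namespace PO
variable (h : PO p x K)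
include h

theorem AW_ne_zero_iff (hθ : IsIrrCharacter K θ) (χ : IrrCharacter G) {i : ZMod p} (hi : i ≠ 0) :
    AW x K θ χ i ≠ 0 ↔ AW x K θ χ (1 : ZMod p) ≠ 0 := by
  obtain ⟨D⟩ := h.nonempty_GD hθ
  rw [← D.mem_iff hi, D.mem_iff one_ne_zero]

omit [Fintype G] in
theorem isClassFunction_sec {χ : G → ℂ} (hχ : IsClassFunction G χ) (i : ZMod p) :
    IsClassFunction K fun y => χ (xp x i * y) := fun y z => by
  beta_reduce
  rw [← hχ (xp x i * y) z, Subgroup.coe_mul, Subgroup.coe_mul, ← mul_assoc, ← mul_assoc,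
    (h.commute_xp i z.2).eq]
  simp [mul_assoc]

theorem apply_eq_sum_AW {χ : G → ℂ} (hχ : IsClassFunction G χ) (i : ZMod p) (y : K) :
    Nat.card K * χ (xp x i * y) = ∑ ξ : IrrCharacter K, AW x K ξ χ i * (ξ : K → ℂ) y := by
  have hK : (Nat.card K : ℂ) ≠ 0 := natCard_ne_zero'
  have := congrFun (h.isClassFunction_sec hχ i).eq_sum y
  simp only [Finset.sum_apply, Pi.smul_apply, smul_eq_mul, classInner_def] at this
  rw [this, Finset.mul_sum]
  refine Finset.sum_congr rfl fun ξ _ => ?_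
  rw [← mul_assoc, mul_inv_cancel_left₀ hK]; rfl

theorem exists_family {χ : IrrCharacter G} {g : G} (hg : p ∣ orderOf g) (h0 : (χ : G → ℂ) g ≠ 0) :
    ∃ θ : K → ℂ, ∃ D : GD h θ, D.Mem χ := by
  have hK : (Nat.card K : ℂ) ≠ 0 := natCard_ne_zero'
  obtain ⟨t, i, hi, y, hy, rfl⟩ := h.exists_conj_of_dvd hg
  rw [χ.2.isClassFunction] at h0
  have e := h.apply_eq_sum_AW χ.2.isClassFunction i ⟨y, hy⟩
  obtain ⟨ξ, -, hξ⟩ := Finset.exists_ne_zero_of_sum_ne_zero (e ▸ mul_ne_zero hK h0)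
  obtain ⟨D⟩ := h.nonempty_GD ξ.2
  exact ⟨ξ, D, (D.mem_iff hi).mpr (left_ne_zero_of_mul hξ)⟩

theorem exists_family_of_not_dvd {χ : IrrCharacter G} (hχ : ¬ p ∣ charDegree (χ : G → ℂ)) :
    ∃ θ : K → ℂ, ∃ D : GD h θ, D.Mem χ := by
  by_contra hn
  have h1 := defect_zero_of_vanish hp.out χ.2 fun g hg => by
    by_contra h0
    exact hn (h.exists_family hg h0)
  rw [Nat.factorization_eq_zero_of_not_dvd hχ, Nat.le_zero, Nat.factorization_eq_zero_iff] at h1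
  rcases h1 with h1 | h1 | h1
  · exact h1 hp.out
  · exact h1 (h.ord ▸ orderOf_dvd_natCard x)
  · exact Nat.card_pos.ne' h1

omit [Fintype K] in
theorem vanish_of_dvd {χ : IrrCharacter G} (hχ : p ∣ charDegree (χ : G → ℂ)) {g : G}
    (hg : p ∣ orderOf g) : (χ : G → ℂ) g = 0 := by
  refine apply_eq_zero_of_defect_zero hp.out χ.2 ?_ hg
  have h1 : (Nat.card G).factorization p < 2 := by
    by_contra h2
    exact h.nsq ((hp.out.pow_dvd_iff_le_factorization Nat.card_pos.ne').mpr (by omega))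
  have h2 := (hp.out.dvd_iff_one_le_factorization χ.2.charDegree_pos.ne').mp hχ
  omega

end PO

namespace GD
variable {h : PO p x K} (D : GD h θ)

theorem val [Fintype (NN x)] {χ : IrrCharacter G} (hχ : D.Mem χ) {i : ZMod p} (hi : i ≠ 0) (y : K) :
    Nat.card (h.TT θ) * (Nat.card K * (χ : G → ℂ) (xp x i * y)) =
      ∑ n : NN x, AW x K θ χ ((actN h.ord n : ZMod p) * i) * θ (h.cK n y) := by
  classical
  rw [h.apply_eq_sum_AW χ.2.isClassFunction, Finset.mul_sum]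
  have e1 : ∀ n : NN x, AW x K θ χ ((actN h.ord n : ZMod p) * i) * θ (h.cK n y) = ∑ ξ : IrrCharacter K,
      (if (fun y => θ (h.cK n y)) = ξ then 1 else 0) * (AW x K ξ χ i * (ξ : K → ℂ) y) := by
    intro n
    rw [Finset.sum_eq_single ⟨_, h.irr_cK D.irr n⟩, if_pos rfl, one_mul,
      ← h.AW_cK χ.2.isClassFunction n (actN_spec h.ord n)]
    · exact fun ξ _ hξ => by rw [if_neg fun e => hξ (Subtype.ext e.symm), zero_mul]
    · simp
  simp only [e1]
  rw [Finset.sum_comm]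
  refine Finset.sum_congr rfl fun ξ _ => ?_
  rw [← Finset.sum_mul]
  by_cases h0 : AW x K ξ χ i = 0
  · simp [h0]
  · obtain ⟨m, hm⟩ := h.exists_cK_of_AW D.irr ξ.2 ((D.mem_iff one_ne_zero).mp hχ)
      ((h.AW_ne_zero_iff ξ.2 χ hi).mp h0)
    rw [← h.sum_ite_cK m, hm]

theorem valX [Fintype (NN x)] {χ : IrrCharacter G} (hχ : χ ∈ D.X) {i : ZMod p} (hi : i ≠ 0)
    (y : K) : Nat.card (h.TT θ) * (χ : G → ℂ) (xp x i * y) = D.a χ * ∑ n : NN x, θ (h.cK n y) := by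
  have hK : (Nat.card K : ℂ) ≠ 0 := natCard_ne_zero'
  apply mul_left_cancel₀ hK
  rw [mul_left_comm, D.val (Or.inl hχ) hi, Finset.mul_sum, Finset.mul_sum]
  refine Finset.sum_congr rfl fun n _ => ?_
  rw [D.AX χ hχ _ (mul_ne_zero (Units.ne_zero _) hi), mul_assoc]

theorem valμ [Fintype (NN x)] (q : (ZMod p)ˣ ⧸ h.EW θ) {i : ZMod p} (hi : i ≠ 0) (y : K) :
    Nat.card (h.TT θ) * (D.μ q : G → ℂ) (xp x i * y) =
      D.ε * ∑ n : NN x, per (h.EW θ) q ((actN h.ord n : ZMod p) * i) * θ (h.cK n y) := by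
  have hK : (Nat.card K : ℂ) ≠ 0 := natCard_ne_zero'
  apply mul_left_cancel₀ hK
  rw [mul_left_comm, D.val (Or.inr ⟨q, rfl⟩) hi, Finset.mul_sum, Finset.mul_sum]
  refine Finset.sum_congr rfl fun n _ => ?_
  rw [D.Aμ q _ (mul_ne_zero (Units.ne_zero _) hi)]; ring

/-- number of conjugates of `θ` -/
noncomputable def r (_D : GD h θ) : ℕ := (h.TT θ).relIndex (NN x)

/-- inertial index -/
noncomputable def e (_D : GD h θ) : ℕ := Nat.card (h.EW θ)

/-- number of exceptional characters -/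
noncomputable def t (_D : GD h θ) : ℕ := Nat.card ((ZMod p)ˣ ⧸ h.EW θ)

/-- degree of `θ` -/
noncomputable def d (_D : GD h θ) : ℕ := charDegree θ

theorem e_mul_t : D.e * D.t = p - 1 := h.card_EW_mul θ

theorem e_pos : 0 < D.e := Nat.card_pos
theorem t_pos : 0 < D.t := Nat.card_pos
theorem d_pos : 0 < D.d := D.irr.charDegree_pos

theorem card_NN : Nat.card (NN x) = Nat.card (h.TT θ) * D.r := by
  rw [r, ← Subgroup.relIndex_bot_left, ← Subgroup.relIndex_bot_left,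
    Subgroup.relIndex_mul_relIndex _ _ _ bot_le (h.TT_le θ)]

theorem r_pos : 0 < D.r := Nat.pos_of_mul_pos_left (D.card_NN ▸ Nat.card_pos)

theorem e_mul_r : D.e * D.r = eN h.ord := by
  rw [e, h.card_EW D.irr.isClassFunction, r, eN, card_EE,
    Subgroup.relIndex_mul_relIndex _ _ _ (h.CC_le_TT D.irr.isClassFunction) (h.TT_le θ)]

theorem θ_one : θ 1 = D.d := D.irr.isCharacter.charDegree_cast.symm

theorem valX_one {χ : IrrCharacter G} (hχ : χ ∈ D.X) {i : ZMod p} (hi : i ≠ 0) :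
    (χ : G → ℂ) (xp x i) = D.a χ * (D.r * D.d) := by
  classical
  have hT : (Nat.card (h.TT θ) : ℂ) ≠ 0 := natCard_ne_zero'
  have := D.valX hχ hi 1
  simp only [map_one, Finset.sum_const, Finset.card_univ, nsmul_eq_mul, Fintype.card_eq_nat_card,
    D.card_NN, D.θ_one, OneMemClass.coe_one, mul_one] at this
  apply mul_left_cancel₀ hT
  rw [this]; push_cast; ring

theorem sg_X {χ : IrrCharacter G} (hχ : χ ∈ D.X) :
    sg p x (χ : G → ℂ) = (p - 1) * (D.a χ * (D.r * D.d)) :=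
  sg_const fun _ hi => D.valX_one hχ hi

theorem sg_μ (q : (ZMod p)ˣ ⧸ h.EW θ) :
    sg p x (D.μ q : G → ℂ) = -(D.ε * (D.e * (D.r * D.d))) := by
  classical
  have hT : (Nat.card (h.TT θ) : ℂ) ≠ 0 := natCard_ne_zero'
  apply mul_left_cancel₀ hT
  have e1 : ∀ i : (ZMod p)ˣ, Nat.card (h.TT θ) * (D.μ q : G → ℂ) (xp x (i : ZMod p)) =
      D.ε * ∑ n : NN x, per (h.EW θ) q ((actN h.ord n * i : (ZMod p)ˣ) : ZMod p) * D.d := fun i => by
    simpa [D.θ_one] using D.valμ q i.ne_zero 1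
  have e2 : ∀ n : NN x, ∑ i : (ZMod p)ˣ, per (h.EW θ) q ((actN h.ord n * i : (ZMod p)ˣ) : ZMod p) =
      -(D.e : ℂ) := fun n =>
    (Equiv.sum_comp (Equiv.mulLeft (actN h.ord n))
      (fun i : (ZMod p)ˣ => per (h.EW θ) q (i : ZMod p))).trans (sum_units_per _ _)
  rw [sg, Finset.mul_sum]
  simp only [e1]
  rw [← Finset.mul_sum, Finset.sum_comm]
  simp only [← Finset.sum_mul, e2, Finset.sum_const, Finset.card_univ, nsmul_eq_mul,
    Fintype.card_eq_nat_card, D.card_NN]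
  push_cast; ring

theorem fd_X {χ : IrrCharacter G} (hχ : χ ∈ D.X) : (p : ℤ) * fd p x (χ : G → ℂ) =
    charDegree (χ : G → ℂ) + (p - 1) * (D.a χ * (D.r * D.d)) := by
  have := p_mul_fd h.ord χ.2.isCharacter
  rw [D.sg_X hχ] at this
  exact_mod_cast this

theorem fd_μ (q : (ZMod p)ˣ ⧸ h.EW θ) : (p : ℤ) * fd p x (D.μ q : G → ℂ) =
    charDegree (D.μ q : G → ℂ) - D.ε * (D.e * (D.r * D.d)) := by
  have := p_mul_fd h.ord (D.μ q).2.isCharacter
  rw [D.sg_μ, ← sub_eq_add_neg] at this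
  exact_mod_cast this

theorem degX {χ : IrrCharacter G} (hχ : χ ∈ D.X) :
    (charDegree (χ : G → ℂ) : ℤ) ≡ D.a χ * (D.r * D.d) [ZMOD p] :=
  Int.modEq_iff_dvd.mpr ⟨D.a χ * (D.r * D.d) - fd p x (χ : G → ℂ), by
    linear_combination D.fd_X hχ⟩

theorem degμ (q : (ZMod p)ˣ ⧸ h.EW θ) :
    (charDegree (D.μ q : G → ℂ) : ℤ) ≡ D.ε * (D.e * (D.r * D.d)) [ZMOD p] :=
  Int.modEq_iff_dvd.mpr ⟨-fd p x (D.μ q : G → ℂ), by linear_combination D.fd_μ q⟩

theorem not_dvd_rd : ¬ p ∣ D.r * D.d := by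
  rw [hp.out.dvd_mul, not_or]
  refine ⟨fun hd => not_dvd_card_units (EE h.ord) ((hd.mul_left _).trans (dvd_of_eq D.e_mul_r)), fun hd => ?_⟩
  exact h.not_dvd_card (hd.trans (D.irr.degree_dvd_card D.θ_one))

theorem Mem.not_dvd {D : GD h θ} {χ : IrrCharacter G} (hχ : D.Mem χ) :
    ¬ p ∣ charDegree (χ : G → ℂ) := fun hd => (D.mem_iff one_ne_zero).mp hχ
  (Finset.sum_eq_zero fun y _ => by
    rw [h.vanish_of_dvd hd (h.dvd_orderOf one_ne_zero y.2), zero_mul])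

end GD

end Cfsg.Agent.H19
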