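import Cfsg.Agent.H19.Gen7
import Cfsg.Agent.H4.Galois

/-! Blocks of defect one: Galois action -/

set_option autoImplicit false

namespace Cfsg.Agent.H19

open Cfsg Cfsg.Agent.H4 Cfsg.Agent.H6
open scoped ComplexConjugate

variable {G : Type*} [Group G] {p : ℕ} [hp : Fact p.Prime]
variable {x : G} {K : Subgroup G} [Fintype K] {θ θ' : K → ℂ} [Fintype G]

theorem ee_pow (a : ZMod p) (m : ℕ) : ee a ^ m = ee ((m : ZMod p) * a) := by
  rw [← AddChar.map_nsmul_eq_pow, nsmul_eq_mul]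

theorem per_mul (E : Subgroup (ZMod p)ˣ) (q : (ZMod p)ˣ ⧸ E) (c : (ZMod p)ˣ) (i : ZMod p) :
    per E q ((c : ZMod p) * i) = per E ((c : _ ⧸ E) * q) i := by
  classical
  rw [per, per, ← Equiv.sum_comp (Equiv.mulLeft c) (fun k : (ZMod p)ˣ =>
    if (k : _ ⧸ E) = (c : _ ⧸ E) * q then ee (i * (k : ZMod p)) else 0)]
  refine Finset.sum_congr rfl fun k _ => if_congr (by simp) ?_ rfl
  congr 1; simp; ring

theorem map_per (σ : ℂ →+* ℂ) {c : (ZMod p)ˣ} (hσ : ∀ a : ZMod p, σ (ee a) = ee ((c : ZMod p) * a))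
    (E : Subgroup (ZMod p)ˣ) (q : (ZMod p)ˣ ⧸ E) (i : ZMod p) :
    σ (per E q i) = per E ((c : _ ⧸ E) * q) i := by
  rw [← per_mul, per, per, map_sum]
  refine Finset.sum_congr rfl fun k _ => ?_
  split_ifs
  · rw [hσ, mul_assoc]
  · simp

theorem exists_unit_of_ringHom (σ : ℂ →+* ℂ) :
    ∃ c : (ZMod p)ˣ, ∀ a : ZMod p, σ (ee a) = ee ((c : ZMod p) * a) := by
  obtain ⟨m, hm, h⟩ := exists_pow_of_ringHom σ hp.out.ne_zero
  exact ⟨ZMod.unitOfCoprime m hm, fun a => by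
    rw [h _ (by rw [ee_pow]; simp), ee_pow]; simp⟩

theorem exists_ringEquiv_unit {m : ℕ} (hm : ¬ p ∣ m) (c : (ZMod p)ˣ) : ∃ σ : ℂ ≃+* ℂ,
    (∀ z : ℂ, z ^ m = 1 → σ z = z) ∧ ∀ a : ZMod p, σ (ee a) = ee ((c : ZMod p) * a) := by
  have hm0 : m ≠ 0 := by rintro rfl; exact hm (dvd_zero p)
  have hcop : m.Coprime p := (hp.out.coprime_iff_not_dvd.mpr hm).symm
  obtain ⟨k, h1, h2⟩ := Nat.chineseRemainder hcop 1 (c : ZMod p).val
  have hk : k.Coprime (m * p) := Nat.Coprime.mul_right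
    (by rw [Nat.Coprime, h1.gcd_eq, Nat.gcd_one_left])
    (by rw [Nat.Coprime, h2.gcd_eq]; exact ZMod.val_coe_unit_coprime c)
  obtain ⟨σ, hσ⟩ := exists_ringEquiv_pow (mul_ne_zero hm0 hp.out.ne_zero) hk
  refine ⟨σ, fun z hz => ?_, fun a => ?_⟩
  · rw [hσ z (by rw [pow_mul, hz, one_pow]), pow_eq_pow_of_modEq h1 hz, pow_one]
  · rw [hσ _ (by rw [ee_pow]; simp), ee_pow, (ZMod.natCast_eq_natCast_iff _ _ _).mpr h2,
      ZMod.natCast_zmod_val]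

omit [Fintype K] in
theorem PO.pow_eq_one_of_regular (h : PO p x K) {g : G} (hg : ¬ p ∣ orderOf g) :
    g ^ (Nat.card G / p) = 1 := by
  obtain ⟨m, hm⟩ : p ∣ Nat.card G := h.ord ▸ orderOf_dvd_natCard x
  rw [hm, Nat.mul_div_cancel_left _ hp.out.pos, ← orderOf_dvd_iff_pow_eq_one]
  exact (hp.out.coprime_iff_not_dvd.mpr hg).symm.dvd_of_dvd_mul_left (hm ▸ orderOf_dvd_natCard g)

omit [Fintype K] in
theorem PO.not_dvd_div (h : PO p x K) : ¬ p ∣ Nat.card G / p := fun hd => h.nsq (by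
  obtain ⟨m, hm⟩ : p ∣ Nat.card G := h.ord ▸ orderOf_dvd_natCard x
  rw [hm, Nat.mul_div_cancel_left _ hp.out.pos] at hd
  rw [hm, sq]; exact Nat.mul_dvd_mul_left p hd)

namespace GD
variable {h : PO p x K} (D : GD h θ)

theorem ext_of_AW {χ ψ : IrrCharacter G} (hχ : D.Mem χ) (hψ : D.Mem ψ)
    (h1 : ∀ i : ZMod p, i ≠ 0 → AW x K θ χ i = AW x K θ ψ i)
    (h2 : ∀ g, ¬ p ∣ orderOf g → (χ : G → ℂ) g = (ψ : G → ℂ) g) : χ = ψ := by
  classical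
  refine Subtype.ext (funext fun g => ?_)
  by_cases hg : p ∣ orderOf g
  · obtain ⟨t, i, hi, y, hy, rfl⟩ := h.exists_conj_of_dvd hg
    rw [χ.2.isClassFunction, ψ.2.isClassFunction]
    have hK : (Nat.card K : ℂ) ≠ 0 := natCard_ne_zero'
    have hT : (Nat.card (h.TT θ) : ℂ) ≠ 0 := natCard_ne_zero'
    refine mul_left_cancel₀ hK (mul_left_cancel₀ hT ?_)
    rw [D.val hχ hi ⟨y, hy⟩, D.val hψ hi ⟨y, hy⟩]
    exact Finset.sum_congr rfl fun n _ => by rw [h1 _ (mul_ne_zero (Units.ne_zero _) hi)]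
  · exact h2 g hg

section gal
variable {σ : ℂ →+* ℂ} (hσ : ∀ z : ℂ, z ^ (Nat.card G / p) = 1 → σ z = z)
  {χ ψ : IrrCharacter G} (e : (ψ : G → ℂ) = fun g => σ ((χ : G → ℂ) g))
include hσ e D

theorem gal_regular {g : G} (hg : ¬ p ∣ orderOf g) : (ψ : G → ℂ) g = (χ : G → ℂ) g := by
  rw [e]
  simpa using χ.2.isCharacter.map_apply_eq_pow (σ := σ) (m := 1) (by simpa using hσ)
    (h.pow_eq_one_of_regular hg)

theorem gal_AW (i : ZMod p) : AW x K θ ψ i = σ (AW x K θ χ i) := by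
  rw [AW, AW, map_sum, e]
  refine Finset.sum_congr rfl fun y _ => ?_
  have := D.irr.isCharacter.map_apply_eq_pow (σ := σ) (m := 1) (by simpa using hσ) (g := y⁻¹)
    (Subtype.ext (by simpa using h.pow_eq_one_of_regular (h.not_dvd y.2)))
  rw [map_mul, ← D.irr.isCharacter.apply_inv, this, pow_one]

theorem gal_mem (hχ : D.Mem χ) : D.Mem ψ := by
  rw [D.mem_iff one_ne_zero] at hχ ⊢
  rwa [D.gal_AW hσ e, map_ne_zero]

theorem gal_X (hχ : χ ∈ D.X) : ψ = χ :=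
  D.ext_of_AW (D.gal_mem hσ e (Or.inl hχ)) (Or.inl hχ)
    (fun i hi => by rw [D.gal_AW hσ e, D.AX χ hχ i hi]; simp) fun g hg => D.gal_regular hσ e hg

theorem gal_μ {c : (ZMod p)ˣ} (hc : ∀ a : ZMod p, σ (ee a) = ee ((c : ZMod p) * a)) {q : (ZMod p)ˣ ⧸ h.EW θ}
    (hχ : D.μ q = χ) : ψ = D.μ ((c : _ ⧸ h.EW θ) * q) :=
  D.ext_of_AW (D.gal_mem hσ e (Or.inr ⟨q, hχ⟩)) (Or.inr ⟨_, rfl⟩)
    (fun i hi => by
      rw [D.gal_AW hσ e, ← hχ, D.Aμ _ i hi, D.Aμ _ i hi, ← map_per σ hc]; simp)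
    fun g hg => by rw [D.gal_regular hσ e hg, ← hχ, D.μ_eq _ _ hg]

end gal

end GD

end Cfsg.Agent.H19
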