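import Cfsg.Agent.H19.CI
import Cfsg.Agent.S4429

/-! Simple groups of order 7920: character data -/

set_option autoImplicit false

namespace Cfsg.Agent.H19

open Cfsg Cfsg.Agent.H4 Cfsg.Agent.H5 Cfsg.Agent.H6 Subgroup
open scoped ComplexConjugate

theorem sum_int_inner {G : Type*} [Group G] [Fintype G] {α β : G → ℂ} {A B : G → ℤ}
    (hA : ∀ g, α g = A g) (hB : ∀ g, β g = B g) {n : ℤ} (h : classInner α β = n) :
    ∑ g, A g * B g = Nat.card G * n := by
  have := card_mul_classInner α β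
  simp only [h, hA, hB, map_intCast] at this
  exact_mod_cast this.symm

open Classical in
/-- character data of a simple group of order 7920 -/
structure MDat (G : Type*) [Group G] [Fintype G] where
  χ : IrrCharacter G
  φ : IrrCharacter G
  θ : IrrCharacter G
  X : G → ℤ
  Y : G → ℤ
  T : G → ℤ
  Ψ : G → ℤ
  dχ : charDegree (χ : G → ℂ) = 11
  dφ : charDegree (φ : G → ℂ) = 45
  dθ : charDegree (θ : G → ℂ) = 16
  hX : ∀ g, (χ : G → ℂ) g = X g
  hY : ∀ g, (φ : G → ℂ) g = Y g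
  hT : ∀ g, ¬ 11 ∣ orderOf g → (θ : G → ℂ) g = T g ∧ Ψ g = 2 * T g
  hΨ : ∀ g, 11 ∣ orderOf g → Ψ g = -1
  s1 : ∑ g, Ψ g = 0
  s2 : ∑ g, Ψ g * Ψ g = 15840
  s3 : ∑ g, Ψ g * X g = 0
  c11 : ∀ g : G, 11 ∣ orderOf g → orderOf g = 11 ∧ cc g = 11
  c5 : ∀ g : G, 5 ∣ orderOf g → orderOf g = 5 ∧ cc g = 5
  n11 : (Finset.univ.filter fun g : G => 11 ∣ orderOf g).card = 1440
  n5 : (Finset.univ.filter fun g : G => 5 ∣ orderOf g).card = 1584
  syl11 : Nat.card (Sylow 11 G) = 144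
  syl5 : Nat.card (Sylow 5 G) = 396
  inv13 : ∀ z : G, orderOf z = 2 → 13 ≤ cc z
  bud : ∑ g : G, cc g = 79200

set_option maxHeartbeats 800000 in
theorem nonempty_MDat {G : Type*} [Group G] [Fintype G] [IsSimpleGroup G]
    (hG : Nat.card G = 7920) : Nonempty (MDat G) := by
  classical
  have hc : ¬ IsMulCommutative G := not_comm_of_card_not_prime (by rw [hG]; norm_num)
  haveI : Fact (Nat.Prime 11) := ⟨by norm_num⟩
  haveI : Fact (Nat.Prime 5) := ⟨by norm_num⟩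
  obtain ⟨k10, hd⟩ := S4429.result hG
  have h12 : ∀ χ : IrrCharacter G, charDegree (χ : G → ℂ) ≠ 12 := fun χ e =>
    (Nat.card_pos_iff.mpr ⟨⟨⟨χ, e⟩⟩, inferInstance⟩).ne' (hd 12)
  obtain ⟨χ, X, dχ, hX⟩ := int_of_unique (hd 11)
  obtain ⟨φ, Y, dφ, hY⟩ := int_of_unique (hd 45)
  obtain ⟨x, K, h, B, L, h1, h2, h3⟩ := d1_mem (p := 11) hc (by rw [hG]; norm_num)
    (by rw [hG]; norm_num)
  obtain ⟨x', K', h', B', L', h1', h2', -⟩ := d1_mem (p := 5) hc (by rw [hG]; norm_num)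
    (by rw [hG]; norm_num)
  rw [hG, show d1list 7920 11 = [(1, 5, 144, [-10, -10, 12, 12]), (1, 5, 144, [-10, -10, -10, 45])]
    by decide +kernel] at h1
  have h4 : L' = [11] ∨ (Nat.card K' = 1 ∧ sN x' = 396) :=
    (by decide +kernel : ∀ t ∈ d1list 7920 5, t.2.2.2 = [11] ∨ (t.1 = 1 ∧ t.2.2.1 = 396)) _ (hG ▸ h1')
  obtain ⟨hK', hs'⟩ := h4.resolve_left fun e => h12 (B'.μ 1) (by
    rw [B'.deg_μ]
    rcases B'.hε with f | f <;> rw [f, e] at h2' <;> simp at h2' <;> omega)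
  simp only [List.mem_cons, Prod.mk.injEq, List.not_mem_nil, or_false] at h1
  obtain ⟨hK, he, hs, rfl⟩ := h1.resolve_left fun ⟨_, _, _, e⟩ => by
    have : (12 : ℤ) ∈ (L : Multiset ℤ) := by simp [e]
    rw [h3] at this
    obtain ⟨ψ, h5, h6⟩ := Multiset.mem_map.mp this
    refine h12 ψ ?_
    rcases B.ha ψ (Finset.mem_of_mem_erase h5) with f | f <;> rw [f] at h6 <;> omega
  obtain rfl := eq_bot_of_card_eq _ hK
  obtain rfl := eq_bot_of_card_eq _ hK'
  have hz : B.ε = 1 ∧ B.z = 16 := by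
    rcases B.hε with f | f <;> rw [f] at h2 <;> simp at h2 <;> omega
  haveI := Fintype.ofFinite ((ZMod 11)ˣ ⧸ EE h.ord)
  have ht : Fintype.card ((ZMod 11)ˣ ⧸ EE h.ord) = 2 := by
    have := eN_mul h.ord
    rw [he, tN, Nat.card_eq_fintype_card] at this
    omega
  have h16 : ∀ ψ : IrrCharacter G, charDegree (ψ : G → ℂ) = 16 → ∃ q, B.μ q = ψ := fun ψ e => by
    by_contra hn
    push Not at hn
    by_cases h5 : ψ ∈ B.X
    · have := B.degX ψ h5
      rcases B.ha ψ h5 with f | f <;> rw [f, e] at this <;> revert this <;> decide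
    · have := B.fd_other h5 hn
      omega
  have hT : ∀ g, ∃ n : ℤ, ¬ 11 ∣ orderOf g → (B.μ 1 : G → ℂ) g = n := fun g => by
    by_cases hg : 11 ∣ orderOf g
    · exact ⟨0, fun e => absurd hg e⟩
    obtain ⟨n, hn⟩ := int_of_gal (B.μ 1).2.isCharacter (g := g) fun σ => by
      obtain ⟨ψ, h5, h6⟩ := exists_gal (B.μ 1) σ
      obtain ⟨q, rfl⟩ := h16 ψ (by rw [h5, B.deg_μ, hz.2])
      rw [← h6, B.μ_eq q 1 hg]
    exact ⟨n, fun _ => hn⟩
  choose T hT using hT
  let Ψ : G → ℤ := fun g => if 11 ∣ orderOf g then -1 else 2 * T g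
  have hΨ : ∀ g, (∑ q, (B.μ q : G → ℂ)) g = Ψ g := fun g => by
    rw [Finset.sum_apply]
    by_cases hg : 11 ∣ orderOf g
    · obtain ⟨i, hi, e⟩ := h.exists_conj hg
      rw [Finset.sum_congr rfl fun q _ => ((B.μ q).2.isClassFunction.of_isConj e).symm.trans
        (B.valμ' q hi), ← Finset.mul_sum, sum_per _ hi]
      simp [Ψ, hg, hz.1]
    · rw [Finset.sum_congr rfl fun q _ => (B.μ_eq q 1 hg).trans (hT g hg)]
      simp [Ψ, hg, ht]
  have hne : ∀ ψ : IrrCharacter G, charDegree (ψ : G → ℂ) ≠ 16 →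
      classInner (∑ q, (B.μ q : G → ℂ)) ψ = (0 : ℤ) := fun ψ e => by
    rw [classInner_sum_left, Finset.sum_eq_zero fun q _ => by
      rw [irr_classInner, if_neg fun f => e (by rw [← f, B.deg_μ, hz.2])], Int.cast_zero]
  refine ⟨⟨χ, φ, B.μ 1, X, Y, T, Ψ, dχ, dφ, by rw [B.deg_μ, hz.2], hX, hY,
    fun g hg => ⟨hT g hg, if_neg hg⟩, fun g hg => if_pos hg, ?_, ?_, ?_, fun g => h.cc_eq,
    fun g => h'.cc_eq, by rw [h.card_sing, hs], by rw [h'.card_sing, hs'],
    by rw [← sN_eq_card h.ord h.nsq, hs], by rw [← sN_eq_card h'.ord h'.nsq, hs'], fun z hz => ?_,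
    by rw [sum_cc, k10, hG]⟩⟩
  · simpa using sum_int_inner hΨ (B := fun _ => 1) (fun _ => by simp)
      (hne (irrOne G) (by rw [charDegree_irrOne]; omega))
  · have := sum_int_inner hΨ hΨ (n := 2) (by
      rw [classInner_sum_left]
      simp only [classInner_sum_right, irr_classInner, B.inj.eq_iff]
      simp [ht])
    rw [this, hG]; rfl
  · simpa using sum_int_inner hΨ hX (hne χ (by omega))
  · have h5 := hd 10
    rw [Nat.card_eq_fintype_card, Fintype.card_subtype] at h5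
    set s := Finset.univ.filter fun χ : IrrCharacter G => charDegree (χ : G → ℂ) = 10
    have h6 : irrOne G ∉ s := by simp [s, charDegree_irrOne]
    have h7 := Finset.sum_le_sum_of_subset_of_nonneg (Finset.subset_univ (insert (irrOne G) s))
      (f := fun ψ : IrrCharacter G => ‖(ψ : G → ℂ) z‖ ^ 2) fun _ _ _ => by positivity
    have h8 := Finset.card_nsmul_le_sum s (fun ψ : IrrCharacter G => ‖(ψ : G → ℂ) z‖ ^ 2) 4
      fun ψ hψ => by
        have e := (Finset.mem_filter.mp hψ).2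
        obtain ⟨k, -, -, f⟩ := invol_val hc (χ := ψ) (fun f => h6 (f ▸ hψ)) hz
        rw [f, e, show ((10 : ℕ) : ℂ) - 4 * k = ((10 - 4 * k : ℤ) : ℂ) by push_cast; ring,
          Complex.norm_intCast, sq_abs]
        have : (4 : ℤ) ≤ (10 - 4 * k) ^ 2 := by
          rcases (by omega : 10 - 4 * (k : ℤ) ≤ -2 ∨ 2 ≤ 10 - 4 * (k : ℤ)) with g | g <;> nlinarith
        exact_mod_cast this
    rw [Finset.sum_insert h6, sum_irr_norm_sq] at h7
    rw [h5] at h8
    simp only [irrOne_apply, norm_one, one_pow] at h7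
    have : (13 : ℝ) ≤ cc z := by norm_num at h8; linarith
    exact_mod_cast this

end Cfsg.Agent.H19
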