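import Cfsg.Agent.H19.M11a

/-! Simple groups of order 7920: elements of order 3 and 6 -/

set_option autoImplicit false

namespace Cfsg.Agent.H19

open Cfsg Cfsg.Agent.H4 Cfsg.Agent.H5 Cfsg.Agent.H6 Subgroup Finset

/-- the type of an element order -/
def oty (n : ℕ) : Fin 6 :=
  if n = 1 then 0 else if 11 ∣ n then 1 else if 5 ∣ n then 2 else
    if 2 ∣ n then (if 3 ∣ n then 5 else 4) else 3

/-- elements of a given type -/
noncomputable def TT (G : Type*) [Group G] [Fintype G] (i : Fin 6) : Finset G :=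
  univ.filter fun g => oty (orderOf g) = i

variable {G : Type*} [Group G] [Fintype G]

theorem mem_TT {i : Fin 6} {g : G} : g ∈ TT G i ↔ oty (orderOf g) = i := by simp [TT]

theorem mem_TT_conj {i : Fin 6} {a b : G} (h : IsConj a b) (ha : a ∈ TT G i) : b ∈ TT G i := by
  rwa [mem_TT, ← orderOf_isConj h, ← mem_TT]

theorem fact_le {n d p k : ℕ} (hp : p.Prime) (hn : ¬ p ^ (k + 1) ∣ n) (hd : p ^ k ∣ d) (h0 : d ≠ 0) :
    n.factorization p ≤ d.factorization p := by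
  have h1 := (hp.pow_dvd_iff_le_factorization h0).mp hd
  have h2 := mt (hp.pow_dvd_iff_le_factorization (k := k + 1) (n := n) fun e => hn (e ▸ dvd_zero _)).mpr hn
  omega

theorem eq_of_sum_le {α : Type*} {s : Finset α} {f g : α → ℤ} (h : ∀ a ∈ s, f a ≤ g a)
    (h1 : ∑ a ∈ s, g a ≤ ∑ a ∈ s, f a) : ∀ a ∈ s, f a = g a :=
  (sum_eq_sum_iff_of_le h).mp (le_antisymm (sum_le_sum h) h1)

namespace MDat
variable (D : MDat G) (hG : Nat.card G = 7920)
include D hG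

theorem ty3 {g : G} (h : g ∈ TT G 3) : orderOf g = 3 ∨ orderOf g = 9 :=
  (by decide +kernel : ∀ d ∈ Nat.divisors 7920, oty d = 3 → d = 3 ∨ d = 9) _
    (Nat.mem_divisors.mpr ⟨hG ▸ orderOf_dvd_natCard g, by norm_num⟩) (mem_TT.mp h)

theorem ty4 {g : G} (h : g ∈ TT G 4) :
    orderOf g = 2 ∨ orderOf g = 4 ∨ orderOf g = 8 ∨ orderOf g = 16 :=
  (by decide +kernel : ∀ d ∈ Nat.divisors 7920, oty d = 4 → d = 2 ∨ d = 4 ∨ d = 8 ∨ d = 16) _
    (Nat.mem_divisors.mpr ⟨hG ▸ orderOf_dvd_natCard g, by norm_num⟩) (mem_TT.mp h)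

theorem ty5 {g : G} (h : g ∈ TT G 5) : 6 ∣ orderOf g ∧ orderOf g ∣ 144 :=
  (by decide +kernel : ∀ d ∈ Nat.divisors 7920, oty d = 5 → 6 ∣ d ∧ d ∣ 144) _
    (Nat.mem_divisors.mpr ⟨hG ▸ orderOf_dvd_natCard g, by norm_num⟩) (mem_TT.mp h)

omit hG in
theorem mem5 {g : G} (h2 : 2 ∣ orderOf g) (h3 : 3 ∣ orderOf g) : g ∈ TT G 5 := by
  have h1 := D.c11 g
  have h4 := D.c5 g
  rw [mem_TT, oty, if_neg (by omega), if_neg (by omega), if_neg (by omega), if_pos h2, if_pos h3]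

omit hG in
theorem split (F : G → ℤ) {a b : ℤ} (h1 : ∀ g, orderOf g = 11 → F g = a)
    (h2 : ∀ g, orderOf g = 5 → F g = b) : ∑ g, F g = F 1 + 1440 * a + 1584 * b +
      ∑ g ∈ TT G 3, F g + ∑ g ∈ TT G 4, F g + ∑ g ∈ TT G 5, F g := by
  classical
  have e0 : TT G 0 = {1} := by
    ext g; rw [mem_TT, mem_singleton, ← orderOf_eq_one_iff, oty]; split_ifs <;> simp [*]
  have e1 : TT G 1 = univ.filter fun g : G => 11 ∣ orderOf g := by
    ext g; rw [mem_TT, mem_filter, oty]; split_ifs <;> simp [*]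
  have e2 : TT G 2 = univ.filter fun g : G => 5 ∣ orderOf g := by
    ext g; have := D.c11 g; rw [mem_TT, mem_filter, oty]; split_ifs <;> simp [*]
  rw [← sum_fiberwise univ fun g => oty (orderOf g), Fin.sum_univ_six]
  change ∑ g ∈ TT G 0, F g + ∑ g ∈ TT G 1, F g + ∑ g ∈ TT G 2, F g + _ + _ + _ = _
  rw [e0, e1, e2, sum_singleton, sum_congr rfl fun g hg => h1 g (D.c11 g (mem_filter.mp hg).2).1,
    sum_congr rfl fun g hg => h2 g (D.c5 g (mem_filter.mp hg).2).1, sum_const, sum_const, D.n11, D.n5]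
  simp only [nsmul_eq_mul, TT]
  rfl

theorem cc_dvd144 {g : G} (h : orderOf g ∣ 144) (h1 : g ≠ 1) : cc g ∣ 144 := by
  have key : ∀ p : ℕ, p.Prime → Nat.Coprime p 144 → (∀ u : G, p ∣ orderOf u → cc u = p) →
      ¬ p ∣ cc g := fun p hp h2 h3 h4 => by
    obtain ⟨u, hu, h5⟩ := exists_of_dvd_cc hp h4
    exact h1 (orderOf_eq_one_iff.mp (Nat.eq_one_of_dvd_coprimes h2
      (h3 u (hu ▸ dvd_rfl) ▸ orderOf_dvd_cc h5.symm) h))
  exact (by decide +kernel : ∀ d ∈ Nat.divisors 7920, ¬ 11 ∣ d → ¬ 5 ∣ d → d ∣ 144) _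
    (Nat.mem_divisors.mpr ⟨hG ▸ cc_dvd g, by norm_num⟩)
    (key 11 (by norm_num) (by norm_num) fun u hu => (D.c11 u hu).2)
    (key 5 (by norm_num) (by norm_num) fun u hu => (D.c5 u hu).2)

omit hG in
theorem one_vals : D.X 1 = 11 ∧ D.Y 1 = 45 ∧ D.Ψ 1 = 32 := by
  have h1 := (D.hX 1).symm.trans D.χ.2.isCharacter.charDegree_cast.symm
  have h2 := (D.hY 1).symm.trans D.φ.2.isCharacter.charDegree_cast.symm
  have h4 := D.hT 1 (by simp)
  have h3 := h4.1.symm.trans D.θ.2.isCharacter.charDegree_cast.symm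
  rw [D.dχ] at h1; rw [D.dφ] at h2; rw [D.dθ] at h3
  refine ⟨by exact_mod_cast h1, by exact_mod_cast h2, ?_⟩
  have : D.T 1 = 16 := by exact_mod_cast h3
  rw [h4.2, this]; rfl

omit hG in
theorem v11 {g : G} (h : orderOf g = 11) : D.X g = 0 ∧ D.Y g = 1 ∧ D.Ψ g = -1 := by
  have h0 : g ^ 11 ^ 1 = 1 := by rw [pow_one, ← h, pow_orderOf_eq_one]
  have h1 := int_congr D.χ.2.isCharacter (by norm_num) h0 (D.hX g)
  have h2 := int_congr D.φ.2.isCharacter (by norm_num) h0 (D.hY g)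
  have h3 := sq_le_cc _ g (D.hX g)
  have h4 := sq_le_cc _ g (D.hY g)
  rw [(D.c11 g (h ▸ dvd_rfl)).2] at h3 h4
  rw [D.dχ] at h1; rw [D.dφ] at h2
  have := abs_le_of_sq_le_sq' (h3.trans (by norm_num : _ ≤ (4 : ℤ) ^ 2)) (by norm_num)
  have := abs_le_of_sq_le_sq' (h4.trans (by norm_num : _ ≤ (4 : ℤ) ^ 2)) (by norm_num)
  exact ⟨by omega, by omega, D.hΨ g (h ▸ dvd_rfl)⟩

omit hG in
theorem v5 {g : G} (h : orderOf g = 5) : D.X g = 1 ∧ D.Y g = 0 ∧ D.Ψ g = 2 := by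
  have h0 : g ^ 5 ^ 1 = 1 := by rw [pow_one, ← h, pow_orderOf_eq_one]
  have h5 := D.hT g (by omega)
  have h1 := int_congr D.χ.2.isCharacter (by norm_num) h0 (D.hX g)
  have h2 := int_congr D.φ.2.isCharacter (by norm_num) h0 (D.hY g)
  have h6 := int_congr D.θ.2.isCharacter (by norm_num) h0 h5.1
  have h3 := sq_le_cc _ g (D.hX g)
  have h4 := sq_le_cc _ g (D.hY g)
  have h7 := sq_le_cc _ g h5.1
  rw [(D.c5 g (h ▸ dvd_rfl)).2] at h3 h4 h7
  rw [D.dχ] at h1; rw [D.dφ] at h2; rw [D.dθ] at h6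
  have := abs_le_of_sq_le_sq' (h3.trans (by norm_num : _ ≤ (3 : ℤ) ^ 2)) (by norm_num)
  have := abs_le_of_sq_le_sq' (h4.trans (by norm_num : _ ≤ (3 : ℤ) ^ 2)) (by norm_num)
  have := abs_le_of_sq_le_sq' (h7.trans (by norm_num : _ ≤ (3 : ℤ) ^ 2)) (by norm_num)
  exact ⟨by omega, by omega, by omega⟩

theorem φ3 {g : G} (h : 3 ∣ orderOf g) : (D.φ : G → ℂ) g = 0 :=
  apply_eq_zero_of_defect_zero Nat.prime_three D.φ.2
    (fact_le (k := 2) Nat.prime_three (by rw [hG]; norm_num) (by rw [D.dφ]; norm_num)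
      (by rw [D.dφ]; norm_num)) h

theorem Y3 {g : G} (h : 3 ∣ orderOf g) : D.Y g = 0 := by
  exact_mod_cast (D.hY g).symm.trans (D.φ3 hG h)

theorem θ2 {g : G} (h : 2 ∣ orderOf g) : (D.θ : G → ℂ) g = 0 :=
  apply_eq_zero_of_defect_zero Nat.prime_two D.θ.2
    (fact_le (k := 4) Nat.prime_two (by rw [hG]; norm_num) (by rw [D.dθ]; norm_num)
      (by rw [D.dθ]; norm_num)) h

theorem Ψ2 {g : G} (h : 2 ∣ orderOf g) : D.Ψ g = 0 := by
  have h1 := D.hT g fun e => by have := D.c11 g e; omega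
  have : D.T g = 0 := by exact_mod_cast h1.1.symm.trans (D.θ2 hG h)
  rw [h1.2, this]; rfl

theorem Ψ4 {g : G} (h : g ∈ TT G 4) : D.Ψ g = 0 := D.Ψ2 hG (by have := D.ty4 hG h; omega)

theorem Ψ5 {g : G} (h : g ∈ TT G 5) : D.Ψ g = 0 := D.Ψ2 hG (by have := D.ty5 hG h; omega)

theorem pow3 {g : G} (h : g ∈ TT G 3) : g ^ 3 ^ 2 = 1 :=
  orderOf_dvd_iff_pow_eq_one.mp (by rcases D.ty3 hG h with e | e <;> rw [e] <;> norm_num)

theorem pow4 {g : G} (h : g ∈ TT G 4) : g ^ 2 ^ 4 = 1 :=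
  orderOf_dvd_iff_pow_eq_one.mp (by rcases D.ty4 hG h with e | e | e | e <;> rw [e] <;> norm_num)

theorem T3_val : (TT G 3).card = 440 ∧ ∀ g ∈ TT G 3, D.T g = -2 := by
  have h1 := D.split D.Ψ (fun g h => (D.v11 h).2.2) fun g h => (D.v5 h).2.2
  have h2 := D.split (fun g => D.Ψ g * D.Ψ g) (a := 1) (b := 4) (fun g h => by simp [(D.v11 h).2.2])
    fun g h => by simp [(D.v5 h).2.2]
  have h3 : ∀ g ∈ TT G 3, D.Ψ g = 2 * D.T g := fun g hg =>
    (D.hT g (by have := D.ty3 hG hg; omega)).2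
  rw [D.s1, sum_eq_zero fun g hg => D.Ψ4 hG hg, sum_eq_zero fun g hg => D.Ψ5 hG hg,
    sum_congr rfl h3, D.one_vals.2.2, ← mul_sum] at h1
  rw [D.s2, sum_eq_zero fun g (hg : g ∈ TT G 4) => by rw [D.Ψ4 hG hg, mul_zero],
    sum_eq_zero fun g (hg : g ∈ TT G 5) => by rw [D.Ψ5 hG hg, mul_zero],
    sum_congr rfl fun g hg => show _ = 4 * D.T g ^ 2 by rw [h3 g hg]; ring, D.one_vals.2.2,
    ← mul_sum] at h2
  have h4 : 0 ≤ ∑ g ∈ TT G 3, (D.T g ^ 2 + D.T g - 2) := sum_nonneg fun g hg => by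
    have := int_congr D.θ.2.isCharacter Nat.prime_three (D.pow3 hG hg)
      (D.hT g (by have := D.ty3 hG hg; omega)).1
    rw [D.dθ] at this
    rcases (by omega : D.T g ≤ -2 ∨ 1 ≤ D.T g) with e | e <;> nlinarith
  have h5 : ∑ g ∈ TT G 3, (D.T g + 2) ^ 2 = ∑ g ∈ TT G 3, (D.T g ^ 2 + 4 * D.T g + 4) :=
    sum_congr rfl fun g _ => by ring
  have h6 : 0 ≤ ∑ g ∈ TT G 3, (D.T g + 2) ^ 2 := sum_nonneg fun g _ => sq_nonneg _
  simp only [sum_add_distrib, sum_sub_distrib, sum_const, nsmul_eq_mul, ← mul_sum] at h4 h5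
  refine ⟨by omega, fun g hg => ?_⟩
  have := (sum_eq_zero_iff_of_nonneg fun g _ => sq_nonneg (D.T g + 2)).mp
    (show ∑ g ∈ TT G 3, (D.T g + 2) ^ 2 = 0 by omega) g hg
  have := pow_eq_zero_iff (two_ne_zero) |>.mp this
  omega

theorem θ3 {g : G} (h : g ∈ TT G 3) : (D.θ : G → ℂ) g = (-2 : ℤ) := by
  rw [(D.hT g (by have := D.ty3 hG h; omega)).1, (D.T3_val hG).2 g h]

omit D in
theorem nine_dvd {g : G} (h : g ^ 3 ^ 2 = 1) :
    ∃ P : Subgroup G, Nat.card P = 9 ∧ g ∈ P ∧ ∀ u ∈ P, Commute u g := by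
  haveI : Fact (Nat.Prime 3) := ⟨Nat.prime_three⟩
  obtain ⟨P, hP⟩ := (IsPGroup.iff_card.mpr (show ∃ n, Nat.card (zpowers g) = 3 ^ n by
    rw [Nat.card_zpowers]
    obtain ⟨k, -, e⟩ := (Nat.dvd_prime_pow Nat.prime_three).mp (orderOf_dvd_of_pow_eq_one h)
    exact ⟨k, e⟩)).exists_le_sylow
  have h1 : Nat.card P = 3 ^ 2 := by
    rw [P.card_eq_multiplicity, hG]; congr 1; decide +kernel
  have h2 := IsPGroup.isMulCommutative_of_card_eq_prime_sq h1
  exact ⟨P, h1, hP (mem_zpowers g), fun u hu =>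
    congrArg Subtype.val (h2.1.1 ⟨u, hu⟩ ⟨g, hP (mem_zpowers g)⟩)⟩

omit D hG in
theorem class_le {g : G} {i : Fin 6} (h : g ∈ TT G i) [DecidablePred (IsConj g)] :
    univ.filter (IsConj g) ⊆ TT G i := fun _ hb => mem_TT_conj (mem_filter.mp hb).2 h

omit hG in
theorem mul_mem5 {u v : G} (hu : 2 ∣ orderOf u) (h2 : u ^ 2 ^ 4 = 1) (hv : 3 ∣ orderOf v)
    (h3 : v ^ 3 ^ 2 = 1) (h : Commute u v) : u * v ∈ TT G 5 := by
  have := h.orderOf_mul_eq_mul_orderOf_of_coprime (Nat.Coprime.coprime_dvd_left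
    (orderOf_dvd_of_pow_eq_one h2) (Nat.Coprime.coprime_dvd_right (orderOf_dvd_of_pow_eq_one h3)
      (by norm_num)))
  exact D.mem5 (this ▸ hu.mul_right _) (this ▸ hv.mul_left _)

theorem cc3 {v : G} (h : v ∈ TT G 3) : cc v = 18 := by
  classical
  have h0 := D.ty3 hG h
  have h1 := D.cc_dvd144 hG (g := v) (by rcases h0 with e | e <;> rw [e] <;> norm_num)
    (by rintro rfl; simp at h0)
  obtain ⟨P, h2, -, h3⟩ := nine_dvd hG (D.pow3 hG h)
  have h4 := h2 ▸ dvd_cc h3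
  have h5 : ¬ 2 ^ 2 ∣ cc v := fun e => by
    obtain ⟨U, hU⟩ := Sylow.exists_subgroup_card_pow_prime 2 e
    set W := U.map (centralizer ({v} : Set G)).subtype
    have hW : Nat.card W = 2 ^ 2 := (card_map_of_injective (subtype_injective _)).trans hU
    have hc : ∀ u ∈ W, Commute u v := fun _ ⟨y, _, e⟩ => e ▸ mem_centralizer_singleton_iff.mp y.2
    have := card_dvd_sum D.θ.2.isCharacter W (v := v) (n := -2)
      (centralizer_le_normalizer _ fun u hu => hc u hu) (by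
        rw [Fintype.sum_eq_single 1 fun u hu => ?_, OneMemClass.coe_one, one_mul, D.θ3 hG h]
        have h6 : orderOf (u : G) ∣ 2 ^ 2 := by rw [orderOf_coe, ← hW]; exact orderOf_dvd_natCard _
        have h7 : orderOf (u : G) ≠ 1 := by simpa using hu
        have h8 : 2 ∣ orderOf (u : G) := by
          obtain ⟨k, hk, e⟩ := (Nat.dvd_prime_pow Nat.prime_two).mp h6
          interval_cases k <;> omega
        exact D.θ2 hG ((by norm_num : 2 ∣ 6).trans (D.ty5 hG (D.mul_mem5 h8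
          (orderOf_dvd_iff_pow_eq_one.mp (h6.trans (by norm_num))) (by omega) (D.pow3 hG h)
            (hc u u.2))).1))
    rw [hW] at this
    revert this; decide
  have h6 := card_filter_isConj v
  have h7 := card_le_card (class_le h)
  rw [(D.T3_val hG).1] at h7
  rcases (by decide : ∀ d ∈ Nat.divisors 144, 9 ∣ d → ¬ 2 ^ 2 ∣ d → d = 9 ∨ d = 18) _
    (Nat.mem_divisors.mpr ⟨h1, by norm_num⟩) h4 h5 with e | e
  · rw [e, hG] at h6; omega
  · exact e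

theorem conj3 {v w : G} (h : v ∈ TT G 3) (h' : w ∈ TT G 3) : IsConj v w := by
  classical
  have h6 := card_filter_isConj v
  rw [D.cc3 hG h, hG] at h6
  rw [← eq_of_subset_of_card_le (class_le h) (by rw [(D.T3_val hG).1]; omega)] at h'
  exact (mem_filter.mp h').2

omit D hG in
theorem mem3 {v : G} (h : orderOf v = 3) : v ∈ TT G 3 := by rw [mem_TT, h]; rfl

omit D hG in
theorem mem4 {v : G} (h : orderOf v = 2) : v ∈ TT G 4 := by rw [mem_TT, h]; rfl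

theorem ord3 {v : G} (h : v ∈ TT G 3) : orderOf v = 3 := by
  haveI : Fact (Nat.Prime 3) := ⟨Nat.prime_three⟩
  obtain ⟨w, hw⟩ := exists_prime_orderOf_dvd_card' (G := G) 3 (by rw [hG]; norm_num)
  rw [orderOf_isConj (D.conj3 hG h (mem3 hw)), hw]

theorem conj5 {u v g : G} (hu : orderOf u = 2) (hv : orderOf v = 3) (h : Commute u v)
    (hg : g ∈ TT G 5) : IsConj (u * v) g := by
  obtain ⟨h1, h2⟩ := D.ty5 hG hg
  have e : g = g ^ 81 * g ^ 64 := by
    rw [← pow_add, pow_succ, orderOf_dvd_iff_pow_eq_one.mp h2, one_mul]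
  have h3 : g ^ 64 ∈ TT G 3 := by
    rw [mem_TT, orderOf_pow' _ (by norm_num)]
    exact (by decide +kernel : ∀ d ∈ Nat.divisors 144, 6 ∣ d → oty (d / d.gcd 64) = 3) _
      (Nat.mem_divisors.mpr ⟨h2, by norm_num⟩) h1
  have h4 : 2 ∣ orderOf (g ^ 81) ∧ orderOf (g ^ 81) ∣ 16 := by
    rw [orderOf_pow' _ (by norm_num)]
    exact (by decide +kernel : ∀ d ∈ Nat.divisors 144, 6 ∣ d → 2 ∣ d / d.gcd 81 ∧ d / d.gcd 81 ∣ 16) _
      (Nat.mem_divisors.mpr ⟨h2, by norm_num⟩) h1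
  obtain ⟨c, hc⟩ := isConj_iff.mp (D.conj3 hG h3 (mem3 hv))
  set a := c * g ^ 81 * c⁻¹ with ha
  have h5 : Commute a v := hc ▸ ((Commute.refl g).pow_pow 81 64).conj c
  have h6 : orderOf a = orderOf (g ^ 81) := (orderOf_isConj (isConj_iff.mpr ⟨c, rfl⟩)).symm
  have h7 := orderOf_dvd_cc h5
  rw [D.cc3 hG (mem3 hv)] at h7
  have h8 : orderOf a = 2 := Nat.dvd_antisymm (Nat.dvd_gcd h7 (h6 ▸ h4.2) :) (h6 ▸ h4.1)
  let C := centralizer ({v} : Set G)
  have hC : Nat.card C = 18 := D.cc3 hG (mem3 hv)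
  have key : ∀ b : C, orderOf (b : G) = 2 → ∃ Q : Sylow 2 C, (Q : Subgroup C) = zpowers b := fun b hb =>
    ⟨Sylow.ofCard (zpowers b) (by rw [Nat.card_zpowers, ← orderOf_coe, hb, hC]; decide +kernel), rfl⟩
  obtain ⟨Q, hQ⟩ := key ⟨u, mem_centralizer_singleton_iff.mpr h⟩ hu
  obtain ⟨R, hR⟩ := key ⟨a, mem_centralizer_singleton_iff.mpr h5⟩ h8
  obtain ⟨t, rfl⟩ := MulAction.exists_smul_eq C Q R
  have h9 := (mem_smul_sylow Q t _).mp (hR ▸ mem_zpowers _)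
  rw [hQ] at h9
  have h10 : (t : G)⁻¹ * a * t = u := by
    have := H12.eq_pow_half_of_mem_zpowers (a := u) (n := 1) (by omega) (z := (t : G)⁻¹ * a * t)
      (by simpa using mem_map_of_mem C.subtype h9)
      ((orderOf_isConj (isConj_iff.mpr ⟨(t : G)⁻¹, by rw [inv_inv]⟩)).symm.trans h8)
    simpa using this
  have h11 : (t : G) * v = v * t := mem_centralizer_singleton_iff.mp t.2
  refine isConj_iff.mpr ⟨c⁻¹ * t, ?_⟩
  rw [← h10, e]
  simp only [mul_assoc, mul_inv_cancel_left, mul_inv_rev, inv_inv]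
  rw [← mul_assoc (t : G) v, h11, mul_assoc v, mul_inv_cancel_left, ← hc, ha]
  simp only [mul_assoc, inv_mul_cancel_left, inv_mul_cancel, mul_one]

end MDat

end Cfsg.Agent.H19
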