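import Cfsg.Agent.H19.M11b

/-! Simple groups of order 7920: elements of even order -/

set_option autoImplicit false

namespace Cfsg.Agent.H19

open Cfsg Cfsg.Agent.H4 Cfsg.Agent.H5 Cfsg.Agent.H6 Subgroup Finset

variable {G : Type*} [Group G] [Fintype G]

open Classical in
/-- the conjugacy class -/
noncomputable def cl (u : G) : Finset G := univ.filter (IsConj u)

theorem mem_cl {u g : G} : g ∈ cl u ↔ IsConj u g := by simp [cl]

theorem cc_mul_cl (u : G) : cc u * (cl u).card = Nat.card G := card_filter_isConj u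

theorem sum_cl {u : G} {F : G → ℤ} (h : ∀ g, IsConj u g → F g = F u) :
    ∑ g ∈ cl u, F g = (cl u).card * F u := by
  rw [sum_congr rfl fun g hg => h g (mem_cl.mp hg), sum_const, nsmul_eq_mul]

theorem int_conj {χ : IrrCharacter G} {X : G → ℤ} (hX : ∀ g, (χ : G → ℂ) g = X g) {a b : G}
    (h : IsConj a b) : X b = X a := by
  have := χ.2.isClassFunction.of_isConj h
  rw [hX, hX] at this
  exact_mod_cast this.symm

open Classical in
/-- the 2-elements outside the class of `u` -/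
noncomputable def RR (u : G) : Finset G := TT G 4 \ cl u

theorem mem_RR {u g : G} : g ∈ RR u ↔ g ∈ TT G 4 ∧ ¬ IsConj u g := by simp [RR, mem_cl]

theorem sum_RR {u : G} (hu : orderOf u = 2) (F : G → ℤ) :
    ∑ g ∈ TT G 4, F g = ∑ g ∈ RR u, F g + ∑ g ∈ cl u, F g := by
  classical
  convert (sum_sdiff fun g hg => mem_TT_conj (mem_cl.mp hg) (MDat.mem4 hu)).symm
  simp [RR]

namespace MDat
variable (D : MDat G) (hG : Nat.card G = 7920)
include D hG

omit D hG in
theorem ne_one_of_deg {χ : IrrCharacter G} (h : charDegree (χ : G → ℂ) ≠ 1) : χ ≠ irrOne G :=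
  fun e => h (by rw [e, charDegree_irrOne])

theorem sumY : ∑ g ∈ TT G 4, D.Y g = -1485 ∧ ∑ g ∈ TT G 4, D.Y g * D.Y g = 4455 := by
  have h1 := D.split D.Y (fun g h => (D.v11 h).2.1) fun g h => (D.v5 h).2.1
  have h2 := D.split (fun g => D.Y g * D.Y g) (a := 1) (b := 0) (fun g h => by simp [(D.v11 h).2.1])
    fun g h => by simp [(D.v5 h).2.1]
  have h3 : ∀ g ∈ TT G 3, D.Y g = 0 := fun g hg => D.Y3 hG (by rw [D.ord3 hG hg])
  have h5 : ∀ g ∈ TT G 5, D.Y g = 0 := fun g hg => D.Y3 hG (by have := D.ty5 hG hg; omega)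
  have h6 := sum_int_inner D.hY D.hY (n := 1) (by simp [D.φ.2.classInner_self])
  have h7 := sum_int_inner D.hY (B := fun _ => 1) (β := irrOne G) (fun _ => by simp) (n := 0) (by
    classical rw [irr_classInner, if_neg (ne_one_of_deg (by rw [D.dφ]; omega)), Int.cast_zero])
  simp only [mul_one, mul_zero] at h7
  rw [h7, sum_eq_zero h3, sum_eq_zero h5, D.one_vals.2.1] at h1
  rw [h6, sum_eq_zero fun g hg => by rw [h3 g hg, mul_zero],
    sum_eq_zero fun g (hg : g ∈ TT G 5) => by rw [h5 g hg, mul_zero], D.one_vals.2.1, hG] at h2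
  constructor <;> omega

theorem oddY {g : G} (h : g ∈ TT G 4) : 2 ∣ D.Y g - 1 := by
  have := int_congr D.φ.2.isCharacter Nat.prime_two (D.pow4 hG h) (D.hY g)
  rw [D.dφ] at this
  omega

theorem oddX {g : G} (h : g ∈ TT G 4) : 2 ∣ D.X g - 1 := by
  have := int_congr D.χ.2.isCharacter Nat.prime_two (D.pow4 hG h) (D.hX g)
  rw [D.dχ] at this
  omega

omit D hG in
theorem one_le_sq {n : ℤ} (h : 2 ∣ n - 1) : 1 ≤ n * n := by
  rcases (by omega : n ≤ -1 ∨ 1 ≤ n) with e | e <;> nlinarith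

theorem card45 : ((TT G 4).card : ℤ) + (TT G 5).card = 4455 := by
  have h1 := D.split (fun _ => 1) (fun _ _ => rfl) fun _ _ => rfl
  simp only [sum_const, nsmul_eq_mul, mul_one, (D.T3_val hG).1, card_univ,
    ← Nat.card_eq_fintype_card, hG] at h1
  omega

variable {u v : G} (hu : orderOf u = 2) (hv : orderOf v = 3) (h : Commute u v)
include hu

theorem dvdY {P : Subgroup G} (h1 : ∀ a ∈ P, a ^ 3 ^ 2 = 1) (h2 : ∀ a ∈ P, Commute a u) :
    (Nat.card P : ℤ) ∣ D.Y u := by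
  classical
  refine card_dvd_sum D.φ.2.isCharacter P (centralizer_le_normalizer _ fun a ha => h2 a ha) ?_
  rw [Fintype.sum_eq_single 1 fun a ha => ?_, OneMemClass.coe_one, one_mul, D.hY]
  have h7 : orderOf (a : G) ≠ 1 := by simpa using ha
  have h8 : 3 ∣ orderOf (a : G) := by
    obtain ⟨k, hk, e⟩ := (Nat.dvd_prime_pow Nat.prime_three).mp (orderOf_dvd_of_pow_eq_one (h1 a a.2))
    interval_cases k <;> omega
  rw [(h2 a a.2).eq]
  exact D.φ3 hG ((by norm_num : 3 ∣ 6).trans (D.ty5 hG (D.mul_mem5 (by omega) (D.pow4 hG (mem4 hu))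
    h8 (h1 a a.2) (h2 a a.2).symm)).1)

theorem boundY : ((TT G 4).card : ℤ) + (cl u).card * (D.Y u * D.Y u - 1) ≤ 4455 ∧
    (((TT G 4).card : ℤ) + (cl u).card * (D.Y u * D.Y u - 1) = 4455 →
      ∀ r ∈ RR u, D.Y r * D.Y r = 1) := by
  have h1 := sum_RR hu fun g => D.Y g * D.Y g
  have h2 := sum_RR hu fun _ => 1
  have h3 : ∀ r ∈ RR u, 1 ≤ D.Y r * D.Y r := fun r hr => one_le_sq (D.oddY hG (mem_RR.mp hr).1)
  have h4 := sum_le_sum h3
  rw [(D.sumY hG).2, sum_cl fun g hg => by rw [int_conj D.hY hg]] at h1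
  simp only [sum_const, nsmul_eq_mul, mul_one] at h2
  refine ⟨by simp only [sum_const, nsmul_eq_mul, mul_one] at h4; nlinarith, fun e r hr =>
    (eq_of_sum_le h3 ?_ r hr).symm⟩
  simp only [sum_const, nsmul_eq_mul, mul_one]
  nlinarith

include hv h

theorem TT5_eq : TT G 5 = cl (u * v) := by
  ext g
  rw [mem_cl]
  exact ⟨D.conj5 hG hu hv h, fun e => mem_TT_conj e (D.mul_mem5 (by omega) (D.pow4 hG (mem4 hu))
    (by omega) (D.pow3 hG (mem3 hv)) h)⟩

omit D hG in
theorem ord6 : orderOf (u * v) = 6 := by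
  rw [h.orderOf_mul_eq_mul_orderOf_of_coprime (by rw [hu, hv]; norm_num), hu, hv]

theorem cc6 : cc (u * v) = 6 := by
  have e4 : (u * v) ^ 4 = v := by
    rw [h.mul_pow, orderOf_dvd_iff_pow_eq_one.mp (by rw [hu]; norm_num), pow_succ, ← hv, pow_orderOf_eq_one]; simp
  have e3 : (u * v) ^ 3 = u := by
    rw [h.mul_pow, ← hv, pow_orderOf_eq_one, hv, pow_succ, ← hu, pow_orderOf_eq_one]; simp
  have h0 : centralizer {u * v} ≤ centralizer {v} := fun a ha => mem_centralizer_singleton_iff.mpr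
    (e4 ▸ Commute.pow_right (mem_centralizer_singleton_iff.mp ha) 4 :)
  have h1 : cc (u * v) ∣ 18 := D.cc3 hG (mem3 hv) ▸ card_dvd_of_le h0
  have h2 : 6 ∣ cc (u * v) := ord6 hu hv h ▸ orderOf_dvd_cc (Commute.refl _)
  refine ((by decide : ∀ d ∈ Nat.divisors 18, 6 ∣ d → d = 6 ∨ d = 18) _
    (Nat.mem_divisors.mpr ⟨h1, by norm_num⟩) h2).resolve_right fun e => ?_
  have h3 := eq_of_le_of_card_ge h0 ((D.cc3 hG (mem3 hv)).trans e.symm).le
  obtain ⟨P, h4, -, h5⟩ := nine_dvd hG (D.pow3 hG (mem3 hv))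
  have h6 := D.dvdY hG hu (P := P) (fun a ha => by
    have := pow_card_eq_one' (x := (⟨a, ha⟩ : P))
    rw [h4] at this
    exact congrArg Subtype.val this) fun a ha => by
      have : a ∈ centralizer {u * v} := h3 ▸ mem_centralizer_singleton_iff.mpr (h5 a ha)
      exact e3 ▸ Commute.pow_right (mem_centralizer_singleton_iff.mp this) 3
  have h7 := D.oddY hG (mem4 hu)
  have h8 := (D.boundY hG hu).1
  have h9 := D.card45 hG
  have h10 := cc_mul_cl (u * v)
  have h11 := cc_mul_cl u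
  have h12 := Nat.le_of_dvd (by norm_num) (D.cc_dvd144 hG (g := u) (by rw [hu]; norm_num) (by rintro rfl; simp at hu))
  rw [D.TT5_eq hG hu hv h] at h9
  rw [e, hG] at h10
  rw [h4] at h6
  have h13 : 81 ≤ D.Y u * D.Y u := by
    rcases (by omega : D.Y u ≤ -9 ∨ 9 ≤ D.Y u) with f | f <;> nlinarith
  have h14 : 55 ≤ (cl u).card := by rw [hG] at h11; nlinarith
  have h15 : (55 : ℤ) ≤ (cl u).card := by exact_mod_cast h14
  have : (cl (u * v)).card = 440 := by omega
  nlinarith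

theorem card5 : (TT G 5).card = 1320 := by
  have h10 := cc_mul_cl (u * v)
  rw [D.cc6 hG hu hv h, hG, ← D.TT5_eq hG hu hv h] at h10
  omega

theorem cc5 {g : G} (hg : g ∈ TT G 5) : cc g = 6 := by
  rw [← cc_conj (D.conj5 hG hu hv h hg), D.cc6 hG hu hv h]

theorem ccu [IsSimpleGroup G] : cc u = 48 ∧ (cl u).card = 165 ∧ D.Y u = -3 ∧ (RR u).card = 2970 ∧
    ∀ r ∈ RR u, D.Y r * D.Y r = 1 := by
  have hc : ¬ IsMulCommutative G := not_comm_of_card_not_prime (by rw [hG]; norm_num)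
  have h1 := D.cc_dvd144 hG (g := u) (by rw [hu]; norm_num) (by rintro rfl; simp at hu)
  have h2 : ¬ 3 ^ 2 ∣ cc u := fun e => by
    haveI : Fact (Nat.Prime 3) := ⟨Nat.prime_three⟩
    obtain ⟨U, hU⟩ := Sylow.exists_subgroup_card_pow_prime 3 e
    obtain ⟨a, ha⟩ := exists_prime_orderOf_dvd_card' (G := U) 3 (by rw [hU]; norm_num)
    have h3 : orderOf ((a : centralizer ({u} : Set G)) : G) = 3 := by rw [orderOf_coe, orderOf_coe, ha]
    have h4 : ∀ b : centralizer ({u} : Set G), Commute (b : G) u := fun b =>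
      mem_centralizer_singleton_iff.mp b.2
    have h5 := D.cc5 hG hu hv h (D.mul_mem5 (by omega) (D.pow4 hG (mem4 hu)) (by omega)
      (D.pow3 hG (mem3 h3)) (h4 _).symm)
    have h6 := dvd_cc (U := U.map (centralizer ({u} : Set G)).subtype) (g := u * a.1.1)
      fun _ ⟨b, hb, e⟩ => e ▸ (h4 b).mul_right (congrArg (fun z : U => z.1.1)
        ((IsPGroup.isMulCommutative_of_card_eq_prime_sq hU).1.1 ⟨b, hb⟩ a))
    rw [card_map_of_injective (subtype_injective _), hU, h5] at h6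
    omega
  have h3 := Nat.le_of_dvd (by norm_num) ((by decide : ∀ d ∈ Nat.divisors 144, ¬ 3 ^ 2 ∣ d → d ∣ 48) _
    (Nat.mem_divisors.mpr ⟨h1, by norm_num⟩) h2)
  have h6 := D.dvdY hG hu (P := zpowers v) (fun a ⟨k, e⟩ => by
    rw [← e, ← zpow_natCast, ← zpow_mul, mul_comm, zpow_mul, zpow_natCast, D.pow3 hG (mem3 hv), one_zpow])
    fun a ⟨k, e⟩ => e ▸ h.symm.zpow_left k
  have h7 := D.oddY hG (mem4 hu)
  obtain ⟨h8, h8'⟩ := D.boundY hG hu
  have h9 := D.card45 hG
  have h11 := cc_mul_cl u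
  rw [D.card5 hG hu hv h] at h9
  rw [Nat.card_zpowers, hv] at h6
  rw [hG] at h11
  have h13 : 9 ≤ D.Y u * D.Y u := by
    rcases (by omega : D.Y u ≤ -3 ∨ 3 ≤ D.Y u) with f | f <;> nlinarith
  have h14 : 165 ≤ (cl u).card := by nlinarith
  have h15 : (165 : ℤ) ≤ (cl u).card := by exact_mod_cast h14
  push_cast at h9
  have h16 : ((cl u).card : ℤ) = 165 := by
    have := mul_le_mul_of_nonneg_left (show 8 ≤ D.Y u * D.Y u - 1 by omega) (show (0 : ℤ) ≤ (cl u).card by omega)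
    omega
  have h17 : D.Y u * D.Y u = 9 := by rw [h16] at h8; omega
  have h18 : (cl u).card = 165 := by exact_mod_cast h16
  obtain ⟨k, -, -, h19⟩ := invol_val hc (ne_one_of_deg (by rw [D.dφ]; omega)) hu
  rw [D.hY, D.dφ] at h19
  have h20 : D.Y u = 45 - 4 * k := by exact_mod_cast h19
  have h21 := sum_RR hu fun _ => 1
  simp only [sum_const, nsmul_eq_mul, mul_one] at h21
  refine ⟨by rw [h18] at h11; omega, h18, ?_, by omega, h8' (by rw [h16, h17]; omega)⟩
  have : (D.Y u - 3) * (D.Y u + 3) = 0 := by linear_combination h17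
  rcases mul_eq_zero.mp this with e | e <;> omega

theorem valX [IsSimpleGroup G] : (∀ g ∈ TT G 3, D.X g = 2) ∧ D.X u = 3 ∧ (∀ g ∈ TT G 5, D.X g = 0) ∧
    ∀ r ∈ RR u, D.X r = -1 := by
  classical
  have hc : ¬ IsMulCommutative G := not_comm_of_card_not_prime (by rw [hG]; norm_num)
  obtain ⟨-, hcl, -, hR, -⟩ := D.ccu hG hu hv h
  have c3 : ∀ g ∈ TT G 3, D.X g = D.X v := fun g hg => int_conj D.hX (D.conj3 hG (mem3 hv) hg)
  have c5 : ∀ g ∈ TT G 5, D.X g = D.X (u * v) := fun g hg => int_conj D.hX (D.conj5 hG hu hv h hg)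
  have h1 := D.split (fun g => D.Ψ g * D.X g) (a := 0) (b := 2) (fun g h => by simp [D.v11 h])
    fun g h => by simp [D.v5 h]
  rw [D.s3, sum_eq_zero fun g (hg : g ∈ TT G 4) => by rw [D.Ψ4 hG hg, zero_mul],
    sum_eq_zero fun g (hg : g ∈ TT G 5) => by rw [D.Ψ5 hG hg, zero_mul],
    sum_congr rfl fun g hg => show _ = -4 * D.X v by
      rw [c3 g hg, (D.hT g (by rw [D.ord3 hG hg]; norm_num)).2, (D.T3_val hG).2 g hg]; rfl,
    sum_const, (D.T3_val hG).1, D.one_vals.2.2, D.one_vals.1] at h1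
  have hXv : D.X v = 2 := by simp only [nsmul_eq_mul] at h1; omega
  have h2 := D.split D.X (fun g h => (D.v11 h).1) fun g h => (D.v5 h).1
  have h3 := D.split (fun g => D.X g * D.X g) (a := 0) (b := 1) (fun g h => by simp [D.v11 h])
    fun g h => by simp [D.v5 h]
  have h6 := sum_int_inner D.hX D.hX (n := 1) (by simp [D.χ.2.classInner_self])
  have h7 := sum_int_inner D.hX (B := fun _ => 1) (β := irrOne G) (fun _ => by simp) (n := 0) (by
    rw [irr_classInner, if_neg (ne_one_of_deg (by rw [D.dχ]; omega)), Int.cast_zero])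
  simp only [mul_one, mul_zero] at h7
  rw [h7, sum_RR hu, sum_cl fun g hg => int_conj D.hX hg, sum_congr rfl c3, sum_congr rfl c5] at h2
  rw [h6, sum_RR hu, sum_cl fun g hg => by rw [int_conj D.hX hg],
    sum_congr rfl fun g hg => by rw [c3 g hg], sum_congr rfl fun g (hg : g ∈ TT G 5) => by rw [c5 g hg]] at h3
  simp only [sum_const, nsmul_eq_mul, (D.T3_val hG).1, D.card5 hG hu hv h, hcl, hXv, hG,
    D.one_vals.1] at h2 h3
  have h4 : ∀ r ∈ RR u, 1 ≤ D.X r * D.X r := fun r hr => one_le_sq (D.oddX hG (mem_RR.mp hr).1)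
  have h5 := sum_le_sum h4
  simp only [sum_const, nsmul_eq_mul, hR] at h5
  push_cast at h2 h3 h5
  have hu1 : u ≠ 1 := by rintro rfl; simp at hu
  have h8 := card_dvd_sum D.χ.2.isCharacter (zpowers u) (v := v) (n := D.X v + D.X (u * v))
    (centralizer_le_normalizer _ fun a ⟨k, e⟩ => e ▸ h.zpow_left k) (by
      rw [Fintype.sum_eq_add (1 : zpowers u) ⟨u, mem_zpowers u⟩ (fun e => hu1 (congrArg Subtype.val e).symm)
        fun a ha => absurd (Subtype.ext (by simpa using H12.eq_pow_half_of_mem_zpowers (n := 1) hu a.2 (by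
          have := orderOf_dvd_natCard a
          rw [Nat.card_zpowers, hu, ← orderOf_coe] at this
          exact ((Nat.dvd_prime Nat.prime_two).mp this).resolve_left (by simpa using ha.1)))) ha.2]
      simp [D.hX])
  obtain ⟨k, -, -, h19⟩ := invol_val hc (ne_one_of_deg (by rw [D.dχ]; omega)) hu
  rw [D.hX, D.dχ] at h19
  have h20 : D.X u = 11 - 4 * k := by exact_mod_cast h19
  rw [Nat.card_zpowers, hu, hXv] at h8
  have h9 := one_le_sq (D.oddX hG (mem4 hu))
  have h10 : D.X (u * v) = 0 := by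
    by_contra e
    rcases (by omega : D.X (u * v) ≤ -2 ∨ 2 ≤ D.X (u * v)) with f | f <;> nlinarith
  have h11 : D.X u ≤ 3 := by nlinarith
  have h12 : -3 ≤ D.X u := by nlinarith
  have h13 : ∀ r ∈ RR u, -1 ≤ D.X r → 0 ≤ D.X r + 1 := fun _ _ _ => by omega
  have h14 : ∑ r ∈ RR u, (D.X r + 1) ^ 2 = ∑ r ∈ RR u, (D.X r * D.X r + 2 * D.X r + 1) :=
    sum_congr rfl fun g _ => by ring
  have h15 : 0 ≤ ∑ r ∈ RR u, (D.X r + 1) ^ 2 := sum_nonneg fun g _ => sq_nonneg _
  simp only [sum_add_distrib, sum_const, nsmul_eq_mul, ← mul_sum, hR] at h14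
  have h16 : D.X u = 3 := by
    by_contra e
    have h17 : D.X u = -1 := by omega
    have h18 := card_dvd_sum D.χ.2.isCharacter (zpowers v) (v := u) (n := D.X u)
      (centralizer_le_normalizer _ fun a ⟨k, e⟩ => e ▸ h.symm.zpow_left k) (by
        rw [Fintype.sum_eq_single 1 fun a ha => ?_, OneMemClass.coe_one, one_mul, D.hX]
        have h21 := orderOf_dvd_natCard a
        rw [Nat.card_zpowers, hv, ← orderOf_coe] at h21
        have h22 := ((Nat.dvd_prime Nat.prime_three).mp h21).resolve_left (by simpa using ha)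
        have h23 : Commute (a : G) u := by obtain ⟨k, e⟩ := a.2; exact e ▸ h.symm.zpow_left k
        rw [D.hX, h23.eq, c5 _ (D.mul_mem5 (by omega) (D.pow4 hG (mem4 hu)) (by omega)
          (D.pow3 hG (mem3 h22)) h23.symm), h10, Int.cast_zero])
    rw [Nat.card_zpowers, hv] at h18
    omega
  refine ⟨fun g hg => (c3 g hg).trans hXv, h16, fun g hg => (c5 g hg).trans h10, fun r hr => ?_⟩
  rw [h16, h10] at h2 h3
  have := (sum_eq_zero_iff_of_nonneg fun g _ => sq_nonneg (D.X g + 1)).mp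
    (show ∑ g ∈ RR u, (D.X g + 1) ^ 2 = 0 by omega) r hr
  have := pow_eq_zero_iff (two_ne_zero) |>.mp this
  omega

end MDat

end Cfsg.Agent.H19
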