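import Cfsg.Agent.H19.M11c

/-! Simple groups of order 7920: Sylow 2-subgroups -/

set_option autoImplicit false

namespace Cfsg.Agent.H19

open Cfsg Cfsg.Agent.H4 Cfsg.Agent.H5 Cfsg.Agent.H6 Cfsg.Agent.H11 Subgroup Finset

variable {G : Type*} [Group G]

theorem exists_isConj_mem [Finite G] {p k : ℕ} [Fact p.Prime] (P : Sylow p G) {r : G}
    (hr : r ^ p ^ k = 1) : ∃ s ∈ (P : Subgroup G), IsConj r s := by
  obtain ⟨Q, hQ⟩ := (IsPGroup.iff_card.mpr (show ∃ n, Nat.card (zpowers r) = p ^ n by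
    rw [Nat.card_zpowers]
    obtain ⟨k, -, e⟩ := (Nat.dvd_prime_pow Fact.out).mp (orderOf_dvd_of_pow_eq_one hr)
    exact ⟨k, e⟩)).exists_le_sylow
  obtain ⟨t, rfl⟩ := MulAction.exists_smul_eq G P Q
  exact ⟨_, (mem_smul_sylow P t r).mp (hQ (mem_zpowers r)), isConj_iff.mpr ⟨t⁻¹, by rw [inv_inv]⟩⟩

theorem klein_coset {V : Subgroup G} (hV : IsKleinFour V) {v : G} (hv : v ∈ normalizer (V : Set G))
    (h3 : v ^ 3 = 1) (hc : v ∉ centralizer (V : Set G)) {w : G} (hw : w ∈ V) :
    orderOf (v * w) = 3 := by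
  haveI : Fact (Nat.Prime 3) := ⟨Nat.prime_three⟩
  have hm : ∀ a ∈ V, v * a * v⁻¹ ∈ V := fun a ha => (mem_normalizer_iff.mp hv a).mp ha
  have h4 : ∀ a, v * (v * (v * a * v⁻¹) * v⁻¹) * v⁻¹ = a := fun a => by
    rw [show v * (v * (v * a * v⁻¹) * v⁻¹) * v⁻¹ = v ^ 3 * a * (v ^ 3)⁻¹ by simp [pow_succ, mul_assoc], h3]; simp
  have key : ∀ a ∈ V, v * a * v⁻¹ = a → a = 1 := fun a ha e => by
    by_contra h1
    obtain ⟨b, hb, h2, h5⟩ := klein_exists_other hV a
    have h6 : v * b * v⁻¹ = b := by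
      rcases (klein_mem_iff hV ha hb h1 h2 h5.symm).mp (hm b hb) with f | f | f | f
      · exact absurd (conj_eq_one_iff.mp f) h2
      · exact absurd (by simpa using f.trans e.symm) h5
      · exact f
      · have f2 : v * (a * b) * v⁻¹ = b := by
          rw [show v * (a * b) * v⁻¹ = v * a * v⁻¹ * (v * b * v⁻¹) by group, e, f, ← mul_assoc,
            klein_sq hV ha, one_mul]
        have := h4 b
        rwa [f, f2] at this
    refine hc fun y hy => ?_
    rw [mul_inv_eq_iff_eq_mul] at e h6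
    rcases (klein_mem_iff hV ha hb h1 h2 h5.symm).mp hy with rfl | rfl | rfl | rfl
    · simp
    · exact e.symm
    · exact h6.symm
    · rw [mul_assoc, ← h6, ← mul_assoc, ← e, mul_assoc]
  have h1 := hm w hw
  have h2 := hm _ h1
  refine orderOf_eq_prime ?_ fun e => hc ((eq_inv_of_mul_eq_one_left e) ▸ inv_mem
    (show w ∈ centralizer (V : Set G) from fun y hy => klein_comm hV hy hw))
  rw [show (v * w) ^ 3 = v * w * v⁻¹ * (v * (v * w * v⁻¹) * v⁻¹) * (v ^ 3 * w) by simp [pow_succ, mul_assoc], h3, one_mul]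
  refine key _ (mul_mem (mul_mem h1 h2) hw) ?_
  rw [show v * (v * w * v⁻¹ * (v * (v * w * v⁻¹) * v⁻¹) * w) * v⁻¹ = v * (v * w * v⁻¹) * v⁻¹ *
    (v * (v * (v * w * v⁻¹) * v⁻¹) * v⁻¹) * (v * w * v⁻¹) by group, h4,
    klein_comm hV (mul_mem h2 hw) h1, mul_assoc (v * w * v⁻¹)]

theorem sup_ne_top_of_fix [Finite G] {χ : IrrCharacter G} (h1 : χ ≠ irrOne G) {D A B : Subgroup G}
    [Fintype D] [Fintype A] [Fintype B] (hA : D ≤ A) (hB : D ≤ B) {d a b : ℕ}
    (e1 : ∑ g : D, (χ : G → ℂ) g = Nat.card D * d) (e2 : ∑ g : A, (χ : G → ℂ) g = Nat.card A * a)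
    (e3 : ∑ g : B, (χ : G → ℂ) g = Nat.card B * b) (h : d < a + b) : A ⊔ B ≠ ⊤ := by
  haveI := Fintype.ofFinite G
  obtain ⟨χ, hχ⟩ := χ
  obtain ⟨n, ρ, -, rfl⟩ := id hχ
  have key : ∀ (H : Subgroup G) [Fintype H] (m : ℕ), ∑ g : H, ρ.character g = Nat.card H * m →
      Module.finrank ℂ (Representation.invariants (ρ.comp H.subtype)) = m := fun H _ m e => by
    have := classInner_character_one (ρ.comp H.subtype : Representation ℂ H _)
    rw [classInner_one_right] at this
    erw [e] at this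
    rw [inv_mul_cancel_left₀ natCard_ne_zero'] at this
    exact_mod_cast this.symm
  have h2 := Submodule.finrank_sup_add_finrank_inf_eq (Representation.invariants (ρ.comp A.subtype))
    (Representation.invariants (ρ.comp B.subtype))
  have h3 := Submodule.finrank_mono (show Representation.invariants (ρ.comp A.subtype) ⊔
    Representation.invariants (ρ.comp B.subtype) ≤ Representation.invariants (ρ.comp D.subtype) from
      sup_le (fun w hw g => hw ⟨g, hA g.2⟩) fun w hw g => hw ⟨g, hB g.2⟩)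
  rw [key A a e2, key B b e3] at h2
  rw [key D d e1] at h3
  intro e
  have h4 : Representation.invariants (ρ.comp A.subtype) ⊓
      Representation.invariants (ρ.comp B.subtype) ≤ ρ.invariants := fun w hw g => by
    let K : Subgroup G := ⟨⟨⟨{g | ρ g w = w}, fun {a b} ha hb => by
      simp only [Set.mem_setOf_eq, map_mul, Module.End.mul_apply] at *; rw [hb, ha]⟩, by simp⟩,
      fun {a} ha => by
        simp only [Set.mem_setOf_eq] at *
        conv_lhs => rw [← ha]
        rw [← Module.End.mul_apply, ← map_mul]; simp⟩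
    exact (show A ⊔ B ≤ K from sup_le (fun a ha => hw.1 ⟨a, ha⟩) fun a ha => hw.2 ⟨a, ha⟩)
      (e ▸ mem_top g)
  have h5 := Submodule.finrank_mono h4
  have h6 := classInner_character_one ρ
  rw [hχ.classInner_of_ne isIrrCharacter_one fun f => h1 (Subtype.ext f)] at h6
  have : Module.finrank ℂ ρ.invariants = 0 := by exact_mod_cast h6.symm
  omega

variable [Fintype G]

namespace MDat
variable (D : MDat G) (hG : Nat.card G = 7920)
include D hG

omit D in
theorem card_syl2 (P : Sylow 2 G) : Nat.card P = 16 := by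
  rw [P.card_eq_multiplicity, hG]; decide +kernel

omit D in
theorem exists_syl2 {H : Subgroup G} (h : 2 ^ 4 ∣ Nat.card H) :
    ∃ P : Sylow 2 G, (P : Subgroup G) ≤ H := by
  obtain ⟨U, hU⟩ := Sylow.exists_subgroup_card_pow_prime 2 h
  exact ⟨Sylow.ofCard (U.map H.subtype) (by
    rw [card_map_of_injective (subtype_injective _), hU, hG]; decide +kernel), map_subtype_le _⟩

theorem exists_uv : ∃ u v : G, orderOf u = 2 ∧ orderOf v = 3 ∧ Commute u v := by
  haveI : Fact (Nat.Prime 3) := ⟨Nat.prime_three⟩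
  obtain ⟨v, hv⟩ := exists_prime_orderOf_dvd_card' (G := G) 3 (by rw [hG]; norm_num)
  obtain ⟨u, hu, h⟩ := exists_of_dvd_cc (g := v) Nat.prime_two (by rw [D.cc3 hG (mem3 hv)]; norm_num)
  exact ⟨u, v, hu, hv, h⟩

variable {u v : G} (hu : orderOf u = 2) (hv : orderOf v = 3) (h : Commute u v)
include hu hv h

theorem ccR {r : G} (hr : r ∈ RR u) : cc r ∣ 16 := by
  obtain ⟨h1, h2⟩ := mem_RR.mp hr
  have h3 := D.ty4 hG h1
  refine (by decide : ∀ d ∈ Nat.divisors 144, ¬ 3 ∣ d → d ∣ 16) _ (Nat.mem_divisors.mpr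
    ⟨D.cc_dvd144 hG (by rcases h3 with e | e | e | e <;> rw [e] <;> norm_num) (by rintro rfl; simp at h3), by norm_num⟩) fun e => h2 ?_
  obtain ⟨w, hw, h4⟩ := exists_of_dvd_cc Nat.prime_three e
  have key : ∀ a b : G, a ^ 2 ^ 4 = 1 → orderOf b = 3 → Commute a b → (a * b) ^ 33 = a :=
    fun a b ha hb hab => by
      rw [hab.mul_pow, orderOf_dvd_iff_pow_eq_one.mp (show orderOf b ∣ 33 by rw [hb]; norm_num), mul_one,
        show 33 = 2 ^ 4 * 2 + 1 from rfl, pow_succ, pow_mul, ha, one_pow, one_mul]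
  have := (D.conj5 hG hu hv h (D.mul_mem5 (by omega) (D.pow4 hG h1) (by omega) (D.pow3 hG (mem3 hw))
    h4.symm)).pow 33
  rwa [key u v (D.pow4 hG (mem4 hu)) hv h, key r w (D.pow4 hG h1) hw h4.symm] at this

variable [IsSimpleGroup G]

theorem sum_ccR : ∑ r ∈ RR u, (cc r : ℤ) = 23760 := by
  obtain ⟨h1, h2, -⟩ := D.ccu hG hu hv h
  have h3 := D.split (fun g => (cc g : ℤ)) (a := 11) (b := 5)
    (fun g e => by rw [(D.c11 g (e ▸ dvd_rfl)).2]; rfl) fun g e => by rw [(D.c5 g (e ▸ dvd_rfl)).2]; rfl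
  rw [← Nat.cast_sum, D.bud, sum_RR hu, sum_cl fun g e => by rw [cc_conj e],
    sum_congr rfl fun g (hg : g ∈ TT G 3) => by rw [D.cc3 hG hg],
    sum_congr rfl fun g (hg : g ∈ TT G 5) => by rw [D.cc5 hG hu hv h hg]] at h3
  have h4 : cc (1 : G) = 7920 := by
    rw [cc, (eq_top_iff' _).mpr fun a => mem_centralizer_singleton_iff.mpr (by simp), card_top, hG]
  simp only [sum_const, nsmul_eq_mul, (D.T3_val hG).1, D.card5 hG hu hv h, h1, h2, h4] at h3
  push_cast at h3
  omega

theorem conj2 {z : G} (hz : orderOf z = 2) : IsConj u z := by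
  classical
  by_contra hn
  have hzR : z ∈ RR u := mem_RR.mpr ⟨mem4 hz, hn⟩
  have h1 : cc z = 16 := by
    have := D.inv13 z hz
    have h2 := D.ccR hG hu hv h hzR
    have := Nat.le_of_dvd (by norm_num) h2
    interval_cases (cc z) <;> omega
  obtain ⟨hcu, -, -, hR, -⟩ := D.ccu hG hu hv h
  obtain ⟨S, hS⟩ := exists_syl2 hG (H := centralizer {z}) (h1 ▸ dvd_rfl : 2 ^ 4 ∣ cc z)
  obtain ⟨Q, hQ⟩ := exists_syl2 hG (H := centralizer {u}) (hcu ▸ by norm_num : 2 ^ 4 ∣ cc u)
  obtain ⟨t, rfl⟩ := MulAction.exists_smul_eq G Q S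
  set w := t * u * t⁻¹
  have hw : ∀ a ∈ ((t • Q : Sylow 2 G) : Subgroup G), Commute a w := fun a ha => by
    simpa [mul_assoc, w] using Commute.conj (mem_centralizer_singleton_iff.mp
      (hQ ((mem_smul_sylow Q t a).mp ha))) t
  have hz' : ∀ a ∈ ((t • Q : Sylow 2 G) : Subgroup G), Commute a z := fun a ha =>
    mem_centralizer_singleton_iff.mp (hS ha)
  have huw : IsConj u w := isConj_iff.mpr ⟨t, rfl⟩
  have h2 := card_four_finset (a := w) ((orderOf_isConj huw).symm.trans hu) hz fun e => hn (e ▸ huw)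
  have h3 : ∀ r ∈ RR u, (8 : ℤ) ≤ cc r := fun r hr => by
    obtain ⟨s, hs, e⟩ := exists_isConj_mem (t • Q) (D.pow4 hG (mem_RR.mp hr).1)
    have h4 := D.ccR hG hu hv h hr
    rw [cc_conj e] at h4 ⊢
    have h5 : 5 ≤ cc s := by
      by_cases h6 : s ∈ ({1, w, z, w * z} : Finset G)
      · have := dvd_cc (g := s) (U := ((t • Q : Sylow 2 G) : Subgroup G)) fun a ha => by
          simp only [Finset.mem_insert, Finset.mem_singleton] at h6
          rcases h6 with rfl | rfl | rfl | rfl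
          exacts [Commute.one_right a, hw a ha, hz' a ha, (hw a ha).mul_right (hz' a ha)]
        rw [card_syl2 hG] at this
        exact le_trans (by norm_num) (Nat.le_of_dvd Nat.card_pos this)
      · have h7 := card_insert_of_notMem h6
        rw [h2] at h7
        rw [show 5 = 4 + 1 from rfl, ← h7, cc, Nat.card_eq_fintype_card, Fintype.card_subtype]
        refine card_le_card fun a ha => mem_filter.mpr ⟨mem_univ _, mem_centralizer_singleton_iff.mpr ?_⟩
        simp only [Finset.mem_insert, Finset.mem_singleton] at ha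
        rcases ha with rfl | rfl | rfl | rfl | rfl
        exacts [rfl, by simp, (hw s hs).symm, (hz' s hs).symm, ((hw s hs).mul_right (hz' s hs)).symm]
    have := Nat.le_of_dvd (by norm_num) h4
    interval_cases (cc s) <;> omega
  have h4 := sum_lt_sum h3 ⟨z, hzR, by rw [h1]; norm_num⟩
  rw [D.sum_ccR hG hu hv h, sum_const, hR] at h4
  norm_num at h4

theorem exists_eight : ∃ a : G, orderOf a = 8 := by
  have hc : ¬ IsMulCommutative G := not_comm_of_card_not_prime (by rw [hG]; norm_num)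
  obtain ⟨-, h1, h2, hR, h3⟩ := D.ccu hG hu hv h
  have h4 := (D.sumY hG).1
  rw [sum_RR hu, sum_cl fun g hg => int_conj D.hY hg, h1, h2] at h4
  obtain ⟨r, hr, h5⟩ : ∃ r ∈ RR u, D.Y r = -1 := by
    by_contra hn
    push Not at hn
    rw [sum_congr rfl fun r hr => (mul_self_eq_one_iff.mp (h3 r hr)).resolve_right (hn r hr),
      sum_const, hR] at h4
    norm_num at h4
  obtain ⟨h6, h7⟩ := mem_RR.mp hr
  rcases D.ty4 hG h6 with e | e | e | e
  · exact absurd (D.conj2 hG hu hv h e) h7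
  · have h8 := four_val D.φ.2.isCharacter (r := r) (by rw [← e, pow_orderOf_eq_one])
      (by rw [linear_eq_one_of_perfect (commutator_eq_top_of_simple hc) (detHom _)]; rfl)
      (D.hY r) (D.hY _)
    rw [int_conj D.hY (D.conj2 hG hu hv h (z := r ^ 2) (by rw [orderOf_pow' _ two_ne_zero, e]; rfl)),
      h2, h5, D.dφ] at h8
    omega
  · exact ⟨r, e⟩
  · exact ⟨r ^ 2, by rw [orderOf_pow' _ two_ne_zero, e]; rfl⟩

theorem exists_MC (P : Sylow 2 G) : ∃ X Y, MC (P : Subgroup G) 3 (hh 3) 0 X Y := by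
  have hc : ¬ IsMulCommutative G := not_comm_of_card_not_prime (by rw [hG]; norm_num)
  obtain ⟨a, ha⟩ := D.exists_eight hG hu hv h
  obtain ⟨b, hb, e⟩ := exists_isConj_mem (k := 3) P (r := a) (by
    rw [show 2 ^ 3 = orderOf a by omega, pow_orderOf_eq_one])
  rcases cyc_two_cases hc P hb (by rw [card_syl2 hG, ← orderOf_isConj e, ha]) with
    h1 | ⟨n, X, Y, -, h2, h3, -⟩
  · rcases GW_card h1 with ⟨q, -, -, -, h2⟩ | h2
    · have : q < 26 := by
        by_contra hn
        have h3 : 26 * (26 ^ 2 - 1) ≤ q * (q ^ 2 - 1) := Nat.mul_le_mul (by omega)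
          (Nat.sub_le_sub_right (Nat.pow_le_pow_left (by omega) 2) 1)
        omega
      interval_cases q <;> omega
    · omega
  · obtain rfl : n = 3 := by
      rw [card_syl2 hG] at h3
      exact Nat.succ_injective (Nat.pow_right_injective le_rfl (show 2 ^ (n + 1) = 2 ^ 4 from h3.symm))
    exact ⟨X, Y, h2⟩

end MDat

end Cfsg.Agent.H19
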