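import Cfsg.Agent.H19.W2

/-! Arithmetic for groups with a strongly embedded normalizer `3² : D₈` -/

set_option autoImplicit false

namespace Cfsg.Agent.H19.N9

open Finset

theorem inv {p q f r tP tQ tf tR sP sQ sf sR A B C : ℚ} (hp : p ≠ 0) (hq : q ≠ 0) (hf : f ≠ 0)
    (hr : r ≠ 0) (e0 : p + q + f + r = 0) (e1 : tP + tQ + tf + tR = 0) (e2 : sP + sQ + sf + sR = 0)
    (hA : tP * tP / p + tQ * tQ / q + tf * tf / f + tR * tR / r = A)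
    (hB : tP * sP / p + tQ * sQ / q + tf * sf / f + tR * sR / r = B)
    (hC : sP * sP / p + sQ * sQ / q + sf * sf / f + sR * sR / r = C) {x₁ x₂ y₁ y₂ : ℚ}
    (h1 : x₁ = tP / p - tf / f) (h2 : x₂ = sP / p - sf / f) (h3 : y₁ = tQ / q - tf / f)
    (h4 : y₂ = sQ / q - sf / f) :
    C * x₁ ^ 2 - 2 * B * x₁ * x₂ + A * x₂ ^ 2 = (A * C - B ^ 2) * (1 / p + 1 / f) ∧
    C * x₁ * y₁ - B * (x₁ * y₂ + x₂ * y₁) + A * x₂ * y₂ = (A * C - B ^ 2) * (1 / f) ∧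
    C * y₁ ^ 2 - 2 * B * y₁ * y₂ + A * y₂ ^ 2 = (A * C - B ^ 2) * (1 / q + 1 / f) := by
  obtain ⟨u, rfl⟩ : ∃ u, tf = f * u := ⟨tf / f, by field_simp⟩
  obtain ⟨v, rfl⟩ : ∃ v, sf = f * v := ⟨sf / f, by field_simp⟩
  obtain rfl : tP = p * (x₁ + u) := by rw [h1]; field_simp; ring
  obtain rfl : sP = p * (x₂ + v) := by rw [h2]; field_simp; ring
  obtain rfl : tQ = q * (y₁ + u) := by rw [h3]; field_simp; ring
  obtain rfl : sQ = q * (y₂ + v) := by rw [h4]; field_simp; ring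
  obtain rfl : tR = r * u - (p * x₁ + q * y₁) := by linear_combination e1 - u * e0
  obtain rfl : sR = r * v - (p * x₂ + q * y₂) := by linear_combination e2 - v * e0
  have a : A = p * x₁ * x₁ + q * y₁ * y₁ + (p * x₁ + q * y₁) * (p * x₁ + q * y₁) / r := by
    rw [← hA]; field_simp; linear_combination r * u * u * e0
  have b : B = p * x₁ * x₂ + q * y₁ * y₂ + (p * x₁ + q * y₁) * (p * x₂ + q * y₂) / r := by
    rw [← hB]; field_simp; linear_combination r * u * v * e0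
  have c : C = p * x₂ * x₂ + q * y₂ * y₂ + (p * x₂ + q * y₂) * (p * x₂ + q * y₂) / r := by
    rw [← hC]; field_simp; linear_combination r * v * v * e0
  obtain rfl : f = -(p + q + r) := by linear_combination e0
  have : p + q + r ≠ 0 := neg_ne_zero.1 hf
  rw [a, b, c]
  refine ⟨?_, ?_, ?_⟩ <;> field_simp <;> ring

theorem lin {so sa sb sc g k1 k2 k3 k4 : ℚ} (hg : g ≠ 0) (e1 : k1 * so * sa = g)
    (e2 : k2 * sb * sc = g) (e3 : k3 * so * sb = g) (e4 : k4 * sa * sc = g) :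
    k1 * so = k4 * sc ∧ k3 * so = k2 * sc ∧ so ≠ 0 :=
  ⟨mul_right_cancel₀ (right_ne_zero_of_mul (e1 ▸ hg)) (by linear_combination e1 - e4),
    mul_right_cancel₀ (right_ne_zero_of_mul (e3 ▸ hg)) (by linear_combination e3 - e2),
    right_ne_zero_of_mul (left_ne_zero_of_mul (e1 ▸ hg))⟩

theorem root {t s a b : ℚ} (h : (t - a * s) * (t - b * s) = 0) :
    ∃ r, t = r * s ∧ (r = a ∨ r = b) := by
  rcases mul_eq_zero.1 h with h | h
  exacts [⟨a, sub_eq_zero.1 h, Or.inl rfl⟩, ⟨b, sub_eq_zero.1 h, Or.inr rfl⟩]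

variable {t₀ s₀ ta sa tb sb tc sc g n₀ na nb nc : ℚ}

theorem finI (hg : g ≠ 0)
    (o1 : 2 * t₀ ^ 2 + s₀ ^ 2 = n₀) (o3 : t₀ ^ 2 + 2 * s₀ ^ 2 = n₀)
    (a1 : 2 * ta ^ 2 + sa ^ 2 = na) (a4 : ta ^ 2 + 2 * sa ^ 2 = na)
    (b2 : 2 * tb ^ 2 + sb ^ 2 = nb) (b3 : tb ^ 2 + 2 * sb ^ 2 = nb)
    (c2 : 2 * tc ^ 2 + sc ^ 2 = nc) (c4 : tc ^ 2 + 2 * sc ^ 2 = nc)
    (e1 : 2 * t₀ * ta + s₀ * sa = g) (e2 : 2 * tb * tc + sb * sc = g)
    (e3 : t₀ * tb + 2 * s₀ * sb = g) (e4 : ta * tc + 2 * sa * sc = g) : nc = n₀ := by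
  obtain ⟨r₀, rfl, h0⟩ := root (t := t₀) (s := s₀) (a := 1) (b := -1) (by linarith)
  obtain ⟨ra, rfl, ha⟩ := root (t := ta) (s := sa) (a := 1) (b := -1) (by linarith)
  obtain ⟨rb, rfl, hb⟩ := root (t := tb) (s := sb) (a := 1) (b := -1) (by linarith)
  obtain ⟨rc, rfl, hc⟩ := root (t := tc) (s := sc) (a := 1) (b := -1) (by linarith)
  obtain ⟨h1, h2, h3⟩ := lin (so := s₀) (sa := sa) (sb := sb) (sc := sc) (k1 := 2 * r₀ * ra + 1) (k2 := 2 * rb * rc + 1) (k3 := r₀ * rb + 2)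
    (k4 := ra * rc + 2) hg (by linear_combination e1) (by linear_combination e2)
    (by linear_combination e3) (by linear_combination e4)
  rw [← o1, ← c2]
  clear o1 o3 a1 a4 b2 b3 c2 c4 e1 e2 e3 e4
  rcases h0 with rfl | rfl <;> rcases ha with rfl | rfl <;> rcases hb with rfl | rfl <;>
    rcases hc with rfl | rfl <;>
    first
    | exact absurd (by linarith) h3
    | (rw [show sc = s₀ by linarith])
    | (obtain rfl : sc = -s₀ := by linarith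
       ring1)

theorem finII (hg : g ≠ 0)
    (o1 : t₀ ^ 2 + 8 * s₀ ^ 2 = 8 * n₀) (o3 : t₀ ^ 2 - 6 * t₀ * s₀ + 11 * s₀ ^ 2 = n₀)
    (a1 : ta ^ 2 + 8 * sa ^ 2 = 8 * na) (a4 : ta ^ 2 + 6 * ta * sa + 11 * sa ^ 2 = na)
    (b2 : tb ^ 2 + 2 * sb ^ 2 = 2 * nb) (b3 : tb ^ 2 - 6 * tb * sb + 11 * sb ^ 2 = nb)
    (c2 : tc ^ 2 + 2 * sc ^ 2 = 2 * nc) (c4 : tc ^ 2 + 6 * tc * sc + 11 * sc ^ 2 = nc)
    (e1 : t₀ * ta + 8 * s₀ * sa = 8 * g) (e2 : tb * tc + 2 * sb * sc = 2 * g)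
    (e3 : t₀ * tb - 3 * (t₀ * sb + s₀ * tb) + 11 * s₀ * sb = g)
    (e4 : ta * tc + 3 * (ta * sc + sa * tc) + 11 * sa * sc = g) :
    nc = n₀ ∨ 81 * nc = 17 * n₀ ∨ 1617 * nc = 17 * n₀ := by
  obtain ⟨r₀, rfl, h0⟩ := root (t := t₀) (s := s₀) (a := 4) (b := 20 / 7) (by linarith)
  obtain ⟨ra, rfl, ha⟩ := root (t := ta) (s := sa) (a := -4) (b := -20 / 7) (by linarith)
  obtain ⟨rb, rfl, hb⟩ := root (t := tb) (s := sb) (a := 2) (b := 10) (by linarith)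
  obtain ⟨rc, rfl, hc⟩ := root (t := tc) (s := sc) (a := -2) (b := -10) (by linarith)
  obtain ⟨h1, h2, h3⟩ := lin (so := s₀) (sa := sa) (sb := sb) (sc := sc) (k1 := r₀ * ra / 8 + 1) (k2 := rb * rc / 2 + 1)
    (k3 := r₀ * rb - 3 * (r₀ + rb) + 11) (k4 := ra * rc + 3 * (ra + rc) + 11) hg
    (by linear_combination e1 / 8) (by linear_combination e2 / 2)
    (by linear_combination e3) (by linear_combination e4)
  rw [← o3, ← c4]
  clear o1 o3 a1 a4 b2 b3 c2 c4 e1 e2 e3 e4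
  rcases h0 with rfl | rfl <;> rcases ha with rfl | rfl <;> rcases hb with rfl | rfl <;>
    rcases hc with rfl | rfl <;>
    first
    | exact absurd (by linarith) h3
    | (obtain rfl : sc = -s₀ := by linarith
       exact Or.inl (by ring1))
    | (obtain rfl : s₀ = -9 * sc := by linarith
       exact Or.inr (Or.inl (by ring1)))
    | (obtain rfl : s₀ = -49 * sc := by linarith
       exact Or.inr (Or.inr (by ring1)))

variable {ι : Type*} [Fintype ι] {b d : ι → ℤ}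

theorem pm4 (hd : ∀ i, 0 < d i) (h : ip b b = 4) (h0 : ip b d = 0) (i : ι) :
    -1 ≤ b i ∧ b i ≤ 1 := by
  classical
  by_contra h1
  have h2 : 4 ≤ b i * b i := by
    rcases (by omega : b i ≤ -2 ∨ 2 ≤ b i) with e | e <;> nlinarith
  rw [ip, ← add_sum_erase _ _ (mem_univ i)] at h h0
  have h3 := (sum_eq_zero_iff_of_nonneg fun j _ => mul_self_nonneg (b j)).1 (le_antisymm
    (by linarith) (sum_nonneg (s := univ.erase i) fun j _ => mul_self_nonneg (b j)))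
  rw [sum_eq_zero fun j hj => by rw [mul_self_eq_zero.1 (h3 j hj), zero_mul], add_zero] at h0
  rcases mul_eq_zero.1 h0 with e | e
  · simp [e] at h1
  · exact (hd i).ne' e

theorem sum4 (h : ip b b = 4) {i j k l : ι} (ij : i ≠ j) (ik : i ≠ k) (il : i ≠ l) (jk : j ≠ k)
    (jl : j ≠ l) (kl : k ≠ l) (hi : b i ≠ 0) (hj : b j ≠ 0) (hk : b k ≠ 0) (hl : b l ≠ 0)
    (F : ι → ℚ) : ∑ m, b m * F m = b i * F i + b j * F j + b k * F k + b l * F l := by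
  classical
  have e : ∀ F : ι → ℚ, ∑ m ∈ {i, j, k, l}, F m = F i + F j + F k + F l := fun F => by
    rw [sum_insert (by simp [*]), sum_insert (by simp [*]), sum_pair kl]; ring
  rw [← e fun m => b m * F m]
  refine (sum_subset (subset_univ _) fun m _ hm => ?_).symm
  have h1 : ∑ m ∈ insert m {i, j, k, l}, (b m * b m : ℚ) ≤ ∑ m, (b m * b m : ℚ) :=
    sum_le_sum_of_subset_of_nonneg (subset_univ _) fun _ _ _ => mul_self_nonneg _
  have h2 : ∀ m, b m ≠ 0 → (1 : ℚ) ≤ b m * b m := fun m hm => by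
    exact_mod_cast Int.add_one_le_iff.2 (mul_self_pos.2 hm)
  rw [sum_insert hm, e, show ∑ m, (b m * b m : ℚ) = 4 by exact_mod_cast h] at h1
  by_contra h3
  linarith [h2 i hi, h2 j hj, h2 k hk, h2 l hl, h2 m fun e => h3 (by simp [e])]

theorem blk (hd : ∀ i, 0 < d i) (h : ip b b = 4) (h0 : ip b d = 0) {i j k l : ι} (ij : i ≠ j)
    (ik : i ≠ k) (il : i ≠ l) (jk : j ≠ k) (jl : j ≠ l) (kl : k ≠ l) (hi : b i ≠ 0) (hj : b j ≠ 0)
    (hk : b k ≠ 0) (hl : b l ≠ 0) {T S : ι → ℚ} {A B C : ℚ} (hT : ∑ m, b m * T m = 0)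
    (hS : ∑ m, b m * S m = 0) (hA : ∑ m, b m * (T m * T m / d m) = A)
    (hB : ∑ m, b m * (T m * S m / d m) = B) (hC : ∑ m, b m * (S m * S m / d m) = C)
    {τ σ : ι → ℚ} (h1 : ∀ m, τ m = T m / d m - T k / d k) (h2 : ∀ m, σ m = S m / d m - S k / d k) :
    C * τ i ^ 2 - 2 * B * τ i * σ i + A * σ i ^ 2 =
      (A * C - B ^ 2) * (1 / (b i * d i) + 1 / (b k * d k)) ∧
    C * τ i * τ j - B * (τ i * σ j + σ i * τ j) + A * σ i * σ j =
      (A * C - B ^ 2) * (1 / (b k * d k)) ∧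
    C * τ j ^ 2 - 2 * B * τ j * σ j + A * σ j ^ 2 =
      (A * C - B ^ 2) * (1 / (b j * d j) + 1 / (b k * d k)) := by
  have s := sum4 h ij ik il jk jl kl hi hj hk hl
  have h3 : ∑ m, (b m * d m : ℚ) = 0 := by exact_mod_cast h0
  rw [s] at h3 hT hS hA hB hC
  have n : ∀ m, b m ≠ 0 → (b m : ℚ) ≠ 0 := fun m => Int.cast_ne_zero.2
  have n' : ∀ m, (d m : ℚ) ≠ 0 := fun m => Int.cast_ne_zero.2 (hd m).ne'
  have e : ∀ m, b m ≠ 0 → ∀ x y : ℚ, b m * x * (b m * y) / (b m * d m) = b m * (x * y / d m) :=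
    fun m hm x y => by have := n m hm; have := n' m; field_simp
  exact inv (mul_ne_zero (n i hi) (n' i)) (mul_ne_zero (n j hj) (n' j)) (mul_ne_zero (n k hk) (n' k))
    (mul_ne_zero (n l hl) (n' l)) h3 hT hS (by rw [e i hi, e j hj, e k hk, e l hl, hA])
    (by rw [e i hi, e j hj, e k hk, e l hl, hB]) (by rw [e i hi, e j hj, e k hk, e l hl, hC])
    (by rw [h1, mul_div_mul_left _ _ (n i hi), mul_div_mul_left _ _ (n k hk)])
    (by rw [h2, mul_div_mul_left _ _ (n i hi), mul_div_mul_left _ _ (n k hk)])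
    (by rw [h1, mul_div_mul_left _ _ (n j hj), mul_div_mul_left _ _ (n k hk)])
    (by rw [h2, mul_div_mul_left _ _ (n j hj), mul_div_mul_left _ _ (n k hk)])

/-- `± (t₁, t₂, t₃, t₄)` -/
abbrev Ty (x₁ x₂ x₃ x₄ t₁ t₂ t₃ t₄ : ℤ) : Prop :=
  (x₁ = t₁ ∧ x₂ = t₂ ∧ x₃ = t₃ ∧ x₄ = t₄) ∨ (x₁ = -t₁ ∧ x₂ = -t₂ ∧ x₃ = -t₃ ∧ x₄ = -t₄)

set_option synthInstance.maxSize 2000 in
theorem tyq {x₁ x₂ x₃ x₄ : ℤ} (h1 : -1 ≤ x₁ ∧ x₁ ≤ 1) (h2 : -1 ≤ x₂ ∧ x₂ ≤ 1)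
    (h3 : -1 ≤ x₃ ∧ x₃ ≤ 1) (h4 : -1 ≤ x₄ ∧ x₄ ≤ 1) (h5 : -1 ≤ x₁ - x₃ ∧ x₁ - x₃ ≤ 1)
    (h6 : -1 ≤ x₁ - x₄ ∧ x₁ - x₄ ≤ 1) (h7 : -1 ≤ x₂ - x₃ ∧ x₂ - x₃ ≤ 1)
    (h8 : -1 ≤ x₂ - x₄ ∧ x₂ - x₄ ≤ 1) (h9 : -1 ≤ x₁ + x₂ - x₃ - x₄ ∧ x₁ + x₂ - x₃ - x₄ ≤ 1)
    (h : (x₁ = 0 ∧ x₂ = 0 ∧ x₃ = 0 ∧ x₄ = 0) ∨ ¬ 3 ∣ x₁ + x₂ + x₃ + x₄) :
    (x₁ * x₂ ≠ 0 → Ty x₁ x₂ x₃ x₄ 1 1 1 1) ∧ (x₁ * x₄ - x₁ * x₂ ≠ 0 → Ty x₁ x₂ x₃ x₄ 1 0 0 1) ∧
    (x₂ * x₃ - x₁ * x₂ ≠ 0 → Ty x₁ x₂ x₃ x₄ 0 1 1 0) ∧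
    (x₂ * x₄ - x₁ * x₂ ≠ 0 → Ty x₁ x₂ x₃ x₄ 0 1 0 1) ∧
    (x₁ * x₁ - x₁ * x₃ - x₁ * x₄ + x₁ * x₂ ≠ 0 → Ty x₁ x₂ x₃ x₄ 1 0 0 0) ∧
    (x₂ * x₂ - x₂ * x₃ - x₂ * x₄ + x₁ * x₂ ≠ 0 → Ty x₁ x₂ x₃ x₄ 0 1 0 0) ∧
    (x₃ * x₃ - x₁ * x₃ - x₂ * x₃ + x₁ * x₂ ≠ 0 → Ty x₁ x₂ x₃ x₄ 0 0 1 0) ∧
    (x₄ * x₄ - x₁ * x₄ - x₂ * x₄ + x₁ * x₂ ≠ 0 → Ty x₁ x₂ x₃ x₄ 0 0 0 1) := by
  obtain ⟨_, _⟩ := h1
  obtain ⟨_, _⟩ := h2
  obtain ⟨_, _⟩ := h3
  obtain ⟨_, _⟩ := h4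
  interval_cases x₁ <;> interval_cases x₂ <;> interval_cases x₃ <;> interval_cases x₄ <;>
    revert h5 h6 h7 h8 h9 h <;> decide

theorem ip_sub (a b c : ι → ℤ) : ip a (b - c) = ip a b - ip a c := dotProduct_sub a b c
theorem sub_ip (a b c : ι → ℤ) : ip (a - b) c = ip a c - ip b c := sub_dotProduct a b c
theorem ip_add (a b c : ι → ℤ) : ip a (b + c) = ip a b + ip a c := dotProduct_add a b c
theorem add_ip (a b c : ι → ℤ) : ip (a + b) c = ip a c + ip b c := add_dotProduct a b c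

set_option maxHeartbeats 1600000 in
theorem d8 {b1 b2 b3 b4 : ι → ℤ} {T S : ι → ℚ} {o : ι} {κ : ℚ} (hκ : κ ≠ 0) (hd : ∀ i, 0 < d i)
    (o0 : d o = 1) (o1 : b1 o = 1) (o2 : b2 o = 0) (o3 : b3 o = 1) (o4 : b4 o = 0)
    (g11 : ip b1 b1 = 4) (g22 : ip b2 b2 = 4) (g33 : ip b3 b3 = 4) (g44 : ip b4 b4 = 4)
    (g12 : ip b1 b2 = 1) (g13 : ip b1 b3 = 2) (g14 : ip b1 b4 = 2) (g23 : ip b2 b3 = 2)
    (g24 : ip b2 b4 = 2) (g34 : ip b3 b4 = 1) (d1 : ip b1 d = 0) (d2 : ip b2 d = 0)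
    (d3 : ip b3 d = 0) (d4 : ip b4 d = 0) (h9 : ∀ i, 9 ∣ d i + 4 * (b1 i + b2 i + b3 i + b4 i))
    (h3 : ∀ i, (b1 i = 0 ∧ b2 i = 0 ∧ b3 i = 0 ∧ b4 i = 0) ∨ ¬ 3 ∣ b1 i + b2 i + b3 i + b4 i)
    (hT : ∀ j : Fin 4, ∑ m, ![b1, b2, b3, b4] j m * T m = 0)
    (hS : ∀ j : Fin 4, ∑ m, ![b1, b2, b3, b4] j m * S m = 0) {A B C : Fin 4 → ℚ}
    (hA : ∀ j : Fin 4, ∑ m, ![b1, b2, b3, b4] j m * (T m * T m / d m) = A j * κ)
    (hB : ∀ j : Fin 4, ∑ m, ![b1, b2, b3, b4] j m * (T m * S m / d m) = B j * κ)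
    (hC : ∀ j : Fin 4, ∑ m, ![b1, b2, b3, b4] j m * (S m * S m / d m) = C j * κ)
    (hK : (A = ![1 / 2, 1 / 2, 1, 1] ∧ B = ![0, 0, 0, 0] ∧ C = ![1, 1, 1 / 2, 1 / 2]) ∨
      (A = ![8, 2, 11 / 2, 11 / 2] ∧ B = ![0, 0, 3 / 2, -3 / 2] ∧ C = ![1, 1, 1 / 2, 1 / 2]) ∨
      (A = ![1 / 2, 1 / 2, 1, 1] ∧ B = ![3 / 2, -3 / 2, 0, 0] ∧ C = ![11 / 2, 11 / 2, 8, 2])) :
    ∃ i, d i = 1 ∧ b1 i = 0 := by
  have p : ∀ a : ι → ℤ, ip a a = 4 → ip a d = 0 → ∀ i, -1 ≤ a i ∧ a i ≤ 1 := fun a => pm4 hd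
  have g21 := (ip_comm _ _).trans g12
  have g31 := (ip_comm _ _).trans g13
  have g41 := (ip_comm _ _).trans g14
  have g32 := (ip_comm _ _).trans g23
  have g42 := (ip_comm _ _).trans g24
  have g43 := (ip_comm _ _).trans g34
  have ty := fun i => tyq (p b1 g11 d1 i) (p b2 g22 d2 i) (p b3 g33 d3 i) (p b4 g44 d4 i)
    (p (b1 - b3) (by simp [ip_sub, sub_ip, *]) (by simp [sub_ip, *]) i)
    (p (b1 - b4) (by simp [ip_sub, sub_ip, *]) (by simp [sub_ip, *]) i)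
    (p (b2 - b3) (by simp [ip_sub, sub_ip, *]) (by simp [sub_ip, *]) i)
    (p (b2 - b4) (by simp [ip_sub, sub_ip, *]) (by simp [sub_ip, *]) i)
    (p (b1 + b2 - b3 - b4) (by simp [ip_sub, sub_ip, ip_add, add_ip, *])
      (by simp [ip_sub, sub_ip, ip_add, add_ip, *]) i) (h3 i)
  have ex : ∀ q : ι → ℤ, ∑ i, q i = 1 → ∃ i, q i ≠ 0 := fun q e =>
    (exists_ne_zero_of_sum_ne_zero (e.trans_ne one_ne_zero)).imp fun _ h => h.2
  have u : ∀ a b : ι → ℤ, ∑ i, a i * b i = ip a b := fun _ _ => rfl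
  obtain ⟨f, hf⟩ := (ex _ g12).imp fun i => (ty i).1
  obtain ⟨a, ha⟩ := (ex _ (by simp [u, *])).imp fun i => (ty i).2.1
  obtain ⟨b, hb⟩ := (ex _ (by simp [u, *])).imp fun i => (ty i).2.2.1
  obtain ⟨c, hc⟩ := (ex _ (by simp [u, *])).imp fun i => (ty i).2.2.2.1
  obtain ⟨c1, h1⟩ := (ex _ (by simp [sum_add_distrib, u, *])).imp fun i => (ty i).2.2.2.2.1
  obtain ⟨c2, h2⟩ := (ex _ (by simp [sum_add_distrib, u, *])).imp fun i => (ty i).2.2.2.2.2.1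
  obtain ⟨c3, h3⟩ := (ex _ (by simp [sum_add_distrib, u, *])).imp fun i => (ty i).2.2.2.2.2.2.1
  obtain ⟨c4, h4⟩ := (ex _ (by simp [sum_add_distrib, u, *])).imp fun i => (ty i).2.2.2.2.2.2.2
  clear ty p
  simp only [Ty] at hf ha hb hc h1 h2 h3 h4
  have ne : ∀ {i j}, (b1 i ≠ b1 j ∨ b2 i ≠ b2 j ∨ b3 i ≠ b3 j ∨ b4 i ≠ b4 j) → i ≠ j := by
    rintro i _ h rfl; simp at h
  let τ : ι → ℚ := fun m => T m / d m - T f / d f
  let σ : ι → ℚ := fun m => S m / d m - S f / d f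
  obtain ⟨x1, y1, z1⟩ := blk hd g11 d1 (i := o) (j := a) (k := f) (l := c1) (ne (by omega))
    (ne (by omega)) (ne (by omega)) (ne (by omega)) (ne (by omega)) (ne (by omega)) (by omega)
    (by omega) (by omega) (by omega) (hT 0) (hS 0) (hA 0) (hB 0) (hC 0) (τ := τ) (σ := σ)
    (fun _ => rfl) fun _ => rfl
  obtain ⟨x2, y2, z2⟩ := blk hd g22 d2 (i := b) (j := c) (k := f) (l := c2) (ne (by omega))
    (ne (by omega)) (ne (by omega)) (ne (by omega)) (ne (by omega)) (ne (by omega)) (by omega)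
    (by omega) (by omega) (by omega) (hT 1) (hS 1) (hA 1) (hB 1) (hC 1) (τ := τ) (σ := σ)
    (fun _ => rfl) fun _ => rfl
  obtain ⟨x3, y3, z3⟩ := blk hd g33 d3 (i := o) (j := b) (k := f) (l := c3) (ne (by omega))
    (ne (by omega)) (ne (by omega)) (ne (by omega)) (ne (by omega)) (ne (by omega)) (by omega)
    (by omega) (by omega) (by omega) (hT 2) (hS 2) (hA 2) (hB 2) (hC 2) (τ := τ) (σ := σ)
    (fun _ => rfl) fun _ => rfl
  obtain ⟨x4, y4, z4⟩ := blk hd g44 d4 (i := a) (j := c) (k := f) (l := c4) (ne (by omega))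
    (ne (by omega)) (ne (by omega)) (ne (by omega)) (ne (by omega)) (ne (by omega)) (by omega)
    (by omega) (by omega) (by omega) (hT 3) (hS 3) (hA 3) (hB 3) (hC 3) (τ := τ) (σ := σ)
    (fun _ => rfl) fun _ => rfl
  clear_value τ σ
  rw [show b2 f = b1 f by omega] at x2 y2 z2
  rw [show b3 f = b1 f by omega] at x3 y3 z3
  rw [show b4 f = b1 f by omega] at x4 y4 z4
  rw [show b4 a = b1 a by omega] at x4
  rw [show b3 b = b2 b by omega] at z3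
  rw [show b4 c = b2 c by omega] at z4
  rw [show b3 o = b1 o by omega] at x3
  have hF : 9 ∣ b1 f * d f - 2 := by have := h9 f; rcases hf with e | e <;> rw [e.1] <;> omega
  have hm : 9 ∣ b2 c * d c - 1 := by have := h9 c; rcases hc with e | e <;> rw [e.2.1] <;> omega
  have hm1 : b2 c * d c = 1 → d c = 1 ∧ b1 c = 0 := fun h => by
    have := hd c; rcases hc with e | e <;> rw [e.2.1] at h <;> omega
  rw [o1, o0] at x1 x3
  rw [← Int.cast_mul] at x1 y1 z1 x2 y2 z2 x3 y3 z3 x4 y4 z4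
  rw [← Int.cast_mul] at x1 z1 x2 z2 x3 z3 x4 z4
  generalize b1 f * d f = F at *
  generalize b2 c * d c = m at *
  have F0 : (F : ℚ) ≠ 0 := Int.cast_ne_zero.2 (by omega)
  have m0 : (m : ℚ) ≠ 0 := Int.cast_ne_zero.2 (by omega)
  have hg : κ * (1 / F) ≠ 0 := mul_ne_zero hκ (one_div_ne_zero F0)
  have k := fun {x y : ℚ} => mul_left_cancel₀ (b := x) (c := y) hκ
  have fin : κ * (1 / m + 1 / F) = κ * (1 / ((1 * 1 : ℤ) : ℚ) + 1 / F) ∨
      81 * (κ * (1 / m + 1 / F)) = 17 * (κ * (1 / ((1 * 1 : ℤ) : ℚ) + 1 / F)) ∨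
      1617 * (κ * (1 / m + 1 / F)) = 17 * (κ * (1 / ((1 * 1 : ℤ) : ℚ) + 1 / F)) := by
    rcases hK with ⟨rfl, rfl, rfl⟩ | ⟨rfl, rfl, rfl⟩ | ⟨rfl, rfl, rfl⟩ <;>
      simp only [Matrix.cons_val] at x1 y1 z1 x2 y2 z2 x3 y3 z3 x4 y4 z4
    · exact Or.inl (finI (t₀ := τ o) (s₀ := σ o) (ta := τ a) (sa := σ a) (tb := τ b) (sb := σ b)
        (tc := τ c) (sc := σ c) (na := κ * (1 / ↑(b1 a * d a) + 1 / F))
        (nb := κ * (1 / ↑(b2 b * d b) + 1 / F)) hg (k (by linear_combination 2 * x1)) (k (by linear_combination 2 * x3))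
        (k (by linear_combination 2 * z1)) (k (by linear_combination 2 * x4))
        (k (by linear_combination 2 * x2)) (k (by linear_combination 2 * z3))
        (k (by linear_combination 2 * z2)) (k (by linear_combination 2 * z4))
        (k (by linear_combination 2 * y1)) (k (by linear_combination 2 * y2))
        (k (by linear_combination 2 * y3)) (k (by linear_combination 2 * y4)))
    · exact finII (t₀ := τ o) (s₀ := σ o) (ta := τ a) (sa := σ a) (tb := τ b) (sb := σ b)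
        (tc := τ c) (sc := σ c) (na := κ * (1 / ↑(b1 a * d a) + 1 / F))
        (nb := κ * (1 / ↑(b2 b * d b) + 1 / F)) hg (k (by linear_combination x1)) (k (by linear_combination 2 * x3))
        (k (by linear_combination z1)) (k (by linear_combination 2 * x4))
        (k (by linear_combination x2)) (k (by linear_combination 2 * z3))
        (k (by linear_combination z2)) (k (by linear_combination 2 * z4))
        (k (by linear_combination y1)) (k (by linear_combination y2))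
        (k (by linear_combination 2 * y3)) (k (by linear_combination 2 * y4))
    · exact finII (t₀ := σ o) (s₀ := τ o) (ta := σ b) (sa := τ b) (tb := σ a) (sb := τ a)
        (tc := σ c) (sc := τ c) (nb := κ * (1 / ↑(b1 a * d a) + 1 / F))
        (na := κ * (1 / ↑(b2 b * d b) + 1 / F)) hg (k (by linear_combination x3)) (k (by linear_combination 2 * x1))
        (k (by linear_combination z3)) (k (by linear_combination 2 * x2))
        (k (by linear_combination x4)) (k (by linear_combination 2 * z1))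
        (k (by linear_combination z4)) (k (by linear_combination 2 * z2))
        (k (by linear_combination y3)) (k (by linear_combination y4))
        (k (by linear_combination 2 * y1)) (k (by linear_combination 2 * y2))
  refine ⟨c, hm1 ?_⟩
  rcases fin with e | e | e <;> field_simp at e
  · exact_mod_cast mul_right_cancel₀ F0 (by push_cast at e; linear_combination -e : (m : ℚ) * F = 1 * F)
  all_goals
    obtain ⟨v, hv⟩ := hF
    obtain ⟨w, hw⟩ := hm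
    obtain rfl : F = 9 * v + 2 := by omega
    obtain rfl : m = 9 * w + 1 := by omega
    norm_cast at e
    ring_nf at e
    omega

end Cfsg.Agent.H19.N9
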