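import Cfsg.Agent.H6.Col
import Cfsg.Agent.H5.Exc

/-! Products of elements of order three, abelian strongly embedded Sylow 3-subgroups -/

set_option autoImplicit false

namespace Cfsg.Agent.H19

open Cfsg Cfsg.Agent.H4 Cfsg.Agent.H5 Cfsg.Agent.H6 Subgroup
open scoped ComplexConjugate

variable {G : Type*} [Group G]

theorem tri333 [Finite G] {u v : G} (hu : u ^ 3 = 1) (hv : v ^ 3 = 1) (huv : (u * v) ^ 3 = 1) :
    (∃ z, orderOf z = 3 ∧ Commute z u ∧ Commute z v) ∨ IsConj u v := by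
  obtain ⟨a, rfl⟩ : ∃ a, v = u * a := ⟨u⁻¹ * v, by group⟩
  have h1 : u * u = u⁻¹ := eq_inv_of_mul_eq_one_left (by rw [← hu, pow_three'])
  have h2 : u * a * u⁻¹ * a = a * (u * a * u⁻¹) := by
    have e1 : a * u * a = u⁻¹ * a⁻¹ * u⁻¹ := by
      rw [← mul_one (u⁻¹ * a⁻¹ * u⁻¹), ← hv]
      calc a * u * a = u⁻¹ * (u * a) ^ 3 * a⁻¹ * u⁻¹ := by simp [pow_succ, mul_assoc]
        _ = _ := by rw [hv]; group
    have e2 : a * u⁻¹ * a = u * a⁻¹ * u := by
      rw [← mul_assoc, h1] at huv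
      calc a * u⁻¹ * a = u * (u⁻¹ * a) ^ 3 * a⁻¹ * u := by simp [pow_succ, mul_assoc]
        _ = _ := by rw [huv]; group
    calc u * a * u⁻¹ * a = u * (a * u⁻¹ * a) := by group
      _ = (u * u) * a⁻¹ * u := by rw [e2]; group
      _ = (u⁻¹ * a⁻¹ * u⁻¹) * u⁻¹ := by rw [h1, mul_assoc _ u⁻¹ u⁻¹, ← mul_inv_rev u u, h1, inv_inv]
      _ = _ := by rw [← e1]; group
  have h3 : u⁻¹ * a * u = (a * (u * a * u⁻¹))⁻¹ := eq_inv_of_mul_eq_one_right (by
    calc a * (u * a * u⁻¹) * (u⁻¹ * a * u) = a * u * a * (u * u)⁻¹ * a * u := by group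
      _ = u⁻¹ * (u * a) ^ 3 * u := by rw [h1]; simp [pow_succ, mul_assoc]
      _ = 1 := by rw [hv]; group)
  have hc : ∀ k : ℕ, Commute (a ^ k) (u * a ^ k * u⁻¹) := fun k => by
    rw [← conj_pow]; exact (show Commute a (u * a * u⁻¹) from h2.symm).pow_pow k k
  have h4 : ∀ k : ℕ, u⁻¹ * (a ^ k * (u * a ^ k * u⁻¹)⁻¹) * u =
      (a ^ k * (u * a ^ k * u⁻¹)⁻¹) * (a ^ (k * 3))⁻¹ := fun k => by
    have e1 : u⁻¹ * a ^ k * u = (a ^ k * (u * a ^ k * u⁻¹))⁻¹ := by
      have := congrArg (· ^ k) h3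
      simp only [inv_pow, (show Commute a (u * a * u⁻¹) from h2.symm).mul_pow, conj_pow] at this
      rw [← this]
      simpa using (conj_pow (i := k) (a := u⁻¹) (b := a)).symm
    calc u⁻¹ * (a ^ k * (u * a ^ k * u⁻¹)⁻¹) * u = (u⁻¹ * a ^ k * u) * (a ^ k)⁻¹ := by group
      _ = _ := by
        rw [e1, (hc k).inv_right.eq, pow_mul]
        generalize a ^ k = b
        group
  by_cases hd : 3 ∣ orderOf a
  · obtain ⟨k, hk⟩ := hd
    have h5 : a ^ (k * 3) = 1 := by rw [mul_comm, ← hk, pow_orderOf_eq_one]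
    have h6 : orderOf (a ^ k) = 3 := by
      have := orderOf_pos a
      rw [orderOf_pow_of_dvd (by omega) ⟨3, by omega⟩, hk, Nat.mul_div_cancel _ (by omega)]
    have h7 := h4 k
    rw [h5, inv_one, mul_one] at h7
    have hak : Commute (u * a ^ k * u⁻¹) a := by
      rw [← conj_pow]; exact (show Commute (u * a * u⁻¹) a from h2).pow_left k
    left
    by_cases h8 : a ^ k * (u * a ^ k * u⁻¹)⁻¹ = 1
    · have h9 : Commute (a ^ k) u := by
        rw [mul_inv_eq_one, eq_mul_inv_iff_mul_eq] at h8; exact h8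
      exact ⟨_, h6, h9, h9.mul_right ((Commute.refl a).pow_left k)⟩
    · have h9 : Commute (a ^ k * (u * a ^ k * u⁻¹)⁻¹) u := by
        rw [mul_assoc u⁻¹, inv_mul_eq_iff_eq_mul] at h7; exact h7
      refine ⟨_, orderOf_eq_prime ?_ h8, h9, h9.mul_right
        (((Commute.refl a).pow_left k).mul_left hak.inv_left)⟩
      rw [(hc k).inv_right.mul_pow, inv_pow, conj_pow, ← pow_mul, h5]; simp
  · obtain ⟨k, -, hk⟩ := Nat.exists_mul_mod_eq_of_coprime 1
      (Nat.prime_three.coprime_iff_not_dvd.mpr hd) (orderOf_pos a).ne'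
    have h5 : a ^ (k * 3) = a := by rw [← pow_mod_orderOf, mul_comm, hk, pow_mod_orderOf, pow_one]
    have h7 := h4 k
    rw [h5] at h7
    refine Or.inr (isConj_iff.mpr ⟨(a ^ k * (u * a ^ k * u⁻¹)⁻¹)⁻¹, ?_⟩)
    have hak : Commute (a ^ k * (u * a ^ k * u⁻¹)⁻¹) a := ((Commute.refl a).pow_left k).mul_left (by
      rw [← conj_pow]; exact ((show Commute (u * a * u⁻¹) a from h2).pow_left k).inv_left)
    generalize a ^ k * (u * a ^ k * u⁻¹)⁻¹ = y at h7 hak
    calc y⁻¹ * u * y⁻¹⁻¹ = u * (u⁻¹ * y * u)⁻¹ * y := by group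
      _ = u * (a * y⁻¹) * y := by rw [h7]; group
      _ = _ := by group

/-- abelian Sylow subgroup whose normalizer contains the centralizers of its elements -/
structure SE {p : ℕ} (T : Sylow p G) (H : Subgroup G) : Prop where
  comm : ∀ a ∈ (T : Subgroup G), ∀ b ∈ (T : Subgroup G), a * b = b * a
  norm : normalizer ((T : Subgroup G) : Set G) = H
  cent : ∀ t ∈ (T : Subgroup G), t ≠ 1 → centralizer ({t} : Set G) ≤ H

namespace SE
variable {p : ℕ} [hp : Fact p.Prime] {T : Sylow p G} {H : Subgroup G} (h : SE T H)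
include h

theorem le : (T : Subgroup G) ≤ H := h.norm ▸ le_normalizer

theorem le_of_isPGroup {Q : Subgroup G} (hQ : IsPGroup p Q) (hH : Q ≤ H) : Q ≤ T :=
  T.3 (T.2.to_sup_of_normal_left' hQ (h.norm ▸ hH)) le_sup_left ▸ le_sup_right

theorem mem_of_order {x : G} (hx : orderOf x = p) (hH : x ∈ H) : x ∈ (T : Subgroup G) :=
  h.le_of_isPGroup (isPGroup_zpowers hp.out ⟨1, by simpa using hx⟩) (zpowers_le.mpr hH)
    (mem_zpowers x)

theorem conj_mem {g t : G} (hg : g ∈ H) (ht : t ∈ (T : Subgroup G)) :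
    g * t * g⁻¹ ∈ (T : Subgroup G) := (mem_normalizer_iff.mp (h.norm ▸ hg) t).mp ht

theorem ti [Finite G] (g : G) (hg : g ∉ H) (t : G) (ht : t ∈ ((T : Subgroup G) : Set G))
    (hc : g * t * g⁻¹ ∈ ((T : Subgroup G) : Set G)) : t = 1 := by
  by_contra h1
  have h2 : ((g • T : Sylow p G) : Subgroup G) ≤ T := h.le_of_isPGroup (g • T).2 (by
    rintro _ ⟨y, hy, rfl⟩
    refine h.cent _ hc (by simpa using h1) (mem_centralizer_singleton.mpr ?_)
    change _ * (g * y * g⁻¹) = (g * y * g⁻¹) * _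
    rw [conj_mul, conj_mul, h.comm t ht y hy])
  exact hg (h.norm ▸ Sylow.smul_eq_iff_mem_normalizer.mp (Sylow.ext ((g • T).3 T.2 h2).symm))

theorem index_mod [Finite G] : H.index % p = 1 % p :=
  h.norm ▸ T.card_eq_index_normalizer ▸ card_sylow_modEq_one p G

variable [Fintype G] {θ : H → ℂ} (hθ : IsClassFunction H θ)
  (hv : ∀ x : H, θ x ≠ 0 → orderOf (x : G) = p)
include hθ hv

theorem ind_apply (t : H) (ht : (t : G) ∈ (T : Subgroup G)) : indFun H θ t = θ t := by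
  have h0 : ∀ x : H, (x : G) ∉ (T : Subgroup G) → θ x = 0 := fun x hx =>
    by_contra fun e => hx (h.mem_of_order (hv x e) x.2)
  by_cases h1 : t = 1
  · have : θ 1 = 0 := by_contra fun e => hp.out.ne_one (by simpa using (hv 1 e).symm)
    rw [h1, OneMemClass.coe_one, indFun_one, this, mul_zero]
  · exact indFun_eq_of_TI_set H _ h.ti hθ (fun x hx _ => h0 x hx) t ht h1

theorem inner_ind [Fintype H] (ψ : H → ℂ) (hψ : ∀ x : H, ψ x ≠ 0 → orderOf (x : G) = p) :
    classInner (indFun H ψ) (indFun H θ) = classInner ψ θ :=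
  inner_indFun_indFun_of_eq H ψ θ fun t ht => h.ind_apply hθ hv t (h.mem_of_order (hψ t ht) t.2)

end SE

theorem orderOf_eq_of_ind_ne_zero [Fintype G] {H : Subgroup G} {θ : H → ℂ} {n : ℕ}
    (hv : ∀ x : H, θ x ≠ 0 → orderOf (x : G) = n) {g : G} (hg : indFun H θ g ≠ 0) :
    orderOf g = n := by
  by_contra hc
  exact hg (indFun_eq_zero_of_forall H θ fun x hx => by_contra fun e => hc
    ((orderOf_conj' x g).symm.trans (hv _ e)))

theorem SE.mem_of_mul {T : Sylow 3 G} {H : Subgroup G} [Finite G] (h : SE T H) {v w : G}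
    (h1 : orderOf v = 3) (h2 : orderOf w = 3) (hw : w ∈ (T : Subgroup G)) (hc : ¬ IsConj v w)
    (h3 : orderOf (v * w) = 3) : v ∈ (T : Subgroup G) := by
  obtain ⟨z, h4, h5, h6⟩ := (tri333 (h1 ▸ pow_orderOf_eq_one v) (h2 ▸ pow_orderOf_eq_one w)
    (h3 ▸ pow_orderOf_eq_one _)).resolve_right hc
  have h7 := h.mem_of_order h4 (h.cent w hw (by rintro rfl; simp at h2)
    (mem_centralizer_singleton.mpr h6.symm))
  exact h.mem_of_order h1 (h.cent z h7 (by rintro rfl; simp at h4) (mem_centralizer_singleton.mpr h5))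

/-- the class multiplication identity -/
theorem SE.sum_eq {T : Sylow 3 G} {H : Subgroup G} [Fintype G] [Fintype H] (h : SE T H)
    {Θ : G → ℂ} (hΘ : IsClassFunction G Θ) (hv : ∀ x, Θ x ≠ 0 → orderOf x = 3) {v w : H}
    (h1 : orderOf (v : G) = 3) (h2 : orderOf (w : G) = 3) (hc : ¬ IsConj (v : G) w) :
    Nat.card G * ∑ χ : IrrCharacter G, classInner Θ χ * ((χ : G → ℂ) v * (χ : G → ℂ) w /
      (χ : G → ℂ) 1) = ∑ t : H, Θ (t * v * t⁻¹ * w : H) := by
  classical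
  simp only [coe_mul, coe_inv]
  rw [← sum_conj_mul_eq hΘ, ← Finset.sum_subtype (Finset.univ.filter (· ∈ H)) (by simp)
    fun t : G => Θ (t * v * t⁻¹ * w), Finset.sum_filter]
  refine Finset.sum_congr rfl fun t _ => ?_
  split_ifs with ht
  · rfl
  · by_contra h3
    have h4 := h.mem_of_mul ((orderOf_conj' t v).trans h1) h2 (h.mem_of_order h2 w.2)
      (fun e => hc ((isConj_iff.mpr ⟨t, rfl⟩).trans e)) (hv _ h3)
    have := h.ti t ht v (h.mem_of_order h1 v.2) h4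
    rw [this] at h1
    simp at h1

end Cfsg.Agent.H19
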