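import Cfsg.Agent.H19.W3
import Cfsg.Agent.H19.T3
import Cfsg.Agent.H11.Invol
import Cfsg.Agent.H8.OneBlk

/-! Models `3² : D₈` and `3² : 2²` of a strongly `3`-embedded Sylow normalizer -/

set_option autoImplicit false

namespace Cfsg.Agent.H19.N9

open Cfsg Cfsg.Agent.H4 Cfsg.Agent.H6 Subgroup DihedralGroup Finset
open scoped ComplexConjugate

abbrev Z9 := ZMod 3 × ZMod 3
abbrev V := Multiplicative Z9

def act {n : ℕ} (ρ : Z9 → Z9) : DihedralGroup n → Z9 → Z9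
  | r i, v => ρ^[i.val] v
  | sr i, v => ((ρ^[i.val] v).1, -(ρ^[i.val] v).2)

def ph (n : ℕ) (ρ : Z9 → Z9) (h1 : ∀ (g h : DihedralGroup n) v, act ρ (g * h) v = act ρ g (act ρ h v))
    (h2 : ∀ v, act ρ (1 : DihedralGroup n) v = v)
    (h3 : ∀ (g : DihedralGroup n) v w, act ρ g (v + w) = act ρ g v + act ρ g w) :
    DihedralGroup n →* MulAut V :=
  MonoidHom.mk' (fun g => ⟨⟨fun v => .ofAdd (act ρ g v.toAdd), fun v => .ofAdd (act ρ g⁻¹ v.toAdd),
    fun v => by simp [← h1, h2], fun v => by simp [← h1, h2]⟩, fun v w => by simp [h3]⟩)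
    fun g h => MulEquiv.ext fun v => by simp [h1]

def ph8 := ph 4 (fun v => (-v.2, v.1)) (by decide +kernel) (by decide +kernel) (by decide +kernel)
def ph4 := ph 2 (fun v => -v) (by decide +kernel) (by decide +kernel) (by decide +kernel)
abbrev W8 := V ⋊[ph8] DihedralGroup 4
abbrev W4 := V ⋊[ph4] DihedralGroup 2
instance {n : ℕ} [NeZero n] (φ : DihedralGroup n →* MulAut V) :
    Fintype (V ⋊[φ] DihedralGroup n) := Fintype.ofEquiv _ SemidirectProduct.equivProd.symm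
def e1 : V := .ofAdd (1, 0)
def e2 : V := .ofAdd (0, 1)

variable {G : Type*} [Group G]

theorem exists_model {n : ℕ} [NeZero n] (φ : DihedralGroup n →* MulAut V) {x y R T : G}
    (hxy : Commute x y) (hx : x ^ 3 = 1) (hy : y ^ 3 = 1) (hR : R ^ n = 1) (hT : T * T = 1)
    (hTR : T * R * T⁻¹ = R⁻¹) (hn : (1 : ZMod n).val = 1)
    (h : ∀ f : V →* G, f e1 = x → f e2 = y → f (φ (r 1) e1) = R * x * R⁻¹ ∧
      f (φ (r 1) e2) = R * y * R⁻¹ ∧ f (φ (sr 0) e1) = T * x * T⁻¹ ∧ f (φ (sr 0) e2) = T * y * T⁻¹) :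
    ∃ f : V ⋊[φ] DihedralGroup n →* G, f (.inl e1) = x ∧ f (.inl e2) = y ∧ f (.inr (r 1)) = R ∧
      f (.inr (sr 0)) = T := by
  let f : V →* G := MonoidHom.mk' (fun v => x ^ v.toAdd.1.val * y ^ v.toAdd.2.val) fun v w => by
    simp only [toAdd_mul, Prod.fst_add, Prod.snd_add, H11.pow_val_add hx, H11.pow_val_add hy]
    exact (hxy.pow_pow _ _).mul_mul_mul_comm _ _
  have f1 : f e1 = x := by simp [f, e1, ZMod.val_one]
  have f2 : f e2 = y := by simp [f, e2, ZMod.val_one]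
  let θ := H11.dihedralHom hR hTR hT
  have t1 : θ (r 1) = R := by simp [θ, H11.dihedralHom, hn]
  have t2 : θ (sr 0) = T := by simp [θ, H11.dihedralHom]
  obtain ⟨h1, h2, h3, h4⟩ := h f f1 f2
  have k : ∀ g, f (φ g e1) = θ g * x * (θ g)⁻¹ → f (φ g e2) = θ g * y * (θ g)⁻¹ →
      ∀ v, f (φ g v) = θ g * f v * (θ g)⁻¹ := fun g a b v => by
    rw [(by decide : ∀ v : V, v = e1 ^ v.toAdd.1.val * e2 ^ v.toAdd.2.val) v]
    simp only [map_mul, map_pow, a, b, f1, f2, conj_pow, conj_mul]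
  have k1 : ∀ (m : ℕ) v, f (φ (r m) v) = θ (r m) * f v * (θ (r m))⁻¹ := fun m => by
    induction m with
    | zero => simp [← one_def]
    | succ m ih =>
      intro v
      rw [Nat.cast_succ, add_comm, ← r_mul_r, map_mul, MulAut.mul_apply, k _ (t1 ▸ h1) (t1 ▸ h2), ih,
        map_mul]
      group
  refine ⟨SemidirectProduct.lift f θ fun g => MonoidHom.ext fun v => ?_, by simpa, by simpa,
    by simpa, by simpa⟩
  change f (φ g v) = θ g * f v * (θ g)⁻¹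
  rcases g with i | i
  · simpa using k1 i.val v
  · rw [show sr i = sr 0 * r (i.val : ℕ) by simp, map_mul, MulAut.mul_apply, k _ (t2 ▸ h3) (t2 ▸ h4),
      k1, map_mul]
    group

variable [Finite G] {P : Sylow 3 G} {W : Type*} [Group W] {f : W →* G}

theorem mem3 {w u : G} (hw : w ^ 3 = 1) (h : u ∈ zpowers w) : u = 1 ∨ u = w ∨ u = w⁻¹ := by
  obtain ⟨k, rfl⟩ := mem_powers_iff_mem_zpowers.2 h
  change w ^ k = _ ∨ w ^ k = _ ∨ w ^ k = _
  rw [pow_eq_pow_mod k hw, ← eq_inv_of_mul_eq_one_left (show w ^ 2 * w = 1 by rw [← pow_succ, hw])]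
  have : k % 3 < 3 := Nat.mod_lt _ (by decide)
  interval_cases k % 3 <;> simp

theorem sub9 {Q H : Subgroup G} (hQ : Nat.card Q = 9) (hH : H ≤ Q) {a b : G} (ha : a ∈ H)
    (hb : b ∈ H) (h3 : a ^ 3 = 1) (h1 : a ≠ 1) (hab : b ∉ zpowers a) : H = Q := by
  have k1 : Nat.card (zpowers a) = 3 := (Nat.card_zpowers a).trans (orderOf_eq_prime h3 h1)
  have k2 := card_dvd_of_le (zpowers_le.2 ha)
  have k3 := card_dvd_of_le hH
  have k4 : Nat.card H ≠ 3 := fun e =>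
    hab (eq_of_le_of_card_ge (zpowers_le.2 ha) (by omega) ▸ hb)
  rw [hQ] at k3
  have := Nat.le_of_dvd (by decide) k3
  refine eq_of_le_of_card_ge hH ?_
  rw [k1] at k2
  rw [hQ]
  interval_cases Nat.card H <;> omega

/-- `f` is an isomorphism onto the strongly embedded normalizer of `P` -/
structure Md (P : Sylow 3 G) (f : W →* G) : Prop where
  inj : Function.Injective f
  se : SE P f.range
  cent : centralizer ((P : Subgroup G) : Set G) ≤ P
  card : Nat.card P = 9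

namespace Md
variable (h : Md P f)
include h

theorem memP {m : W} (h3 : m ^ 3 = 1) (h1 : m ≠ 1) : f m ∈ (P : Subgroup G) :=
  h.se.mem_of_order ((orderOf_injective f h.inj m).trans (orderOf_eq_prime h3 h1)) ⟨m, rfl⟩

theorem ti {g : G} {m m' : W} (k : ℕ) (h3 : (m ^ k) ^ 3 = 1 ∧ m ^ k ≠ 1)
    (e : g * f m * g⁻¹ = f m') : ∃ n, f n = g := by
  have e' : g * f (m ^ k) * g⁻¹ = f (m' ^ k) := by rw [map_pow, ← conj_pow, e, map_pow]
  by_contra hg
  refine h3.2 (h.inj ((h.se.ti g hg _ (h.memP h3.1 h3.2) ?_).trans f.map_one.symm))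
  refine h.se.mem_of_order ?_ (e' ▸ ⟨_, rfl⟩)
  rw [orderOf_conj', orderOf_injective f h.inj, orderOf_eq_prime h3.1 h3.2]

theorem isConj_iff {m m' : W} (k : ℕ) (h3 : (m ^ k) ^ 3 = 1 ∧ m ^ k ≠ 1) :
    IsConj (f m) (f m') ↔ ∃ n, n * m * n⁻¹ = m' := by
  refine ⟨fun c => ?_, fun ⟨n, e⟩ => f.map_isConj (_root_.isConj_iff.2 ⟨n, e⟩)⟩
  obtain ⟨g, hg⟩ := _root_.isConj_iff.1 c
  obtain ⟨n, rfl⟩ := h.ti k h3 hg
  exact ⟨n, h.inj (by rwa [map_mul, map_mul, map_inv])⟩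

theorem cc_eq [Fintype W] [DecidableEq W] {m : W} (k : ℕ) (h3 : (m ^ k) ^ 3 = 1 ∧ m ^ k ≠ 1) :
    cc (f m) = (univ.filter fun n : W => n * m = m * n).card := by
  rw [← Fintype.card_subtype, ← Nat.card_eq_fintype_card]
  refine (Nat.card_congr (Equiv.ofBijective (fun n => ⟨f n.1, mem_centralizer_singleton_iff.2
    (by rw [← map_mul, n.2, map_mul])⟩) ⟨fun a b e => Subtype.ext (h.inj (congrArg (·.1) e)),
    fun ⟨g, hg⟩ => ?_⟩)).symm
  have hg' := mem_centralizer_singleton_iff.1 hg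
  obtain ⟨n, rfl⟩ := h.ti k h3 (mul_inv_eq_iff_eq_mul.2 hg')
  exact ⟨⟨n, h.inj (by rwa [map_mul, map_mul])⟩, rfl⟩

theorem pairs [Fintype W] {u v : G} {m : W} (p q : W → Prop) [DecidablePred p] [DecidablePred q]
    (hp : ∀ a, IsConj u (f a) ↔ p a) (hq : ∀ a, IsConj v (f a) ↔ q a)
    (hr : ∀ a b, IsConj u a → IsConj v b → a * b = f m → ∃ n, f n = a) :
    ∑ χ : IrrCharacter G, (χ : G → ℂ) u * (χ : G → ℂ) v * conj ((χ : G → ℂ) (f m)) /
      (χ : G → ℂ) 1 = (univ.filter fun a => p a ∧ q (a⁻¹ * m)).card * (cc u * cc v / Nat.card G) := by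
  have e := card_class_mul_eq u v (f m)
  have e1 : Nat.card {p : G × G // IsConj u p.1 ∧ IsConj v p.2 ∧ p.1 * p.2 = f m} =
      (univ.filter fun a => p a ∧ q (a⁻¹ * m)).card := by
    rw [← Fintype.card_subtype, ← Nat.card_eq_fintype_card]
    refine (Nat.card_congr (Equiv.ofBijective (fun a => ⟨(f a.1, f (a.1⁻¹ * m)), (hp _).2 a.2.1,
      (hq _).2 a.2.2, by rw [← map_mul, mul_inv_cancel_left]⟩)
      ⟨fun a b e => Subtype.ext (h.inj (congrArg (·.1.1) e)), fun ⟨⟨a, b⟩, h1, h2, h3⟩ => ?_⟩)).symm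
    obtain ⟨a, rfl⟩ := hr a b h1 h2 h3
    have e' : f (a⁻¹ * m) = b := by rw [map_mul, ← h3, map_inv, inv_mul_cancel_left]
    exact ⟨⟨a, (hp _).1 h1, (hq _).1 (e' ▸ h2)⟩, Subtype.ext (Prod.ext rfl e')⟩
  have c : ∀ g : G, ((centralizer {g}).index : ℂ) * cc g = Nat.card G := fun g => by
    exact_mod_cast index_mul_card _
  have N0 := natCard_ne_zero' (G := G)
  rw [e1] at e
  rw [e]
  field_simp
  rw [sq]
  nth_rewrite 1 [← c u]
  rw [← c v]
  ring

theorem invol {u v : G} (hu : u * u = 1) (hv : v * v = 1) {m : W} (k : ℕ)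
    (h3 : (m ^ k) ^ 3 = 1 ∧ m ^ k ≠ 1) (a b : G) (ha : IsConj u a) (hb : IsConj v b)
    (e : a * b = f m) : ∃ n, f n = a := by
  obtain ⟨c, rfl⟩ := _root_.isConj_iff.1 ha
  obtain ⟨d, rfl⟩ := _root_.isConj_iff.1 hb
  refine h.ti k h3 (m' := m⁻¹) ?_
  rw [map_inv, ← e, ← mul_assoc, conj_mul, hu, mul_one, mul_inv_cancel, one_mul, mul_inv_rev (c * _ * _),
    inv_eq_of_mul_eq_one_left (show d * v * d⁻¹ * (d * v * d⁻¹) = 1 by rw [conj_mul, hv]; simp)]

theorem three {u v : G} (hu : u ^ 3 = 1) (hv : v ^ 3 = 1) (huv : ¬ IsConj u v) {m : W}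
    (h3 : m ^ 3 = 1 ∧ m ≠ 1) (a b : G) (ha : IsConj u a) (hb : IsConj v b)
    (e : a * b = f m) : ∃ n, f n = a := by
  have k : ∀ {u a : G}, u ^ 3 = 1 → IsConj u a → a ^ 3 = 1 := fun hu ha => by
    obtain ⟨c, rfl⟩ := _root_.isConj_iff.1 ha
    rw [conj_pow, hu]; simp
  obtain ⟨z, h1, h2, h4⟩ := (tri333 (k hu ha) (k hv hb) (by rw [e, ← map_pow, h3.1, map_one])
    ).resolve_right fun c => huv (ha.trans (c.trans hb.symm))
  obtain ⟨z, rfl⟩ := h.ti 1 (by simpa using h3) (m' := m)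
    (mul_inv_eq_iff_eq_mul.2 (e ▸ (h2.mul_right h4).eq))
  rw [orderOf_injective f h.inj, orderOf_eq_prime_iff] at h1
  exact h.ti 1 (by simpa using h1) (m' := z) (mul_inv_eq_iff_eq_mul.2 h2.symm.eq)

theorem fact : (Nat.card G).factorization 3 = 2 :=
  Nat.pow_right_injective (show 2 ≤ 3 by decide) (P.card_eq_multiplicity.symm.trans h.card)

theorem dich (χ : IrrCharacter G) : (∀ u ∈ (P : Subgroup G), u ≠ 1 → (χ : G → ℂ) u = 0) ∨
    ¬ 3 ∣ charDegree (χ : G → ℂ) := by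
  haveI := Fintype.ofFinite G
  obtain ⟨M, hM⟩ := exists_isPModular Nat.prime_three
  haveI := hM.2.1
  by_cases h1 : χ ∈ principalBlock M G
  · refine Or.inr fun h2 => ?_
    have h3 := H8.height_add_two_le hM (isPBlock_blockOf (irrOne G)) h1
    have h4 := Nat.prime_three.factorization_pos_of_dvd χ.2.charDegree_pos.ne' h2
    erw [H8.height_principal hM, H8.defect_principal hM, h.fact] at h3
    omega
  · refine Or.inl fun u hu h0 => H8.apply_eq_zero_of_not_mem_principal hM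
      (exists_orderOf_eq_of_mem Nat.prime_three P.2 hu) P.2
      (fun a ha => mem_centralizer_singleton_iff.2 (h.se.comm a ha u hu))
      (fun c hc q hq => h.se.conj_mem (h.se.cent u hu h0 hc) hq) (fun y _ h2 h3 h4 => h3 ?_) h1
    obtain ⟨k, hk⟩ := exists_orderOf_eq_of_mem Nat.prime_three P.2
      (h.cent fun a ha => mem_centralizer_singleton_iff.1 (h4 ha))
    exact (Nat.prime_dvd_prime_iff_eq h2 Nat.prime_three).1 (h2.dvd_of_dvd_pow hk.dvd)

theorem comm3 {Q : Subgroup G} (hQ : IsPGroup 3 Q) {a b : G} (ha : a ∈ Q) (hb : b ∈ Q) :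
    a * b = b * a := by
  obtain ⟨R, hR⟩ := hQ.exists_le_sylow
  obtain ⟨c, rfl⟩ := MulAction.exists_smul_eq G P R
  obtain ⟨a, h1, rfl⟩ := hR ha
  obtain ⟨b, h2, rfl⟩ := hR hb
  change c * a * c⁻¹ * (c * b * c⁻¹) = c * b * c⁻¹ * (c * a * c⁻¹)
  rw [conj_mul, conj_mul, h.se.comm a h1 b h2]

theorem index9 (he : ∀ m ∈ (P : Subgroup G), m ^ 3 = 1) : f.range.index % 9 = 1 := by
  obtain ⟨k, hk⟩ := ((isCharacter_perm (G := G) (G ⧸ f.range)).isGen.sub isGen_one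
    ).exists_int_of_vanishing P fun g hg h1 => by
      rw [Pi.sub_apply, sub_eq_zero, Nat.cast_eq_one, Nat.card_eq_one_iff_exists]
      refine ⟨⟨(1 : G), QuotientGroup.eq.2 (by simpa using h.se.le hg)⟩, fun ⟨q, hq⟩ => ?_⟩
      obtain ⟨c, rfl⟩ := QuotientGroup.mk_surjective q
      have h2 : c⁻¹ * g⁻¹ * c⁻¹⁻¹ ∈ f.range := by simpa [mul_assoc] using QuotientGroup.eq.1 hq
      refine Subtype.ext (QuotientGroup.eq.2 (by_contra fun h3 => h1 (inv_eq_one.1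
        (h.se.ti c⁻¹ (by simpa using h3) _ (inv_mem hg) (h.se.mem_of_order ?_ h2)))))
      rw [orderOf_conj', orderOf_inv, orderOf_eq_prime (he g hg) h1]
  simp only [Pi.sub_apply, MulAction.fixedBy_one_eq_univ, Nat.card_coe_set_eq, Set.ncard_univ,
    h.card] at hk
  have : (f.range.index : ℤ) - 1 = 9 * k := by exact_mod_cast hk
  omega

end Md

variable {χ : G → ℂ}

theorem val2 (hχ : IsCharacter G χ) {g : G} (hg : g ^ 2 = 1) :
    ∃ k : ℤ, χ g = (charDegree χ - 2 * k : ℤ) := by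
  obtain ⟨k, hk⟩ := eig_mult hχ hg (ζ := -1) (by simp)
  simp only [sum_range_succ, sum_range_zero, pow_zero, pow_one, ← hχ.charDegree_cast] at hk
  exact ⟨k, by push_cast at hk ⊢; linear_combination -hk⟩

theorem val3 (hχ : IsCharacter G χ) {g : G} (hg : g ^ 3 = 1) (h : IsConj g (g ^ 2)) :
    ∃ k : ℤ, χ g = (charDegree χ - 3 * k : ℤ) := by
  obtain ⟨ω, h1, h2⟩ := exists_prime_root Nat.prime_three
  have h3 : ω ^ 2 + ω + 1 = 0 := mul_left_cancel₀ (sub_ne_zero.2 h2) (by linear_combination h1)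
  obtain ⟨k, hk⟩ := eig_mult hχ hg h1
  simp only [sum_range_succ, sum_range_zero, pow_zero, pow_one, ← hχ.charDegree_cast,
    ← hχ.isClassFunction.of_isConj h] at hk
  exact ⟨k, by push_cast at hk ⊢; linear_combination -hk + χ g * h3⟩

theorem val6 (hχ : IsCharacter G χ) {g : G} (hg : g ^ 6 = 1) (h : IsConj g (g ^ 5)) :
    ∃ k : ℤ, χ g = 6 * k - charDegree χ + χ (g ^ 3) + χ (g ^ 2) := by
  obtain ⟨ω, h1, h2⟩ := exists_prime_root Nat.prime_three
  have h3 : ω ^ 2 + ω + 1 = 0 := mul_left_cancel₀ (sub_ne_zero.2 h2) (by linear_combination h1)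
  obtain ⟨k, hk⟩ := eig_mult hχ hg (ζ := -ω) (by linear_combination (ω ^ 3 + 1) * h1)
  have h4 : IsConj (g ^ 2) (g ^ 4) := by
    have := h.pow 2
    rwa [← pow_mul, pow_eq_pow_mod (5 * 2) hg] at this
  simp only [sum_range_succ, sum_range_zero, pow_zero, pow_one, ← hχ.charDegree_cast,
    ← hχ.isClassFunction.of_isConj h, ← hχ.isClassFunction.of_isConj h4] at hk
  refine ⟨k, ?_⟩
  push_cast at hk
  linear_combination hk + (χ g + χ (g ^ 2) * -1) * h3 +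
    (χ (g ^ 3) - χ (g ^ 2) * ω + χ g * ω ^ 2) * h1

end Cfsg.Agent.H19.N9
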