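import Cfsg.Agent.H19.N9a
import Cfsg.Agent.H19.N9b

/-! Strongly `3`-embedded Sylow normalizer `3² : 2²` -/

set_option autoImplicit false
set_option synthInstance.maxSize 1000

namespace Cfsg.Agent.H19.N9

open Cfsg Cfsg.Agent.H4 Cfsg.Agent.H6 Subgroup DihedralGroup Finset
open scoped ComplexConjugate

variable {G : Type*} [Group G] [Finite G] {P : Sylow 3 G}

theorem ip_smul {ι : Type*} [Fintype ι] (n : ℤ) (a b : ι → ℤ) : ip a (n • b) = n * ip a b :=
  dotProduct_smul n a b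
theorem smul_ip {ι : Type*} [Fintype ι] (n : ℤ) (a b : ι → ℤ) : ip (n • a) b = n * ip a b :=
  smul_dotProduct n a b

theorem col {g h : G} {a b : IrrCharacter G → ℤ} (ha : ∀ χ : IrrCharacter G, (χ : G → ℂ) g = a χ)
    (hb : ∀ χ : IrrCharacter G, (χ : G → ℂ) h = b χ) (e : ¬ IsConj g h) : ip a b = 0 := by
  have := column_orthogonality_of_not_isConj e
  simp only [ha, hb, map_intCast] at this
  exact_mod_cast (ip_cast _ _).trans this

theorem col' {g : G} {a : IrrCharacter G → ℤ} (ha : ∀ χ : IrrCharacter G, (χ : G → ℂ) g = a χ)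
    {n : ℕ} (e : cc g = n) : ip a a = n := by
  have := column_orthogonality_of_isConj (IsConj.refl g)
  simp only [ha, map_intCast] at this
  exact_mod_cast ((ip_cast _ _).trans this).trans (congrArg Nat.cast e)

theorem fin4 {d z e n : ℤ} (hd : 0 < d) (hn : 0 < n) (he : e = 1 ∨ e = -1)
    (h : -9 * z * e * n = 162 * d) (h' : d * d ≤ n) : n ≤ 324 := by
  have : n ≤ 18 * d := by
    rcases he with rfl | rfl <;> rcases lt_trichotomy z 0 with l | l | l <;> nlinarith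
  nlinarith

theorem Md.pairs3 {W : Type*} [Group W] [Fintype W] [DecidableEq W] {f : W →* G} (h : Md P f)
    (u v m : W) (n : ℕ) (hu : (u ^ 1) ^ 3 = 1 ∧ u ^ 1 ≠ 1) (hv : (v ^ 1) ^ 3 = 1 ∧ v ^ 1 ≠ 1)
    (huv : ¬ IsConj (f u) (f v)) (hm : m ^ 3 = 1 ∧ m ≠ 1)
    (e : (univ.filter fun a => (∃ n, n * u * n⁻¹ = a) ∧ ∃ n, n * v * n⁻¹ = a⁻¹ * m).card = n) :
    ∑ χ : IrrCharacter G, (χ : G → ℂ) (f u) * (χ : G → ℂ) (f v) * conj ((χ : G → ℂ) (f m)) /
      (χ : G → ℂ) 1 = n * (cc (f u) * cc (f v) / Nat.card G) := by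
  subst e
  exact h.pairs (fun a => ∃ n, n * u * n⁻¹ = a) (fun a => ∃ n, n * v * n⁻¹ = a)
    (fun _ => h.isConj_iff 1 hu) (fun _ => h.isConj_iff 1 hv) (h.three
      (by rw [← map_pow, ← pow_one u, hu.1, map_one]) (by rw [← map_pow, ← pow_one v, hv.1, map_one])
      huv hm)

theorem Md.v4 {f : W4 →* G} (h : Md P f) (he : ∀ m ∈ (P : Subgroup G), m ^ 3 = 1) :
    f.range = ⊤ := by
  classical
  let x : W4 := .inl e1
  let y : W4 := .inl e2
  have v : ∀ m : W4, m ^ 3 = 1 → (∃ n, n * m * n⁻¹ = m ^ 2) → ∀ χ : IrrCharacter G,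
      ∃ k : ℤ, (χ : G → ℂ) (f m) = (charDegree (χ : G → ℂ) - 3 * k : ℤ) := fun m h1 h2 χ =>
    val3 χ.2.isCharacter (by rw [← map_pow, h1, map_one])
      (map_pow f m 2 ▸ f.map_isConj (_root_.isConj_iff.2 h2))
  choose k1 h1 using v x (by decide +kernel) (by decide +kernel)
  choose k2 h2 using v y (by decide +kernel) (by decide +kernel)
  choose k3 h3 using v (x * y) (by decide +kernel) (by decide +kernel)
  set d : IrrCharacter G → ℤ := fun χ => charDegree (χ : G → ℂ)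
  have h0 : ∀ χ : IrrCharacter G, (χ : G → ℂ) (f 1) = d χ := fun χ => by
    rw [map_one, ← χ.2.isCharacter.charDegree_cast]; simp [d]
  have hd : ∀ χ, 0 < d χ := fun χ => Int.natCast_pos.2 χ.2.charDegree_pos
  have c : ∀ m m' : W4, ((m ^ 1) ^ 3 = 1 ∧ m ^ 1 ≠ 1) ∧ (¬ ∃ n, n * m * n⁻¹ = m') →
      ¬ IsConj (f m) (f m') := fun m m' e => mt (h.isConj_iff 1 e.1).1 e.2
  have cx : cc (f x) = 18 := (h.cc_eq 1 (by decide +kernel)).trans (by decide +kernel)
  have cy : cc (f y) = 18 := (h.cc_eq 1 (by decide +kernel)).trans (by decide +kernel)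
  have cw : cc (f (x * y)) = 9 := (h.cc_eq 1 (by decide +kernel)).trans (by decide +kernel)
  have nxy := c x y (by decide +kernel)
  have nxw := c x (x * y) (by decide +kernel)
  have p11 := col' h1 cx
  have p22 := col' h2 cy
  have p33 := col' h3 cw
  have p00 := col' h0 (show _ = Nat.card G by simp [cc])
  have p12 := col h1 h2 nxy
  have p13 := col h1 h3 nxw
  have p23 := col h2 h3 (c _ _ (by decide +kernel))
  have p10 := col h1 h0 (c _ _ (by decide +kernel))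
  have p20 := col h2 h0 (c _ _ (by decide +kernel))
  have p30 := col h3 h0 (c _ _ (by decide +kernel))
  change ip (d - (3 : ℤ) • k1) (d - (3 : ℤ) • k1) = _ at p11
  change ip (d - (3 : ℤ) • k2) (d - (3 : ℤ) • k2) = _ at p22
  change ip (d - (3 : ℤ) • k3) (d - (3 : ℤ) • k3) = _ at p33
  change ip (d - (3 : ℤ) • k1) (d - (3 : ℤ) • k2) = _ at p12
  change ip (d - (3 : ℤ) • k1) (d - (3 : ℤ) • k3) = _ at p13
  change ip (d - (3 : ℤ) • k2) (d - (3 : ℤ) • k3) = _ at p23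
  change ip (d - (3 : ℤ) • k1) d = _ at p10
  change ip (d - (3 : ℤ) • k2) d = _ at p20
  change ip (d - (3 : ℤ) • k3) d = _ at p30
  have s := fun a b : IrrCharacter G → ℤ => ip_comm a b
  simp only [ip_sub, sub_ip, ip_smul, smul_ip, s d k1, s d k2, s d k3]
    at p11 p22 p33 p12 p13 p23 p10 p20 p30
  have a3 : ip (k3 - k2) (k3 - k2) = 3 := by simp only [ip_sub, sub_ip, s k3 k2]; omega
  have b3 : ip (k3 - k1) (k3 - k1) = 3 := by simp only [ip_sub, sub_ip, s k3 k1]; omega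
  have ab : ip (k3 - k1) (k3 - k2) = 1 := by simp only [ip_sub, sub_ip, s k3 k2]; omega
  have g := pm4 (b := k1 - k2) hd (by simp only [ip_sub, sub_ip, s k2 k1]; omega)
    (by simp only [sub_ip]; omega)
  obtain ⟨i, hi, hj⟩ := exists_of_sum_mul_self_eq_one (fun i => (k3 - k1) i * (k3 - k2) i)
    (Eq.trans (sum_congr rfl fun i _ => by
      have := g i
      rcases pm a3 le_rfl i with e | e | e <;> rcases pm b3 le_rfl i with e' | e' | e' <;>
        simp only [e, e'] <;> simp only [Pi.sub_apply] at * <;> omega) ab)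
  have q1 := h.pairs3 x (x * y) x 0 (by decide +kernel) (by decide +kernel) nxw (by decide +kernel)
    (by decide +kernel)
  have q2 := h.pairs3 x (x * y) (x * y) 1 (by decide +kernel) (by decide +kernel) nxw (by decide +kernel)
    (by decide +kernel)
  have q3 := h.pairs3 x y x 0 (by decide +kernel) (by decide +kernel) nxy (by decide +kernel)
    (by decide +kernel)
  have q4 := h.pairs3 x y (x * y) 1 (by decide +kernel) (by decide +kernel) nxy (by decide +kernel)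
    (by decide +kernel)
  simp only [h1, h2, h3, map_intCast, fun χ => map_one f ▸ h0 χ, cx, cy, cw] at q1 q2 q3 q4
  have q5 : ∑ χ, (-9 * (d χ - 3 * k1 χ) * ((k3 - k1) χ * (k3 - k2) χ : ℤ) / d χ : ℂ) =
      162 / Nat.card G := by
    refine Eq.trans ?_ (congr($q1 - $q2 - $q3 + $q4).trans (by push_cast; ring))
    simp only [← sum_add_distrib, ← sum_sub_distrib]
    exact sum_congr rfl fun χ _ => by simp only [d, Pi.sub_apply]; push_cast; ring
  rw [sum_eq_single i (fun j _ e => by rw [hj j e]; simp) (by simp),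
    div_eq_div_iff (Int.cast_ne_zero.2 (hd i).ne') natCard_ne_zero'] at q5
  have q6 : -9 * (d i - 3 * k1 i) * ((k3 - k1) i * (k3 - k2) i) * Nat.card G = 162 * d i := by
    exact_mod_cast q5
  have q7 : d i * d i ≤ Nat.card G := p00 ▸ single_le_sum (f := fun i => d i * d i)
    (fun _ _ => mul_self_nonneg _) (mem_univ i)
  have q9 := fin4 (hd i) (Int.natCast_pos.2 Nat.card_pos) hi q6 q7
  have h5 := f.range.index_mul_card
  rw [← Nat.card_congr (MonoidHom.ofInjective h.inj).toEquiv, show Nat.card W4 = 36 by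
    rw [Nat.card_eq_fintype_card]; decide +kernel] at h5
  exact index_eq_one.1 ((by omega : ∀ n i : ℕ, (n : ℤ) ≤ 324 → i * 36 = n → i % 9 = 1 → i = 1) _ _
    q9 h5 (h.index9 he))

theorem md_of {n : ℕ} [NeZero n] {φ : DihedralGroup n →* MulAut V} {f : V ⋊[φ] DihedralGroup n →* G}
    (hse : SE P (normalizer ((P : Subgroup G) : Set G)))
    (hC : centralizer ((P : Subgroup G) : Set G) ≤ P) (h9 : Nat.card P = 9)
    (hx : f (.inl e1) ≠ 1) (hy : f (.inl e2) ≠ 1)
    (hk : ∀ w : V ⋊[φ] DihedralGroup n, w ≠ 1 → ∃ a, w * a * w⁻¹ * a⁻¹ ≠ 1 ∧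
      (w * a * w⁻¹ * a⁻¹).right = 1)
    (hk' : ∀ w : V ⋊[φ] DihedralGroup n, w ≠ 1 → w.right = 1 → ∃ a, w * a * w⁻¹ * a⁻¹ = .inl e1 ∨
      w * a * w⁻¹ * a⁻¹ = .inl e2 ∨ a * w * a⁻¹ * w⁻¹ = .inl e1 ∨ a * w * a⁻¹ * w⁻¹ = .inl e2)
    (h1 : f (.inl e1) ∈ (P : Subgroup G)) (h2 : f (.inl e2) ∈ (P : Subgroup G))
    (h3 : f (.inr (r 1)) ∈ normalizer ((P : Subgroup G) : Set G))
    (h4 : f (.inr (sr 0)) ∈ normalizer ((P : Subgroup G) : Set G))
    (hN : Nat.card (normalizer ((P : Subgroup G) : Set G)) ≤ 18 * n) : Md P f := by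
  have inj : Function.Injective f := (injective_iff_map_eq_one f).2 fun w hw => by
    by_contra h
    obtain ⟨a, e, e'⟩ := hk w h
    obtain ⟨b, e | e | e | e⟩ := hk' _ e e'
    exacts [hx (by simp [← e, hw]), hy (by simp [← e, hw]), hx (by simp [← e, hw]),
      hy (by simp [← e, hw])]
  suffices f.range = normalizer ((P : Subgroup G) : Set G) from ⟨inj, this ▸ hse, hC, h9⟩
  refine eq_of_le_of_card_ge ?_ ?_
  · rintro _ ⟨w, rfl⟩
    rw [← w.inl_left_mul_inr_right, map_mul]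
    refine mul_mem (le_normalizer ?_) ?_
    · rw [(by decide : ∀ v : V, v = e1 ^ v.toAdd.1.val * e2 ^ v.toAdd.2.val) w.left]
      simp only [map_mul, map_pow]
      exact mul_mem (pow_mem h1 _) (pow_mem h2 _)
    · have k : ∀ i : ZMod n, f (.inr (r i)) ∈ normalizer ((P : Subgroup G) : Set G) := fun i => by
        rw [show r i = r 1 ^ i.val by simp, map_pow, map_pow]; exact pow_mem h3 _
      rcases w.right with i | i
      · exact k i
      · rw [show sr i = sr 0 * r i by simp, map_mul, map_mul]; exact mul_mem h4 (k i)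
  · rw [← Nat.card_congr (MonoidHom.ofInjective inj).toEquiv, SemidirectProduct.card,
      DihedralGroup.nat_card, show Nat.card V = 9 by simp [V]]
    omega

omit [Finite G] in
theorem fix_or_inv {T : G} (hP : ∀ a ∈ (P : Subgroup G), ∀ b ∈ (P : Subgroup G), a * b = b * a)
    (hT : T ∈ normalizer ((P : Subgroup G) : Set G)) (h2 : T * T = 1) :
    ((∀ m ∈ (P : Subgroup G), T * m * T⁻¹ = m⁻¹) ∨ ∃ x ∈ (P : Subgroup G), x ≠ 1 ∧ T * x * T⁻¹ = x) ∧
    ((∀ m ∈ (P : Subgroup G), T * m * T⁻¹ = m) ∨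
      ∃ x ∈ (P : Subgroup G), x ≠ 1 ∧ T * x * T⁻¹ = x⁻¹) := by
  have k : ∀ m, T * (T * m * T⁻¹) * T⁻¹ = m := fun m => by
    rw [← mul_assoc, ← mul_assoc, h2, one_mul, mul_assoc, ← mul_inv_rev, h2, inv_one, mul_one]
  constructor <;> refine or_iff_not_imp_left.2 fun h => ?_ <;> push Not at h <;>
    obtain ⟨m, hm, e⟩ := h
  · refine ⟨m * (T * m * T⁻¹), mul_mem hm ((hT m).1 hm), fun e' => e (eq_inv_of_mul_eq_one_right e'), ?_⟩
    rw [← conj_mul, k, hP _ hm _ ((hT m).1 hm)]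
  · refine ⟨m * (T * m * T⁻¹)⁻¹, mul_mem hm (inv_mem ((hT m).1 hm)),
      fun e' => e (mul_inv_eq_one.1 e').symm, ?_⟩
    rw [← conj_mul, ← conj_inv, k, mul_inv_rev, inv_inv]

omit [Finite G] in
theorem inv3 {x : G} (h3 : x ^ 3 = 1) (h : x = x⁻¹) : x = 1 := by
  rw [← h3, pow_three, mul_eq_one_iff_eq_inv.2 h, mul_one]

section
variable (hP : ∀ a ∈ (P : Subgroup G), ∀ b ∈ (P : Subgroup G), a * b = b * a) (h9 : Nat.card P = 9)
  (he : ∀ m ∈ (P : Subgroup G), m ^ 3 = 1)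
include h9 he

theorem all_fix {c x y : G} (hx : x ∈ (P : Subgroup G)) (hy : y ∈ (P : Subgroup G)) (x1 : x ≠ 1)
    (hxy : y ∉ zpowers x) (e1 : c * x * c⁻¹ = x) (e2 : c * y * c⁻¹ = y) :
    ∀ m ∈ (P : Subgroup G), c * m * c⁻¹ = m := fun _ hm =>
  ((sub9 h9 inf_le_left (H := P ⊓ (MulAut.conj c).toMonoidHom.eqLocus (MonoidHom.id G)) ⟨hx, e1⟩
    ⟨hy, e2⟩ (he x hx) x1 hxy).ge hm).2

include hP in
theorem all_inv {c x y : G} (hx : x ∈ (P : Subgroup G)) (hy : y ∈ (P : Subgroup G)) (x1 : x ≠ 1)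
    (hxy : y ∉ zpowers x) (e1 : c * x * c⁻¹ = x⁻¹) (e2 : c * y * c⁻¹ = y⁻¹) :
    ∀ m ∈ (P : Subgroup G), c * m * c⁻¹ = m⁻¹ := fun _ hm =>
  ((sub9 h9 (fun _ h => h.1) (H := ⟨⟨⟨{m | m ∈ (P : Subgroup G) ∧ c * m * c⁻¹ = m⁻¹},
    fun {a b} ha hb => ⟨mul_mem ha.1 hb.1, by
      rw [← conj_mul, ha.2, hb.2, hP a ha.1 b hb.1, mul_inv_rev]⟩⟩, one_mem _, by simp⟩,
    fun {a} ha => ⟨inv_mem ha.1, by rw [← conj_inv, ha.2]⟩⟩) ⟨hx, e1⟩ ⟨hy, e2⟩ (he x hx) x1 hxy).ge hm).2

theorem faith (hC : centralizer ((P : Subgroup G) : Set G) ≤ P) {c : G} (h1 : c * c = 1)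
    (h2 : ∀ m ∈ (P : Subgroup G), c * m * c⁻¹ = m) : c = 1 :=
  inv3 (he c (hC fun m hm => (mul_inv_eq_iff_eq_mul.1 (h2 m hm)).symm))
    (eq_inv_of_mul_eq_one_left h1)

theorem exists_md4 (hse : SE P (normalizer ((P : Subgroup G) : Set G)))
    (hC : centralizer ((P : Subgroup G) : Set G) ≤ P)
    (hN : Nat.card (normalizer ((P : Subgroup G) : Set G)) ≤ 36) {a b : G}
    (ha : a ∈ normalizer ((P : Subgroup G) : Set G)) (hb : b ∈ normalizer ((P : Subgroup G) : Set G))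
    (a2 : a * a = 1) (b2 : b * b = 1) (hab : a * b = b * a) (a1 : a ≠ 1) (b1 : b ≠ 1) (ne : a ≠ b) :
    ∃ f : W4 →* G, Md P f := by
  have fa := @faith _ _ _ _ h9 he hC
  have ab2 : a * b * (a * b) = 1 := by
    rw [mul_assoc, ← mul_assoc b, ← hab, mul_assoc, b2, mul_one, a2]
  have ab1 : a * b ≠ 1 := fun e => ne (mul_left_cancel (a2.trans e.symm))
  wlog hb' : ∀ m ∈ (P : Subgroup G), b * m * b⁻¹ = m⁻¹ generalizing a b
  · by_cases ha' : ∀ m ∈ (P : Subgroup G), a * m * a⁻¹ = m⁻¹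
    · exact this hb ha b2 a2 hab.symm b1 a1 ne.symm (hab ▸ ab2) (hab ▸ ab1) ha'
    obtain ⟨x, hx, x1, e1⟩ := (fix_or_inv hse.comm ha a2).1.resolve_left ha'
    obtain ⟨y, hy, y1, e2⟩ := (fix_or_inv hse.comm ha a2).2.resolve_left (mt (fa a2) a1)
    have hxy : y ∉ zpowers x := fun h => y1 (inv3 (he y hy) (by
      obtain ⟨k, rfl⟩ := h
      rw [← e2, ← conj_zpow, e1]))
    have k : ∀ m, a * (b * m * b⁻¹) * a⁻¹ = b * (a * m * a⁻¹) * b⁻¹ := fun m => by
      rw [← mul_assoc, ← mul_assoc, hab, mul_assoc, ← mul_inv_rev, hab]; group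
    have k' : ∀ m, a * b * m * (a * b)⁻¹ = a * (b * m * b⁻¹) * a⁻¹ := fun m => by group
    have k1 := mem3 (he x hx) (by_contra fun h => a1 (fa a2
      (all_fix h9 he hx ((hb x).1 hx) x1 h e1 (by rw [k, e1]))))
    have k2 := mem3 (he y hy) (by_contra fun h => ha'
      (all_inv hse.comm h9 he hy ((hb y).1 hy) y1 h e2 (by rw [k, e2, conj_inv])))
    rw [conj_eq_one_iff] at k1 k2
    rcases k1.resolve_left x1 with k1 | k1 <;> rcases k2.resolve_left y1 with k2 | k2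
    · exact absurd (fa b2 (all_fix h9 he hx hy x1 hxy k1 k2)) b1
    · exact absurd (fa ab2 (all_fix h9 he hx hy x1 hxy (by rw [k', k1, e1])
        (by rw [k', k2, ← conj_inv, e2, inv_inv]))) ab1
    · refine this ha (mul_mem ha hb) a2 ab2 (by rw [mul_assoc, hab]) a1 ab1 (by simpa using b1)
        (by rw [← mul_assoc a a, a2, one_mul, b2]) (by rwa [← mul_assoc, a2, one_mul])
        (all_inv hse.comm h9 he hx hy x1 hxy (by rw [k', k1, ← conj_inv, e1]) (by rw [k', k2, e2]))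
    · exact absurd (all_inv hse.comm h9 he hx hy x1 hxy k1 k2) hb'
  obtain ⟨x, hx, x1, h1⟩ := (fix_or_inv hse.comm ha a2).1.resolve_left fun h => ab1 (fa ab2
    fun m hm => by
      rw [show a * b * m * (a * b)⁻¹ = a * (b * m * b⁻¹) * a⁻¹ by group, hb' m hm, h _ (inv_mem hm),
        inv_inv])
  obtain ⟨y, hy, y1, h2⟩ := (fix_or_inv hse.comm ha a2).2.resolve_left (mt (fa a2) a1)
  obtain ⟨f, f1, f2, f3, f4⟩ := exists_model ph4 (hse.comm x hx y hy) (he x hx) (he y hy)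
    (R := b) (T := a) (by rw [sq, b2]) a2 (by
      rw [hab, mul_inv_cancel_right, eq_inv_iff_mul_eq_one, b2]) rfl fun f f1 f2 => by
      rw [hb' x hx, hb' y hy, h1, h2, ← f1, ← f2, ← map_inv, ← map_inv]
      exact ⟨congrArg f (by decide), congrArg f (by decide), congrArg f (by decide),
        congrArg f (by decide)⟩
  exact ⟨f, md_of hse hC h9 (f1.trans_ne x1) (f2.trans_ne y1) (by decide +kernel) (by decide +kernel)
    (by rwa [f1]) (by rwa [f2]) (by rwa [f3]) (by rwa [f4]) hN⟩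

theorem exists_md8 (hse : SE P (normalizer ((P : Subgroup G) : Set G)))
    (hC : centralizer ((P : Subgroup G) : Set G) ≤ P)
    (hN : Nat.card (normalizer ((P : Subgroup G) : Set G)) ≤ 72) (θ : DihedralGroup 4 →* G)
    (inj : Function.Injective θ) (hθ : ∀ g, θ g ∈ normalizer ((P : Subgroup G) : Set G)) :
    ∃ f : W8 →* G, Md P f := by
  have fa : ∀ g, g * g = 1 → g ≠ 1 → ¬ ∀ m ∈ (P : Subgroup G), θ g * m * (θ g)⁻¹ = m :=
    fun g h1 h2 h3 => h2 (inj ((faith h9 he hC (by rw [← map_mul, h1, map_one]) h3).trans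
      θ.map_one.symm))
  have c : ∀ g h m, θ (g * h) * m * (θ (g * h))⁻¹ = θ g * (θ h * m * (θ h)⁻¹) * (θ g)⁻¹ :=
    fun g h m => by rw [map_mul]; group
  have sq : ∀ g, g * g = 1 → θ g * θ g = 1 := fun g h => by rw [← map_mul, h, map_one]
  obtain ⟨w, hw, w1, h0⟩ := (fix_or_inv hse.comm (hθ (r 2)) (sq _ (by decide))).2.resolve_left
    (fa _ (by decide) (by decide))
  have hZ := all_inv hse.comm h9 he hw ((hθ (r 1) w).1 hw) w1 (fun h => w1 (inv3 (he w hw) (by
    rw [← h0, show (r 2 : DihedralGroup 4) = r 1 * r 1 by decide, c]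
    rcases (mem3 (he w hw) h).resolve_left (mt conj_eq_one_iff.1 w1) with e | e
    · rw [e, e]
    · rw [e, ← conj_inv, e, inv_inv]))) h0 (by
      rw [← c, show (r 2 * r 1 : DihedralGroup 4) = r 1 * r 2 by decide, c, h0, conj_inv])
  obtain ⟨x, hx, x1, h1⟩ := (fix_or_inv hse.comm (hθ (sr 0)) (sq _ (by decide))).1.resolve_left
    fun h => fa (sr 0 * r 2) (by decide) (by decide) fun m hm => by
      rw [c, hZ m hm, h _ (inv_mem hm), inv_inv]
  have hy := (hθ (r 1) x).1 hx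
  obtain ⟨f, f1, f2, f3, f4⟩ := exists_model ph8 (hse.comm x hx _ hy) (he x hx) (he _ hy)
    (R := θ (r 1)) (T := θ (sr 0)) (by rw [← map_pow, r_one_pow_n, map_one]) (sq _ (by decide)) (by
      rw [← map_inv, ← map_mul, ← map_mul, ← map_inv]; exact congrArg θ (by decide)) rfl
    fun f f1 f2 => by
      rw [h1, ← c, ← c, show (sr 0 * r 1 : DihedralGroup 4) = r 1 * (r 2 * sr 0) by decide, c, c,
        c _ (sr 0), h1, ← c, show (r 1 * r 1 : DihedralGroup 4) = r 2 by decide, hZ x hx, ← conj_inv,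
        ← f2, ← f1, ← map_inv, ← map_inv]
      exact ⟨congrArg f (by decide), congrArg f (by decide), congrArg f (by decide),
        congrArg f (by decide)⟩
  exact ⟨f, md_of hse hC h9 (f1.trans_ne x1) (f2.trans_ne (mt conj_eq_one_iff.1 x1))
    (by decide +kernel) (by decide +kernel) (by rwa [f1]) (by rwa [f2]) (by rw [f3]; exact hθ _)
    (by rw [f4]; exact hθ _) hN⟩

end

theorem exists_sec (h9 : Nat.card P = 9) {Q : Type*} [Group Q] {N : Subgroup G}
    (hN : normalizer ((P : Subgroup G) : Set G) = N) [((P : Subgroup G).subgroupOf N).Normal]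
    (e : N ⧸ (P : Subgroup G).subgroupOf N ≃* Q) (h3 : ¬ 3 ∣ Nat.card Q) :
    Nat.card N = Nat.card Q * 9 ∧ ∃ θ : Q →* G, Function.Injective θ ∧ ∀ q, θ q ∈ N := by
  have c : Nat.card ((P : Subgroup G).subgroupOf N) = 9 :=
    (Nat.card_congr (subgroupOfEquivOfLe (hN ▸ le_normalizer)).toEquiv).trans h9
  have i : ((P : Subgroup G).subgroupOf N).index = Nat.card Q := Nat.card_congr e.toEquiv
  obtain ⟨H, hH⟩ := exists_right_complement'_of_coprime (N := (P : Subgroup G).subgroupOf N) (by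
    rw [c, i]; exact ((Nat.prime_three.coprime_iff_not_dvd).2 h3).pow_left 2)
  exact ⟨by rw [← c, ← i, index_mul_card], (N.subtype.comp H.subtype).comp
    (e.symm.trans hH.symm.QuotientMulEquiv).toMonoidHom, (N.subtype_injective.comp
    H.subtype_injective).comp (e.symm.trans hH.symm.QuotientMulEquiv).injective, fun q => Subtype.prop _⟩

end Cfsg.Agent.H19.N9
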