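import Cfsg.Agent.H19.N9c

/-! Strongly `3`-embedded Sylow normalizer `3² : D₈` -/

set_option autoImplicit false
set_option synthInstance.maxSize 1000

namespace Cfsg.Agent.H19.N9

open Cfsg Cfsg.Agent.H4 Cfsg.Agent.H6 Subgroup DihedralGroup Finset
open scoped ComplexConjugate

variable {G : Type*} [Group G] [Finite G] {P : Sylow 3 G} {f : W8 →* G}

def x : W8 := .inl e1
def w : W8 := .inl (e1 * e2)
def t : W8 := .inr (sr 0)
def s : W8 := .inr (sr 3)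
def z : W8 := .inr (r 2)

theorem Md.comm_conj {W : Type*} [Group W] {f : W →* G} (h : Md P f) (C : Subgroup G) {a b : G}
    (ha : a ∈ C) (hb : b ∈ C) (a3 : a ^ 3 = 1) (b3 : b ^ 3 = 1) :
    ∃ c ∈ C, c * a * c⁻¹ * b = b * (c * a * c⁻¹) := by
  have k : ∀ a : C, (a : G) ^ 3 = 1 → ∃ Q : Sylow 3 C, a ∈ (Q : Subgroup C) := fun a e => by
    obtain ⟨Q, hQ⟩ := (IsPGroup.iff_orderOf.2 fun ⟨_, k, rfl⟩ => by
      simpa [← orderOf_coe] using (Nat.dvd_prime_pow Nat.prime_three (m := 1)).1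
        ((orderOf_dvd_of_mem_zpowers (mem_zpowers_iff.2 ⟨k, rfl⟩)).trans (orderOf_dvd_of_pow_eq_one
          (Subtype.ext e : a ^ 3 = 1))) |>.imp fun _ h => h.2 : IsPGroup 3 (zpowers a)).exists_le_sylow
    exact ⟨Q, hQ (mem_zpowers a)⟩
  obtain ⟨Q, hQ⟩ := k ⟨a, ha⟩ a3
  obtain ⟨Q', hQ'⟩ := k ⟨b, hb⟩ b3
  obtain ⟨c, rfl⟩ := MulAction.exists_smul_eq C Q Q'
  exact ⟨c, c.2, h.comm3 ((c • Q).2.map C.subtype) ⟨_, ⟨_, hQ, rfl⟩, rfl⟩ ⟨_, hQ', rfl⟩⟩

theorem Md.t_ne_s (h : Md P f) : ¬ IsConj (f t) (f s) := fun c => by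
  obtain ⟨g, hg⟩ := _root_.isConj_iff.1 c
  have ha : g * f x * g⁻¹ ∈ centralizer {f s} := mem_centralizer_singleton_iff.2 (by
    rw [← hg, conj_mul, conj_mul, ← map_mul, ← map_mul, show x * t = t * x by decide +kernel])
  obtain ⟨c, hc, e⟩ := h.comm_conj _ ha (b := f w)
    (mem_centralizer_singleton_iff.2 (by
      rw [← map_mul, ← map_mul, show w * s = s * w by decide +kernel]))
    (by rw [conj_pow, ← map_pow, show x ^ 3 = 1 by decide +kernel]; simp)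
    (by rw [← map_pow, show w ^ 3 = 1 by decide +kernel, map_one])
  obtain ⟨n, hn⟩ := h.ti 1 (by decide +kernel) (mul_inv_eq_iff_eq_mul.2 e)
  obtain ⟨m, rfl⟩ := (h.isConj_iff (m := x) (m' := n) 1 (by decide +kernel)).1
    (_root_.isConj_iff.2 ⟨c * g, by rw [hn]; group⟩)
  have e' := mem_centralizer_singleton_iff.1 (hn ▸ mul_mem (mul_mem hc ha) (inv_mem hc))
  rw [← map_mul, ← map_mul] at e'
  exact (by decide +kernel : ∀ m, m * x * m⁻¹ * s ≠ s * (m * x * m⁻¹)) m (h.inj e')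

theorem Md.exists_b (h : Md P f) (χ : IrrCharacter G) : ∃ b1 b2 b3 b4 T S : ℤ,
    (χ : G → ℂ) (f x) = (2 * (b3 + b4) - (b1 + b2) : ℤ) ∧
    (χ : G → ℂ) (f w) = (2 * (b1 + b2) - (b3 + b4) : ℤ) ∧
    (χ : G → ℂ) (f (x * t)) = (b1 - b2 : ℤ) ∧ (χ : G → ℂ) (f (w * s)) = (b3 - b4 : ℤ) ∧
    (χ : G → ℂ) (f t) = T ∧ (χ : G → ℂ) (f s) = S ∧
    9 ∣ (charDegree (χ : G → ℂ) : ℤ) + 4 * (b1 + b2 + b3 + b4) ∧
    ((b1 = 0 ∧ b2 = 0 ∧ b3 = 0 ∧ b4 = 0) ∨ ¬ 3 ∣ b1 + b2 + b3 + b4) := by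
  have hχ := χ.2.isCharacter
  have o : ∀ (m : W8) (k : ℕ), m ^ k = 1 → f m ^ k = 1 := fun m k e => by rw [← map_pow, e, map_one]
  have c : ∀ (m m' : W8) (k : ℕ), (∃ n, n * m' * n⁻¹ = m ^ k) → IsConj (f m') (f m ^ k) :=
    fun m m' k e => map_pow f m k ▸ f.map_isConj (_root_.isConj_iff.2 e)
  have v := fun m m' k e => hχ.isClassFunction.of_isConj (c m m' k e)
  obtain ⟨k1, h1⟩ := val3 hχ (o x 3 (by decide +kernel)) (c _ _ _ (by decide +kernel))
  obtain ⟨k2, h2⟩ := val3 hχ (o w 3 (by decide +kernel)) (c _ _ _ (by decide +kernel))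
  obtain ⟨k3, h3⟩ := val2 hχ (o t 2 (by decide +kernel))
  obtain ⟨k4, h4⟩ := val2 hχ (o s 2 (by decide +kernel))
  obtain ⟨k5, h5⟩ := val6 hχ (o (x * t) 6 (by decide +kernel)) (c _ _ _ (by decide +kernel))
  obtain ⟨k6, h6⟩ := val6 hχ (o (w * s) 6 (by decide +kernel)) (c _ _ _ (by decide +kernel))
  rw [← v _ t 3 (by decide +kernel), ← v _ x 2 (by decide +kernel), h1, h3] at h5
  rw [← v _ s 3 (by decide +kernel), ← v _ w 2 (by decide +kernel), h2, h4] at h6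
  obtain ⟨m, hm⟩ := (hχ.comp (f.comp SemidirectProduct.inl)).classInner_nat isCharacter_one
  let g : V → Fin 3 := fun v => if v = 1 then 0 else if v.toAdd.1 * v.toAdd.2 = 0 then 1 else 2
  have hg : ∀ u, (χ : G → ℂ) (f (.inl u)) = (χ : G → ℂ) (f (![1, x, w] (g u))) := fun u => by
    rw [v (.inl u) (![1, x, w] (g u)) 1 (by revert u; decide +kernel), pow_one]
  rw [classInner_one_right, inv_mul_eq_iff_eq_mul₀ natCard_ne_zero'] at hm
  simp only [MonoidHom.comp_apply, hg] at hm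
  rw [sum_comp (fun i => (χ : G → ℂ) (f (![1, x, w] i))) g, show image g univ = univ by decide,
    Fin.sum_univ_three, show #{a | g a = 0} = 1 by decide, show #{a | g a = 1} = 4 by decide,
    show #{a | g a = 2} = 4 by decide, show Nat.card V = 9 by simp [V]] at hm
  simp only [Matrix.cons_val, map_one, h1, h2, ← hχ.charDegree_cast, nsmul_eq_mul] at hm
  have h9 : (charDegree (χ : G → ℂ) : ℤ) + 4 * (charDegree (χ : G → ℂ) - 3 * k1) +
      4 * (charDegree (χ : G → ℂ) - 3 * k2) = 9 * m := by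
    rw [Nat.cast_one, one_mul] at hm; exact_mod_cast hm
  have h7 : (charDegree (χ : G → ℂ) - 3 * k1 = (0 : ℤ) ∧ charDegree (χ : G → ℂ) - 3 * k2 = (0 : ℤ) ∧
      6 * k5 - 2 * k3 = 0 ∧ 6 * k6 - 2 * k4 = 0) ∨ ¬ 3 ∣ charDegree (χ : G → ℂ) := by
    refine (h.dich χ).imp_left fun e => ?_
    have e1 : charDegree (χ : G → ℂ) - 3 * k1 = (0 : ℤ) := by
      exact_mod_cast h1.symm.trans (e _ (h.memP (by decide +kernel) (by decide +kernel))
        ((map_ne_one_iff _ h.inj).2 (by decide +kernel)))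
    have e2 : charDegree (χ : G → ℂ) - 3 * k2 = (0 : ℤ) := by
      exact_mod_cast h2.symm.trans (e _ (h.memP (by decide +kernel) (by decide +kernel))
        ((map_ne_one_iff _ h.inj).2 (by decide +kernel)))
    have e3 : ∀ m : W8, m ^ 2 ≠ 1 ∧ m ^ 6 = 1 → (χ : G → ℂ) (f m) = 0 := fun m hm =>
      apply_eq_zero_of_defect_zero Nat.prime_three χ.2 (h.fact ▸
        (Nat.prime_three.pow_dvd_iff_le_factorization χ.2.charDegree_pos.ne').1 (by omega)) (by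
        rw [orderOf_injective f h.inj]
        by_contra h3
        exact hm.1 (orderOf_dvd_iff_pow_eq_one.1 (((Nat.prime_three.coprime_iff_not_dvd.2 h3).symm
          ).dvd_of_dvd_mul_right (orderOf_dvd_of_pow_eq_one hm.2))))
    rw [e3 _ (by decide +kernel)] at h5 h6
    norm_cast at h5 h6
    omega
  generalize charDegree (χ : G → ℂ) = d at *
  refine ⟨d - 2 * k1 - k2 + 3 * k5 - k3, k1 - k2 - 3 * k5 + k3, d - k1 - 2 * k2 + 3 * k6 - k4,
    k2 - k1 - 3 * k6 + k4, _, _, h1.trans (congrArg _ (by ring)), h2.trans (congrArg _ (by ring)),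
    h5.trans (by push_cast; ring), h6.trans (by push_cast; ring), h3, h4, by omega, by omega⟩

def cl (u : W8) (β : Bool) (a : W8) : Prop :=
  (∃ n, n * u * n⁻¹ = a) ∨ (β = true ∧ ∃ n, n * z * n⁻¹ = a)
instance (u : W8) (β : Bool) : DecidablePred (cl u β) := fun _ => by unfold cl; infer_instance

omit [Finite G] in
theorem Md.cls (h : Md P f) {u u' : W8} (hu : u * u = 1 ∧ u ≠ 1) (hne : ¬ IsConj (f u) (f u'))
    (H : ∀ a : W8, a * a = 1 → a ≠ 1 → (∃ n, n * u * n⁻¹ = a) ∨ (∃ n, n * u' * n⁻¹ = a) ∨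
      ∃ n, n * z * n⁻¹ = a) {β : Bool} (hβ : IsConj (f u) (f z) ↔ β = true) (a : W8) :
    IsConj (f u) (f a) ↔ cl u β a := by
  have k : ∀ {a b}, (∃ n, n * a * n⁻¹ = b) → IsConj (f a) (f b) := fun e =>
    f.map_isConj (_root_.isConj_iff.2 e)
  refine ⟨fun c => ?_, fun e => e.elim k fun e => (hβ.2 e.1).trans (k e.2)⟩
  obtain ⟨g, hg⟩ := _root_.isConj_iff.1 c
  rcases H a (h.inj (by rw [map_mul, ← hg, conj_mul, ← map_mul, hu.1]; simp)) (fun e => hu.2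
    (h.inj (by rw [e, map_one, conj_eq_one_iff] at hg; rw [hg, map_one]))) with e | e | e
  exacts [Or.inl e, absurd (c.trans (k e).symm) hne, Or.inr ⟨hβ.1 (c.trans (k e).symm), e⟩]

theorem Md.cnt (h : Md P f) {b1 b2 b3 b4 U U' d : IrrCharacter G → ℤ} {u v : W8}
    (hd : ∀ χ : IrrCharacter G, (χ : G → ℂ) 1 = d χ)
    (h1 : ∀ χ : IrrCharacter G, (χ : G → ℂ) (f x) = (2 * (b3 χ + b4 χ) - (b1 χ + b2 χ) : ℤ))
    (h2 : ∀ χ : IrrCharacter G, (χ : G → ℂ) (f w) = (2 * (b1 χ + b2 χ) - (b3 χ + b4 χ) : ℤ))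
    (h3 : ∀ χ : IrrCharacter G, (χ : G → ℂ) (f (x * t)) = (b1 χ - b2 χ : ℤ))
    (h4 : ∀ χ : IrrCharacter G, (χ : G → ℂ) (f (w * s)) = (b3 χ - b4 χ : ℤ))
    (hU : ∀ χ : IrrCharacter G, (χ : G → ℂ) (f u) = U χ)
    (hU' : ∀ χ : IrrCharacter G, (χ : G → ℂ) (f v) = U' χ) (hu : u * u = 1) (hv : v * v = 1)
    {β γ : Bool} (hp : ∀ a, IsConj (f u) (f a) ↔ cl u β a)
    (hq : ∀ a, IsConj (f v) (f a) ↔ cl v γ a) (n1 n2 n3 n4 : ℕ)
    (e : #{a | cl u β a ∧ cl v γ (a⁻¹ * x)} = n1 ∧ #{a | cl u β a ∧ cl v γ (a⁻¹ * w)} = n2 ∧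
      #{a | cl u β a ∧ cl v γ (a⁻¹ * (x * t))} = n3 ∧ #{a | cl u β a ∧ cl v γ (a⁻¹ * (w * s))} = n4)
    (j : Fin 4) :
    ∑ m, ![b1, b2, b3, b4] j m * ((U m / cc (f u)) * (U' m / cc (f v)) / d m : ℚ) =
      ![((n1 : ℚ) + 2 * n2 + 3 * n3) / 6, (n1 + 2 * n2 - 3 * n3) / 6, (2 * n1 + n2 + 3 * n4) / 6,
        (2 * n1 + n2 - 3 * n4) / 6] j * (1 / Nat.card G) := by
  have k := fun m k hk => h.pairs (m := m) _ _ hp hq (h.invol (by rw [← map_mul, hu, map_one])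
    (by rw [← map_mul, hv, map_one]) k hk)
  have q1 := k x 1 (by decide +kernel)
  have q2 := k w 1 (by decide +kernel)
  have q3 := k (x * t) 2 (by decide +kernel)
  have q4 := k (w * s) 2 (by decide +kernel)
  simp only [hd, h1, h2, h3, h4, hU, hU', map_intCast, e.1, e.2.1, e.2.2.1, e.2.2.2] at q1 q2 q3 q4
  have cu : (cc (f u) : ℂ) ≠ 0 := natCard_ne_zero'
  have cv : (cc (f v) : ℂ) ≠ 0 := natCard_ne_zero'
  have key : ∀ (b : IrrCharacter G → ℤ) (c1 c2 c3 c4 A : ℚ), (∀ χ, (b χ : ℂ) =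
      c1 * (2 * (b3 χ + b4 χ) - (b1 χ + b2 χ) : ℤ) + c2 * (2 * (b1 χ + b2 χ) - (b3 χ + b4 χ) : ℤ) +
      c3 * (b1 χ - b2 χ : ℤ) + c4 * (b3 χ - b4 χ : ℤ)) → A = c1 * n1 + c2 * n2 + c3 * n3 + c4 * n4 →
      ∑ m, b m * ((U m / cc (f u)) * (U' m / cc (f v)) / d m : ℚ) = A * (1 / Nat.card G) := by
    rintro b c1 c2 c3 c4 _ e rfl
    apply Rat.cast_injective (α := ℂ)
    push_cast
    refine Eq.trans ?_ (congr((c1 * $q1 + c2 * $q2 + c3 * $q3 + c4 * $q4) / (cc (f u) * cc (f v))).trans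
      (by field_simp))
    simp only [mul_sum, ← sum_add_distrib, sum_div]
    exact sum_congr rfl fun χ _ => by rw [e]; ring
  fin_cases j
  · exact key b1 (1 / 6) (1 / 3) (1 / 2) 0 _ (fun χ => by push_cast; ring) (by simp; ring)
  · exact key b2 (1 / 6) (1 / 3) (-1 / 2) 0 _ (fun χ => by push_cast; ring) (by simp; ring)
  · exact key b3 (1 / 3) (1 / 6) 0 (1 / 2) _ (fun χ => by push_cast; ring) (by simp; ring)
  · exact key b4 (1 / 3) (1 / 6) 0 (-1 / 2) _ (fun χ => by push_cast; ring) (by simp; ring)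

set_option maxHeartbeats 1000000 in
theorem Md.exists_linear (h : Md P f) : ∃ l : G →* ℂˣ, l ≠ 1 := by
  choose b1 b2 b3 b4 T S h1 h2 h3 h4 hT hS h9 h3' using h.exists_b
  set d : IrrCharacter G → ℤ := fun χ => charDegree (χ : G → ℂ)
  have hd : ∀ χ : IrrCharacter G, (χ : G → ℂ) 1 = d χ := fun χ => by
    rw [← χ.2.isCharacter.charDegree_cast]; simp [d]
  have h0 : ∀ χ : IrrCharacter G, (χ : G → ℂ) (f 1) = d χ := fun χ => by rw [map_one, hd]
  have c : ∀ (k : ℕ) (m m' : W8), ((m ^ k) ^ 3 = 1 ∧ m ^ k ≠ 1) ∧ (¬ ∃ n, n * m * n⁻¹ = m') →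
      ¬ IsConj (f m) (f m') := fun k m m' e => mt (h.isConj_iff k e.1).1 e.2
  have p11 := col' h1 ((h.cc_eq 1 (by decide +kernel)).trans (show _ = 18 by decide +kernel))
  have p22 := col' h2 ((h.cc_eq 1 (by decide +kernel)).trans (show _ = 18 by decide +kernel))
  have p33 := col' h3 ((h.cc_eq 2 (by decide +kernel)).trans (show _ = 6 by decide +kernel))
  have p44 := col' h4 ((h.cc_eq 2 (by decide +kernel)).trans (show _ = 6 by decide +kernel))
  have p12 := col h1 h2 (c 1 _ _ (by decide +kernel))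
  have p13 := col h1 h3 (c 1 _ _ (by decide +kernel))
  have p14 := col h1 h4 (c 1 _ _ (by decide +kernel))
  have p23 := col h2 h3 (c 1 _ _ (by decide +kernel))
  have p24 := col h2 h4 (c 1 _ _ (by decide +kernel))
  have p34 := col h3 h4 (c 2 _ _ (by decide +kernel))
  have o : ∀ (a : IrrCharacter G → ℤ) (u : W8), (∀ χ : IrrCharacter G, (χ : G → ℂ) (f u) = a χ) →
      u * u = 1 → ip b1 a = 0 ∧ ip b2 a = 0 ∧ ip b3 a = 0 ∧ ip b4 a = 0 := fun a u ha hu => by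
    have q1 := col h1 ha (c 1 _ _ (by clear ha; revert u; decide +kernel))
    have q2 := col h2 ha (c 1 _ _ (by clear q1 ha; revert u; decide +kernel))
    have q3 := col h3 ha (c 2 _ _ (by clear q1 q2 ha; revert u; decide +kernel))
    have q4 := col h4 ha (c 2 _ _ (by clear q1 q2 q3 ha; revert u; decide +kernel))
    change ip ((2 : ℤ) • (b3 + b4) - (b1 + b2)) a = 0 at q1
    change ip ((2 : ℤ) • (b1 + b2) - (b3 + b4)) a = 0 at q2
    change ip (b1 - b2) a = 0 at q3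
    change ip (b3 - b4) a = 0 at q4
    simp only [sub_ip, add_ip, smul_ip] at q1 q2 q3 q4
    omega
  change ip ((2 : ℤ) • (b3 + b4) - (b1 + b2)) ((2 : ℤ) • (b3 + b4) - (b1 + b2)) = 18 at p11
  change ip ((2 : ℤ) • (b1 + b2) - (b3 + b4)) ((2 : ℤ) • (b1 + b2) - (b3 + b4)) = 18 at p22
  change ip (b1 - b2) (b1 - b2) = 6 at p33
  change ip (b3 - b4) (b3 - b4) = 6 at p44
  change ip ((2 : ℤ) • (b3 + b4) - (b1 + b2)) ((2 : ℤ) • (b1 + b2) - (b3 + b4)) = 0 at p12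
  change ip ((2 : ℤ) • (b3 + b4) - (b1 + b2)) (b1 - b2) = 0 at p13
  change ip ((2 : ℤ) • (b3 + b4) - (b1 + b2)) (b3 - b4) = 0 at p14
  change ip ((2 : ℤ) • (b1 + b2) - (b3 + b4)) (b1 - b2) = 0 at p23
  change ip ((2 : ℤ) • (b1 + b2) - (b3 + b4)) (b3 - b4) = 0 at p24
  change ip (b1 - b2) (b3 - b4) = 0 at p34
  simp only [ip_sub, sub_ip, ip_add, add_ip, ip_smul, smul_ip, ip_comm b2 b1, ip_comm b3 b1,
    ip_comm b4 b1, ip_comm b3 b2, ip_comm b4 b2, ip_comm b4 b3] at p11 p22 p33 p44 p12 p13 p14 p23 p24 p34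
  have g : ip b1 b1 = 4 ∧ ip b2 b2 = 4 ∧ ip b3 b3 = 4 ∧ ip b4 b4 = 4 ∧ ip b1 b2 = 1 ∧ ip b1 b3 = 2 ∧
      ip b1 b4 = 2 ∧ ip b2 b3 = 2 ∧ ip b2 b4 = 2 ∧ ip b3 b4 = 1 := by omega
  clear p11 p22 p33 p44 p12 p13 p14 p23 p24 p34
  obtain ⟨g11, g22, g33, g44, g12, g13, g14, g23, g24, g34⟩ := g
  obtain ⟨d1, d2, d3, d4⟩ := o d 1 h0 (one_mul 1)
  have o' : ∀ (a : IrrCharacter G → ℤ) (u : W8), (∀ χ : IrrCharacter G, (χ : G → ℂ) (f u) = a χ) →
      u * u = 1 → ∀ j : Fin 4, ∑ m, ![b1, b2, b3, b4] j m * (a m / cc (f u) : ℚ) = 0 :=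
    fun a u ha hu j => by
      have : ip (![b1, b2, b3, b4] j) a = 0 := by
        obtain ⟨q1, q2, q3, q4⟩ := o a u ha hu
        fin_cases j <;> assumption
      simp only [← mul_div_assoc, ← sum_div]
      exact div_eq_zero_iff.2 (Or.inl (by exact_mod_cast this))
  have one : ∀ {n : ℤ} {g : G}, (irrOne G : G → ℂ) g = n → n = 1 := fun {n _} e => by
    exact_mod_cast (show (n : ℂ) = 1 from e.symm)
  have o1 := one (h1 _)
  have o2 := one (h2 _)
  have o3 := one (h3 _)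
  have o4 := one (h4 _)
  have ob : b1 (irrOne G) = 1 ∧ b2 (irrOne G) = 0 ∧ b3 (irrOne G) = 1 ∧ b4 (irrOne G) = 0 := by omega
  have hts := h.t_ne_s
  have ct := @h.cls _ _ _ _ t s (by decide +kernel) hts (by decide +kernel)
  have cs := @h.cls _ _ _ _ s t (by decide +kernel) (fun c => hts c.symm) (by decide +kernel)
  have main := fun A B C => @d8 _ _ d b1 b2 b3 b4 (fun m => T m / cc (f t)) (fun m => S m / cc (f s))
    (irrOne G) (1 / Nat.card G) (one_div_ne_zero (Nat.cast_ne_zero.2 Nat.card_pos.ne'))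
    (fun χ => Int.natCast_pos.2 χ.2.charDegree_pos) (one (hd _)) ob.1 ob.2.1 ob.2.2.1 ob.2.2.2
    g11 g22 g33 g44 g12 g13 g14 g23 g24 g34 d1 d2 d3 d4 h9 h3' (o' T t hT (by decide +kernel))
    (o' S s hS (by decide +kernel)) A B C
  have kT := @h.cnt _ _ _ _ _ _ _ _ _ _ _ _ _ _ hd h1 h2 h3 h4 hT hT (by decide +kernel)
    (by decide +kernel)
  have kB := @h.cnt _ _ _ _ _ _ _ _ _ _ _ _ _ _ hd h1 h2 h3 h4 hT hS (by decide +kernel)
    (by decide +kernel)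
  have kS := @h.cnt _ _ _ _ _ _ _ _ _ _ _ _ _ _ hd h1 h2 h3 h4 hS hS (by decide +kernel)
    (by decide +kernel)
  obtain ⟨χ, e1, e2⟩ : ∃ χ, d χ = 1 ∧ b1 χ = 0 := by
    by_cases zt : IsConj (f t) (f z)
    · have a := ct (β := true) (by simpa using zt)
      have b := cs (β := false) (by simpa using fun c : IsConj (f s) (f z) => hts (zt.trans c.symm))
      exact main _ _ _ (kT a a 12 9 6 0 (by decide +kernel)) (kB a b 0 0 0 3 (by decide +kernel))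
        (kS b b 0 3 0 0 (by decide +kernel)) (.inr (.inl ⟨by norm_num, by norm_num, by norm_num⟩))
    have a := ct (β := false) (by simpa using zt)
    by_cases zs : IsConj (f s) (f z)
    · have b := cs (β := true) (by simpa using zs)
      exact main _ _ _ (kT a a 3 0 0 0 (by decide +kernel)) (kB a b 0 0 3 0 (by decide +kernel))
        (kS b b 9 12 0 6 (by decide +kernel)) (.inr (.inr ⟨by norm_num, by norm_num, by norm_num⟩))
    · have b := cs (β := false) (by simpa using zs)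
      exact main _ _ _ (kT a a 3 0 0 0 (by decide +kernel)) (kB a b 0 0 0 0 (by decide +kernel))
        (kS b b 0 3 0 0 (by decide +kernel)) (.inl ⟨by norm_num, by norm_num, by norm_num⟩)
  obtain ⟨l, hl⟩ := χ.2.isCharacter.exists_linear (by rw [hd, e1, Int.cast_one])
  refine ⟨l, fun e => ?_⟩
  obtain rfl : χ = irrOne G := Subtype.ext (by rw [hl, e]; rfl)
  exact zero_ne_one (e2.symm.trans ob.1)

theorem Md.not_simple (h : Md P f) : ¬ IsSimpleGroup G := fun _ => by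
  obtain ⟨l, hl⟩ := h.exists_linear
  obtain e | e := l.normal_ker.eq_bot_or_eq_top
  · exact (by decide +kernel : w * t ≠ t * w) (h.inj (l.ker_eq_bot_iff.1 e (by
      simp only [map_mul, mul_comm])))
  · exact hl (MonoidHom.ext fun g => e.ge (mem_top g))

end Cfsg.Agent.H19.N9
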