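import Cfsg.Agent.H19.N9d
import Cfsg.Agent.H1.Generation
import Cfsg.Agent.H26.AltOdd
import Cfsg.Agent.S3341

/-! A group with strongly `3`-embedded Sylow normalizer `3² : D₈` is `S₆` -/

set_option autoImplicit false
set_option synthInstance.maxSize 1000

namespace Cfsg.Agent.H19.N9

open Cfsg Cfsg.Agent.H4 Cfsg.Agent.H6 Subgroup DihedralGroup Equiv

variable {G : Type*} [Group G] [Finite G] {P : Sylow 3 G} {f : W8 →* G}

namespace Md
variable (h : Md P f) (he : ∀ m ∈ (P : Subgroup G), m ^ 3 = 1)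
include h he

theorem cop {M : Subgroup G} (hM : (P : Subgroup G) ≤ normalizer (M : Set G)) (h3 : ¬ 3 ∣ Nat.card M) :
    M = ⊥ := by
  have : IsMulCommutative (P : Subgroup G) := ⟨⟨fun a b => Subtype.ext (h.se.comm a a.2 b b.2)⟩⟩
  have k : ∀ m ∈ M, m ∈ (P : Subgroup G) → m = 1 := fun m h1 h2 => by_contra fun e =>
    h3 (orderOf_eq_prime (he m h2) e ▸ M.orderOf_dvd_natCard h1)
  have := H1.le_of_forall_centralizer_singleton_le (D := f.range) (fun hc => by
    obtain ⟨g, hg⟩ := isCyclic_iff_exists_orderOf_eq_natCard.1 hc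
    have := orderOf_dvd_of_pow_eq_one (Subtype.ext (he g g.2) : g ^ 3 = 1)
    rw [hg, h.card] at this
    omega) hM (h.card ▸ (Nat.prime_three.coprime_iff_not_dvd.2 h3).pow_left 2)
    fun a ha h1 => inf_le_right.trans (h.se.cent a ha h1)
  refine eq_bot_iff.2 fun m hm => k m hm (h.cent fun u hu => ?_)
  have e := k (m * u * m⁻¹ * u⁻¹) (by
    simpa [mul_assoc] using mul_mem hm ((hM hu _).1 (inv_mem hm)))
    (mul_mem (h.se.conj_mem (this hm) hu) (inv_mem hu))
  rw [mul_inv_eq_one, mul_inv_eq_iff_eq_mul] at e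
  exact e.symm

theorem exists_mem {M L : Subgroup G} (hPL : (P : Subgroup G) ≤ L) (hML : M ≤ L)
    (hM : L ≤ normalizer (M : Set G)) (h0 : M ≠ ⊥) : ∃ a ∈ M, a ∈ (P : Subgroup G) ∧ a ≠ 1 := by
  obtain ⟨u, hu⟩ := exists_prime_orderOf_dvd_card' 3 (by_contra (mt (h.cop he (hPL.trans hM)) h0))
  obtain ⟨Q, hQ⟩ := (IsPGroup.of_card (p := 3) (G := zpowers (inclusion hML u)) (n := 1) (by
    rw [Nat.card_zpowers, orderOf_injective _ (inclusion_injective hML), hu]; rfl)).exists_le_sylow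
  obtain ⟨c, e⟩ := MulAction.exists_smul_eq L Q (P.subtype hPL)
  have : c * inclusion hML u * c⁻¹ ∈ (P.subtype hPL : Subgroup L) := e ▸ ⟨_, hQ (mem_zpowers _), rfl⟩
  refine ⟨_, (hM c.2 _).1 u.2, this, fun e => ?_⟩
  rw [show u = 1 from Subtype.ext (conj_eq_one_iff.1 e), orderOf_one] at hu
  omega

theorem le_range {M L : Subgroup G} (hM : L ≤ normalizer (M : Set G)) (hN : M ≤ f.range) {a : G}
    (h1 : a ∈ M) (h2 : a ∈ (P : Subgroup G)) (h3 : a ≠ 1) : L ≤ f.range := fun l hl =>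
  by_contra fun e => h3 (h.se.ti l e a h2 (h.se.mem_of_order
    (by rw [orderOf_conj', orderOf_eq_prime (he a h2) h3]) (hN ((hM hl a).1 h1))))

theorem irr {a : G} (h2 : a ∈ (P : Subgroup G)) (h3 : a ≠ 1) :
    ∃ n ∈ f.range, n * a * n⁻¹ ∉ zpowers a := by
  obtain ⟨m, rfl⟩ := h.se.le h2
  obtain ⟨n, e⟩ := (by decide +kernel : ∀ m : W8, m ^ 3 = 1 → m ≠ 1 → ∃ n, n * m * n⁻¹ ≠ m ∧
    n * m * n⁻¹ ≠ m⁻¹) m (h.inj (by rw [map_pow, he _ h2, map_one])) (mt (· ▸ map_one f) h3)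
  refine ⟨f n, ⟨n, rfl⟩, fun c => ?_⟩
  rcases mem3 (he _ h2) c with c | c | c
  · exact h3 (conj_eq_one_iff.1 c)
  · exact e.1 (h.inj (by rwa [map_mul, map_mul, map_inv]))
  · exact e.2 (h.inj (by rwa [map_mul, map_mul, map_inv, map_inv]))

theorem exists_simple (hN : f.range ≠ ⊤) :
    ∃ L : Subgroup G, L.Normal ∧ (P : Subgroup G) ≤ L ∧ ¬ L ≤ f.range ∧ IsSimpleGroup L := by
  have P0 : (P : Subgroup G) ≠ ⊥ := fun e => by simpa [e] using h.card
  obtain ⟨L, -, ⟨hL, L0⟩, hmin⟩ := exists_minimal_le_of_wellFoundedLT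
    (fun L : Subgroup G => L.Normal ∧ L ≠ ⊥) ⊤ ⟨inferInstance, ne_bot_of_le_ne_bot P0 le_top⟩
  obtain ⟨a, h1, h2, h3⟩ := h.exists_mem he le_top le_top (normalizer_eq_top L).ge L0
  have hLN : ¬ L ≤ f.range := fun c =>
    hN (eq_top_iff.2 (h.le_range he (normalizer_eq_top L).ge c h1 h2 h3))
  obtain ⟨n, hn, e⟩ := h.irr he h2 h3
  have hPL : (P : Subgroup G) ≤ L := inf_eq_right.1 (sub9 h.card inf_le_right ⟨h1, h2⟩
    ⟨hL.conj_mem _ h1 n, h.se.conj_mem hn h2⟩ (he a h2) h3 e)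
  have := (nontrivial_iff_ne_bot L).2 L0
  refine ⟨L, hL, hPL, hLN, ⟨fun M' hM' => or_iff_not_imp_left.2 fun h0 => ?_⟩⟩
  obtain ⟨M, hML, rfl⟩ : ∃ M ≤ L, M.subgroupOf L = M' :=
    ⟨M'.map L.subtype, map_subtype_le _, comap_map_eq_self_of_injective L.subtype_injective _⟩
  have hM := (normal_subgroupOf_iff_le_normalizer hML).1 hM'
  obtain ⟨a, h1, h2, h3⟩ := h.exists_mem he hPL hML hM (by rintro rfl; simp at h0)
  by_cases hPM : (P : Subgroup G) ≤ M
  · refine subgroupOf_eq_top.2 ((hmin ⟨M.normalCore_normal, ne_bot_of_le_ne_bot P0 fun u hu g => ?_⟩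
      (M.normalCore_le.trans hML)).trans M.normalCore_le)
    obtain ⟨l, hl, n, hn, rfl⟩ := mem_sup_of_normal_left.1
      (((sup_comm _ _).trans (P.normalizer_sup_eq_top' hPL)).ge (mem_top g))
    simpa [mul_assoc] using (hM hl _).1 (hPM ((hn u).1 hu))
  obtain ⟨n, hn, e⟩ := h.irr he h2 h3
  have k : ∀ b ∈ M, b ∈ (P : Subgroup G) → b ∈ zpowers a := fun b hb hb' => by_contra fun c =>
    hPM (inf_eq_right.1 (sub9 h.card inf_le_right ⟨h1, h2⟩ ⟨hb, hb'⟩ (he a h2) h3 c))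
  have k1 : ∀ l ∈ L, ∀ b, n⁻¹ * b * n ∈ M → n⁻¹ * (l * b * l⁻¹) * n ∈ M := fun l hl b hb => by
    simpa [mul_assoc] using (hM (hL.conj_mem' l hl n) _).1 hb
  have k2 : M ⊓ M.comap (MulAut.conj n⁻¹).toMonoidHom = ⊥ := by_contra fun c => by
    obtain ⟨b, ⟨hb, hb'⟩, h4, h5⟩ := h.exists_mem he hPL (inf_le_left.trans hML) (fun l hl =>
      mem_normalizer_fintype fun b hb => ⟨(hM hl b).1 hb.1, by
        simpa using k1 l hl b (by simpa using hb.2)⟩) c
    have h6 := k _ hb h4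
    rcases mem3 (he a h2) (k _ hb' (h.se.conj_mem (inv_mem hn) h4)) with c | c | c
    · exact h5 (conj_eq_one_iff.1 c)
    · exact e (by nth_rewrite 2 [← c]; simpa [mul_assoc] using h6)
    · exact e (by nth_rewrite 2 [← inv_inv a]; rw [← c]; simpa [mul_assoc] using h6)
  refine absurd (h.le_range he hM (fun m hm => h.se.cent _ (h.se.conj_mem hn h2)
    (mt conj_eq_one_iff.1 h3) (mem_centralizer_singleton_iff.2 ?_)) h1 h2 h3) hLN
  have h7 : n⁻¹ * (n * a * n⁻¹) * n ∈ M := by simpa [mul_assoc] using h1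
  rw [← mul_inv_eq_one, mul_inv_rev, ← mul_assoc]
  refine mem_bot.1 (k2 ▸ ⟨?_, ?_⟩)
  · simpa [mul_assoc] using mul_mem hm ((hM (hPL (h.se.conj_mem hn h2)) _).1 (inv_mem hm))
  · simpa [mul_assoc] using mul_mem (k1 m (hML hm) _ h7) (inv_mem h7)

theorem not_cent {L : Subgroup G} [hL : L.Normal] (hPL : (P : Subgroup G) ≤ L) (hLN : ¬ L ≤ f.range)
    (hN : ¬ f.range ≤ L) {a c : G} (h1 : a ∈ (P : Subgroup G)) (h2 : a ≠ 1) (h3 : c ∈ L)
    (h4 : c * a = a * c) : c ∈ (P : Subgroup G) := by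
  obtain ⟨m, rfl⟩ := h.se.cent a h1 h2 (mem_centralizer_singleton_iff.2 h4)
  obtain ⟨a, rfl⟩ := h.se.le h1
  by_contra hc
  obtain ⟨n, e1, e2, e3, e4⟩ := (by decide +kernel : ∀ m : W8, m ^ 3 ≠ 1 → (∃ a, a ^ 3 = 1 ∧ a ≠ 1 ∧
    m * a = a * m) → ∃ n, m ^ 3 * m ^ 3 = 1 ∧ m ^ 3 * (n * m ^ 3 * n⁻¹) = n * m ^ 3 * n⁻¹ * m ^ 3 ∧
      m ^ 3 ≠ 1 ∧ m ^ 3 ≠ n * m ^ 3 * n⁻¹) m (fun e => hc (by
        by_cases e' : m = 1
        · rw [e', map_one]; exact one_mem _
        · exact h.memP e e')) ⟨a, h.inj (by rw [map_pow, he _ h1, map_one]), mt (· ▸ map_one f) h2,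
    h.inj (by rwa [map_mul, map_mul])⟩
  have hn : normalizer ((P.subtype hPL : Subgroup L) : Set L) = f.range.subgroupOf L :=
    (subgroupOf_normalizer_eq hPL).symm.trans (congrArg (·.subgroupOf L) h.se.norm)
  have he' : ∀ m ∈ (P.subtype hPL : Subgroup L), m ^ 3 = 1 := fun m hm => Subtype.ext (he m hm)
  have h5 : f (m ^ 3) ∈ L := map_pow f m 3 ▸ pow_mem h3 3
  obtain ⟨f', h'⟩ := exists_md4 (P := P.subtype hPL)
    ((Nat.card_congr (subgroupOfEquivOfLe hPL).toEquiv).trans h.card) he'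
    ⟨fun a ha b hb => Subtype.ext (h.se.comm a ha b hb), rfl, fun t ht h1 g hg => hn.ge
      (h.se.cent t ht (fun e => h1 (Subtype.ext e)) (mem_centralizer_singleton_iff.2
        (congrArg Subtype.val (mem_centralizer_singleton_iff.1 hg))))⟩
    (fun g hg => h.cent fun u hu => congrArg Subtype.val (hg ⟨u, hPL hu⟩ hu)) (by
      have e1 := (L.subgroupOf f.range).index_mul_card
      have e2 : (L.subgroupOf f.range).index ≠ 1 := mt relIndex_eq_one.1 hN
      have e3 : (L.subgroupOf f.range).index ≠ 0 := FiniteIndex.index_ne_zero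
      rw [← Nat.card_congr (MonoidHom.ofInjective h.inj).toEquiv, show Nat.card W8 = 72 by
        rw [Nat.card_eq_fintype_card]; decide +kernel, ← inf_subgroupOf_right,
        Nat.card_congr (subgroupOfEquivOfLe inf_le_right).toEquiv, inf_subgroupOf_right] at e1
      rw [hn, ← inf_subgroupOf_right, Nat.card_congr (subgroupOfEquivOfLe inf_le_right).toEquiv,
        inf_comm]
      nlinarith [show 2 ≤ (L.subgroupOf f.range).index by omega])
    (a := ⟨_, h5⟩) (b := ⟨f (n * m ^ 3 * n⁻¹), by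
      rw [map_mul, map_mul, map_inv]; exact hL.conj_mem _ h5 _⟩) (hn.ge ⟨_, rfl⟩) (hn.ge ⟨_, rfl⟩)
    (Subtype.ext ((f.map_mul _ _).symm.trans (e1 ▸ f.map_one)))
    (Subtype.ext ((f.map_mul _ _).symm.trans (by rw [conj_mul, e1]; simp)))
    (Subtype.ext ((f.map_mul _ _).symm.trans ((congrArg f e2).trans (f.map_mul _ _))))
    (fun e => e3 (h.inj ((congrArg Subtype.val e).trans f.map_one.symm)))
    (fun e => e3 (conj_eq_one_iff.1 (h.inj ((congrArg Subtype.val e).trans f.map_one.symm))))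
    fun e => e4 (h.inj (congrArg Subtype.val e))
  exact hLN (subgroupOf_eq_top.1 (hn.symm.trans (h'.se.norm.trans (h'.v4 he'))))

theorem sym6 (hN : f.range ≠ ⊤) : Nonempty (G ≃* Perm (Fin 6)) := by
  obtain ⟨L, hL, hPL, hLN, hs⟩ := h.exists_simple he hN
  have hT : L ≠ ⊤ := by rintro rfl; exact h.not_simple topEquiv.symm.isSimpleGroup
  have hN' : ¬ f.range ≤ L := fun c =>
    hT (eq_top_iff.2 ((P.normalizer_sup_eq_top' hPL).ge.trans (sup_le (h.se.norm.trans_le c) le_rfl)))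
  have hx := h.memP (m := x) (by decide +kernel) (by decide +kernel)
  have hw := h.memP (m := w) (by decide +kernel) (by decide +kernel)
  have xw : ¬ IsConj (f x) (f w) := mt (h.isConj_iff 1 (by decide +kernel)).1 (by decide +kernel)
  have o : ∀ (m : W8) (hm : f m ∈ L), m ^ 3 = 1 ∧ m ≠ 1 → orderOf (⟨f m, hm⟩ : L) = 3 :=
    fun m hm e => (orderOf_mk _ _).trans ((orderOf_injective f h.inj m).trans (orderOf_eq_prime e.1 e.2))
  have ox := o x (hPL hx) (by decide +kernel)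
  have ow := o w (hPL hw) (by decide +kernel)
  obtain ⟨e⟩ := S3341.result (P.subtype hPL) _ rfl
    ⟨⟨fun a b => Subtype.ext (Subtype.ext (h.se.comm _ a.2 _ b.2))⟩⟩
    (fun m hm => Subtype.ext (he m hm))
    ((Nat.card_congr (subgroupOfEquivOfLe hPL).toEquiv).trans h.card)
    ⟨_, _, ox, ow, fun g c => xw (_root_.isConj_iff.2 ⟨g, congrArg Subtype.val c⟩)⟩
    fun a ha h1 => le_antisymm (fun c hc => h.not_cent he hPL hLN hN' ha (fun e => h1 (Subtype.ext e)) c.2
      (congrArg Subtype.val (mem_centralizer_singleton_iff.1 hc)))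
      fun c hc => mem_centralizer_singleton_iff.2 (Subtype.ext (h.se.comm _ hc _ ha))
  let φ : G →* MulAut (alternatingGroup (Fin 6)) :=
    (MulAut.congr e).toMonoidHom.comp MulAut.conjNormal
  have ty : ∀ y : alternatingGroup (Fin 6), orderOf y = 3 → (y : Perm (Fin 6)).IsThreeCycle ∨
      (y : Perm (Fin 6)).cycleType = {3, 3} := fun y hy => by
    rw [← orderOf_coe] at hy
    obtain ⟨n, hn⟩ := Perm.cycleType_prime_order (hy ▸ Nat.prime_three)
    have := (y : Perm (Fin 6)).sum_cycleType_le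
    rw [hn, hy, Multiset.sum_replicate, Fintype.card_fin, smul_eq_mul] at this
    obtain rfl | rfl : n = 0 ∨ n = 1 := by omega
    exacts [Or.inl (hn.trans (by rw [hy]; rfl)), Or.inr (hn.trans (by rw [hy]; rfl))]
  have cj : ∀ a b, IsConj a b → IsConj (e.symm a : G) (e.symm b) := fun a b c =>
    (L.subtype.comp e.symm.toMonoidHom).map_isConj c
  have h3 : ∀ g, φ g ∈ (MulAut.conjNormal : Perm (Fin 6) →* _).range := fun g => by
    obtain ⟨σ, hσ⟩ := H26.exists_conj_of_three (by decide) (φ g) fun y hy => by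
      refine (ty _ (by rw [MulEquiv.orderOf_eq, ← orderOf_coe, hy.orderOf])).resolve_right fun c => ?_
      have k : ∀ l : L, orderOf l = 3 → IsConj (e.symm y : G) l := fun l hl => by
        rw [← e.symm_apply_apply l]
        rcases ty (e l) (by rwa [MulEquiv.orderOf_eq]) with c' | c'
        · exact cj _ _ (alternatingGroup.isThreeCycle_isConj (by simp) hy c')
        · exact (_root_.isConj_iff.2 ⟨g, by simp [φ]⟩).trans
            (cj _ _ (H26.isConj_alt_of_count (c.trans c'.symm) (i := 3) (by rw [c]; decide)))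
      exact xw ((k _ ox).symm.trans (k _ ow))
    exact ⟨σ, MulEquiv.ext fun y => Subtype.ext (hσ y).symm⟩
  have inj : Function.Injective φ := (injective_iff_map_eq_one φ).2 fun g hg => by
    have k : ∀ l ∈ L, l * g = g * l := fun l hl => by
      have := congrArg (fun σ => (e.symm (σ (e ⟨l, hl⟩)) : G)) hg
      exact (mul_inv_eq_iff_eq_mul.1 (by simpa [φ] using this)).symm
    exact by_contra fun c => hLN fun l hl => h.se.cent g (h.cent fun u hu => k u (hPL hu)) c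
      (mem_centralizer_singleton_iff.2 (k l hl))
  let ψ := (MonoidHom.ofInjective (H26.conjNormal_alt_injective (α := Fin 6) (by decide))
    ).symm.toMonoidHom.comp (φ.codRestrict _ h3)
  have iψ : Function.Injective ψ := fun a b c =>
    (φ.injective_codRestrict _ h3).2 inj ((MonoidHom.ofInjective
      (H26.conjNormal_alt_injective (α := Fin 6) (by decide))).symm.injective c)
  refine ⟨MulEquiv.ofBijective ψ ((Nat.bijective_iff_injective_and_card _).2
    ⟨iψ, (Nat.card_le_card_of_injective _ iψ).antisymm ?_⟩)⟩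
  rw [← two_mul_nat_card_alternatingGroup, ← Nat.card_congr e.toEquiv, ← L.index_mul_card]
  exact Nat.mul_le_mul_right _ (one_lt_index_of_ne_top hT)

end Md

end Cfsg.Agent.H19.N9
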