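import Cfsg.Agent.H19.BD5
import Cfsg.Agent.H1.Cores

/-! Self-centralizing element of prime order: normal structure -/

set_option autoImplicit false

namespace Cfsg.Agent.H19

open Cfsg Cfsg.Agent.H4 Cfsg.Agent.H6
open scoped Pointwise commutatorElement

variable {G : Type*} [Group G] {p : ℕ} [hp : Fact p.Prime] {x : G} [Finite G]

namespace PO
section
variable {K : Subgroup G} (h : PO p x K)
include h

theorem exists_conj_xp {g : G} (hg : orderOf g = p) :
    ∃ (a : G) (i : (ZMod p)ˣ), g = a * xp x (i : ZMod p) * a⁻¹ := by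
  obtain ⟨t, i, hi, y, hy, e⟩ := h.exists_conj_of_dvd hg.symm.dvd
  have h1 : orderOf (xp x i * y) = p := by rw [← orderOf_conj' t, ← e, hg]
  rw [(h.commute_xp i hy).orderOf_mul_eq_mul_orderOf_of_coprime (by
    rw [orderOf_xp h.ord hi]; exact hp.out.coprime_iff_not_dvd.mpr (h.not_dvd hy)),
    orderOf_xp h.ord hi, Nat.mul_eq_left hp.out.ne_zero, orderOf_eq_one_iff] at h1
  exact ⟨t, Units.mk0 i hi, by simpa [h1] using e⟩

theorem card_classes : Nat.card {C : ConjClasses G // ∃ g ∈ C.carrier, orderOf g = p} = tN h.ord := by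
  refine (Nat.card_congr (Equiv.ofBijective (fun q : (ZMod p)ˣ ⧸ EE h.ord =>
    ⟨ConjClasses.mk (xp x (q.out : ZMod p)), _, ConjClasses.mem_carrier_mk,
      orderOf_xp h.ord q.out.ne_zero⟩) ⟨fun q r e => ?_, fun C => ?_⟩)).symm
  · have := (isConj_xp_iff h.ord _ _).mp (ConjClasses.mk_eq_mk_iff_isConj.mp (congrArg Subtype.val e))
    rw [← QuotientGroup.eq] at this
    simpa using this
  · obtain ⟨C, g, hg, hg'⟩ := C
    obtain ⟨a, i, rfl⟩ := h.exists_conj_xp hg'
    refine ⟨i, Subtype.ext ?_⟩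
    rw [ConjClasses.mem_carrier_iff_mk_eq] at hg
    simp only [← hg, ConjClasses.mk_eq_mk_iff_isConj]
    refine ((isConj_xp_iff h.ord _ i).mpr ?_).trans (isConj_iff.mpr ⟨a, rfl⟩)
    rw [← QuotientGroup.eq]; simp

theorem card_subgroups : Nat.card {H : Subgroup G // Nat.card H = p} = sN x := by
  rw [sN_eq_card h.ord h.nsq]
  obtain ⟨P, hP⟩ := exists_sylow_eq h.ord h.nsq
  refine (Nat.card_congr (Equiv.ofBijective (fun Q : Sylow p G => ⟨Q, by
    rw [Nat.card_congr (Q.equiv P).toEquiv, hP, Nat.card_zpowers, h.ord]⟩)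
      ⟨fun Q R e => Sylow.ext (congrArg Subtype.val e), fun H => ?_⟩)).symm
  have h1 : IsPGroup p H.1 := IsPGroup.of_card (n := 1) (by rw [H.2, pow_one])
  refine ⟨h1.toSylow fun hd => h.nsq ?_, rfl⟩
  rw [← H.1.card_mul_index, H.2, sq]
  exact Nat.mul_dvd_mul_left _ hd

theorem mem_of_dvd (S : Subgroup G) [hS : S.Normal] (hd : p ∣ Nat.card S) : x ∈ S := by
  obtain ⟨y, hy⟩ := exists_prime_orderOf_dvd_card' (G := S) p hd
  obtain ⟨a, i, e⟩ := h.exists_conj_xp (g := y) (by rw [Subgroup.orderOf_coe, hy])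
  have h1 := hS.conj_mem _ y.2 a⁻¹
  rw [e] at h1
  rw [← xp_pow_inv h.ord i.ne_zero]
  exact S.pow_mem (by simpa [mul_assoc] using h1) _

theorem dvd_iff_mem (S : Subgroup G) [S.Normal] : p ∣ Nat.card S ↔ x ∈ S :=
  ⟨h.mem_of_dvd S, fun hx => h.ord ▸ Subgroup.orderOf_dvd_natCard S hx⟩

theorem frattini (S : Subgroup G) [S.Normal] (hx : x ∈ S) : NN x ⊔ S = ⊤ := by
  obtain ⟨P, hP⟩ := exists_sylow_eq h.ord h.nsq
  have := Sylow.normalizer_sup_eq_top' P (hP ▸ Subgroup.zpowers_le.mpr hx)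
  unfold NN; rw [← hP]; exact this

theorem exists_mul (S : Subgroup G) [S.Normal] (hx : x ∈ S) (g : G) :
    ∃ s ∈ S, ∃ n ∈ NN x, g = s * n := by
  have : g ∈ (S : Set G) * (NN x : Set G) := by
    rw [← Subgroup.normal_mul, sup_comm, h.frattini S hx]; trivial
  obtain ⟨s, hs, n, hn, e⟩ := this
  exact ⟨s, hs, n, hn, e.symm⟩

theorem mem_commutator (he : eN h.ord ≠ 1) : x ∈ commutator G := by
  haveI : Nontrivial (EE h.ord) := Finite.one_lt_card_iff_nontrivial.mp (by
    have := eN_pos h.ord; unfold eN at *; omega)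
  obtain ⟨⟨c, g, hg⟩, hc⟩ := exists_ne (1 : EE h.ord)
  have h1 : (c : ZMod p) - 1 ≠ 0 := by
    rw [sub_ne_zero]; exact fun e => hc (Subtype.ext (Units.val_eq_one.mp e))
  rw [← xp_pow_inv h.ord h1, sub_eq_add_neg, xp_add h.ord, xp_neg h.ord, xp_one h.ord, ← hg]
  exact Subgroup.pow_mem _ (Subgroup.commutator_mem_commutator (Subgroup.mem_top g)
    (Subgroup.mem_top x)) _

end

variable (h : PO p x ⊥)
include h

theorem commutator_mem_zpowers {a b : G} (ha : a ∈ NN x) (hb : b ∈ NN x) :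
    ⁅a, b⁆ ∈ Subgroup.zpowers x := by
  have := Abelianization.commutator_subset_ker (actN h.ord)
    (Subgroup.commutator_mem_commutator (g₁ := ⟨a, ha⟩) (g₂ := ⟨b, hb⟩) (Subgroup.mem_top _)
      (Subgroup.mem_top _))
  obtain ⟨i, hi⟩ := h.exists_xp ((actN_eq_one_iff h.ord _).mp this)
  exact (mem_zpowers_iff_xp h.ord).mpr ⟨i, hi⟩

theorem commutator_le (S : Subgroup G) [S.Normal] (hx : x ∈ S) : commutator G ≤ S := by
  rw [commutator, Subgroup.commutator_le]
  intro a _ b _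
  obtain ⟨s, hs, n, hn, rfl⟩ := h.exists_mul S hx a
  obtain ⟨t, ht, m, hm, rfl⟩ := h.exists_mul S hx b
  have := Subgroup.zpowers_le.mpr hx (h.commutator_mem_zpowers hn hm)
  rw [← QuotientGroup.eq_one_iff] at hs ht this ⊢
  simpa [commutatorElement_def, hs, ht] using this

theorem index_commutator_dvd (he : eN h.ord ≠ 1) : (commutator G).index ∣ eN h.ord := by
  have h1 := h.mem_commutator he
  rw [← Subgroup.relIndex_top_right, ← h.frattini _ h1, Subgroup.relIndex_sup_right]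
  refine (Subgroup.relIndex_dvd_of_le_left _ (Subgroup.zpowers_le.mpr h1)).trans (dvd_of_eq ?_)
  rw [← h.centralizer_eq, ← card_EE h.ord]

theorem index_commutator_eq (he : eN h.ord = 1) : (commutator G).index = p := by
  obtain ⟨P, hP⟩ := exists_sylow_eq h.ord h.nsq
  have hN : Nat.card (NN x) = p := by
    rw [h.card_N, Subgroup.card_bot, show Nat.card (EE h.ord) = 1 from he, mul_one, mul_one]
  have hN' : NN x = Subgroup.zpowers x := (Subgroup.eq_of_le_of_card_ge Subgroup.le_normalizer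
    (by rw [Nat.card_zpowers, h.ord]; exact hN.le)).symm
  have h1 : Subgroup.normalizer (P : Set G) ≤ Subgroup.centralizer (P : Set G) := by
    change Subgroup.normalizer ((P : Subgroup G) : Set G) ≤
      Subgroup.centralizer ((P : Subgroup G) : Set G)
    rw [hP, centralizer_zpowers, h.centralizer_eq]
    exact hN'.le
  have h2 : x ∉ commutator G := fun hx => by
    haveI : IsMulCommutative (P : Subgroup G) := hP ▸ inferInstance
    have h3 := MonoidHom.not_dvd_card_ker_transferSylow P h1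
    refine h3 ((h.dvd_iff_mem _).mpr ?_)
    have : ∀ a ∈ commutator G, a ∈ (MonoidHom.transferSylow P h1).ker := by
      intro a ha
      refine (Subgroup.commutator_le.mpr fun a _ b _ => ?_ : commutator G ≤ _) ha
      rw [MonoidHom.mem_ker, map_commutatorElement, commutatorElement_eq_one_iff_mul_comm]
      exact IsMulCommutative.is_comm.comm _ _
    exact this x hx
  haveI : (commutator G ⊔ Subgroup.zpowers x).Normal :=
    Subgroup.Normal.of_commutator_le _ le_sup_left
  have h4 := h.frattini (commutator G ⊔ Subgroup.zpowers x)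
    (Subgroup.mem_sup_right (Subgroup.mem_zpowers x))
  rw [hN', sup_comm (commutator G), ← sup_assoc, sup_idem] at h4
  have h5 : (commutator G).index ∣ p := by
    rw [← Subgroup.relIndex_top_right, ← h4, Subgroup.relIndex_sup_right, ← h.ord,
      ← Nat.card_zpowers]
    exact Subgroup.relIndex_dvd_card _ _
  refine ((Nat.dvd_prime hp.out).mp h5).resolve_left fun e => h2 ?_
  rw [Subgroup.index_eq_one.mp e]; trivial

section
variable (S : Subgroup G) [hS : S.Normal] (hx : x ∉ S)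
include hx

theorem eq_one_of_commute {s : G} (hs : s ∈ S) (hc : Commute x s) : s = 1 := by
  obtain ⟨i, rfl⟩ := h.exists_xp hc
  by_contra h1
  have hi : i ≠ 0 := by rintro rfl; simp at h1
  exact hx (xp_pow_inv h.ord hi ▸ S.pow_mem hs _)

theorem eq_one_of_mem_NN {s : G} (hs : s ∈ S) (hn : s ∈ NN x) : s = 1 := by
  refine h.eq_one_of_commute S hx hs ?_
  obtain ⟨c, hc⟩ := exists_unit_of_mem_normalizer h.ord hn
  have h1 : s * x * s⁻¹ * x⁻¹ ∈ S := by
    have := S.mul_mem hs (hS.conj_mem _ (S.inv_mem hs) x)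
    simpa [mul_assoc] using this
  have h2 := h.eq_one_of_commute S hx h1 (by
    rw [hc]; exact (Commute.self_pow x _).mul_right (Commute.refl x).inv_right)
  rw [mul_inv_eq_one, mul_inv_eq_iff_eq_mul] at h2
  exact h2.symm

theorem exists_comm {s : G} (hs : s ∈ S) : ∃ a ∈ S, s = a * x * a⁻¹ * x⁻¹ := by
  let f : S → S := fun a => ⟨a * x * a⁻¹ * x⁻¹, by
    have := S.mul_mem a.2 (hS.conj_mem _ (S.inv_mem a.2) x)
    simpa [mul_assoc] using this⟩
  have hf : Function.Injective f := fun a b e => by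
    have e' : (a : G) * x * a⁻¹ * x⁻¹ = b * x * b⁻¹ * x⁻¹ := congrArg Subtype.val e
    have h1 := h.eq_one_of_commute S hx (S.mul_mem (S.inv_mem b.2) a.2) (by
      have : x * ((b : G)⁻¹ * a) = (b : G)⁻¹ * (b * x * (b : G)⁻¹ * x⁻¹) * x * a := by group
      rw [Commute, SemiconjBy, this]
      simp only [Subgroup.coe_inv] at e'
      rw [← e']; group)
    exact Subtype.ext (inv_mul_eq_one.mp h1).symm
  obtain ⟨a, ha⟩ := Finite.surjective_of_injective hf ⟨s, hs⟩
  exact ⟨a, a.2, (congrArg Subtype.val ha).symm⟩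

theorem le_commutator : S ≤ commutator G := fun s hs => by
  obtain ⟨a, -, rfl⟩ := h.exists_comm S hx hs
  exact Subgroup.commutator_mem_commutator (Subgroup.mem_top a) (Subgroup.mem_top x)

theorem sN_eq_mul : sN x = (S ⊔ NN x).index * Nat.card S := by
  have h1 : S.relIndex (NN x) = Nat.card (NN x) := by
    rw [← Subgroup.inf_relIndex_right, (eq_bot_iff.mpr fun s hs =>
      h.eq_one_of_mem_NN S hx hs.1 hs.2 : S ⊓ NN x = ⊥), Subgroup.relIndex_bot_left]
  have h2 := Subgroup.relIndex_mul_index (le_sup_left : S ≤ S ⊔ NN x)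
  rw [Subgroup.relIndex_sup_left, h1] at h2
  refine Nat.eq_of_mul_eq_mul_left (Nat.card_pos (α := NN x)) ?_
  rw [Subgroup.card_mul_index, ← mul_assoc, h2, Subgroup.index_mul_card]

theorem card_mod : Nat.card S % p = 1 := by
  have := relIndex_dvd_card_sub_one (Subgroup.zpowers x) ⊥ S (by
    rw [Subgroup.normalizer_eq_top]; exact le_top) fun a ha k hk hk1 hc => by
      obtain ⟨i, rfl⟩ := (mem_zpowers_iff_xp h.ord).mp ha
      by_contra h1
      have hi : i ≠ 0 := by rintro rfl; simp at h1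
      exact hk1 (h.eq_one_of_commute S hx hk ((commute_xp_iff h.ord hi).mp hc))
  rw [Subgroup.relIndex_bot_left, Nat.card_zpowers, h.ord] at this
  obtain ⟨k, hk⟩ := this
  have := Nat.card_pos (α := S)
  rw [show Nat.card S = 1 + p * k by omega, Nat.add_mul_mod_self_left, Nat.mod_eq_of_lt hp.out.one_lt]

theorem orderOf_mk : orderOf (QuotientGroup.mk x : G ⧸ S) = p :=
  orderOf_eq_prime (by rw [← QuotientGroup.mk_pow, ← h.ord, pow_orderOf_eq_one, QuotientGroup.mk_one])
    (by rwa [Ne, QuotientGroup.eq_one_iff])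

theorem centralizer_mk : Subgroup.centralizer ({(QuotientGroup.mk x : G ⧸ S)} : Set (G ⧸ S)) =
    Subgroup.zpowers (QuotientGroup.mk x : G ⧸ S) := by
  ext y
  obtain ⟨y, rfl⟩ := QuotientGroup.mk_surjective y
  rw [mem_centralizer_singleton]
  refine ⟨fun hc => ?_, fun ⟨k, hk⟩ => hk ▸ Commute.zpow_right rfl k⟩
  have h1 : y * x * y⁻¹ * x⁻¹ ∈ S := by
    rw [← QuotientGroup.eq_one_iff]
    simp only [QuotientGroup.mk_mul, QuotientGroup.mk_inv]
    rw [← hc.eq]; group
  obtain ⟨a, ha, e⟩ := h.exists_comm S hx h1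
  obtain ⟨i, hi⟩ := h.exists_xp (y := a⁻¹ * y) (by
    have : x * (a⁻¹ * y) = a⁻¹ * (a * x * a⁻¹ * x⁻¹) * x * y := by group
    rw [Commute, SemiconjBy, this, ← e]; group)
  rw [eq_inv_mul_iff_mul_eq] at hi
  rw [← hi, QuotientGroup.mk_mul, (QuotientGroup.eq_one_iff a).mpr ha, one_mul, xp,
    QuotientGroup.mk_pow]
  exact Subgroup.pow_mem _ (Subgroup.mem_zpowers _) _

theorem normal_sup (hN : ∀ g : G, ∃ s, ∃ n ∈ NN x, (s * x * s⁻¹ * x⁻¹ ∈ S) ∧ g = s * n) :
    (S ⊔ Subgroup.zpowers x).Normal := by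
  refine ⟨fun a ha g => ?_⟩
  have key : g * x * g⁻¹ ∈ S ⊔ Subgroup.zpowers x := by
    obtain ⟨s, n, hn, hs, rfl⟩ := hN g
    obtain ⟨c, hc⟩ := exists_unit_of_mem_normalizer h.ord hn
    have h1 : s * x * s⁻¹ ∈ S ⊔ Subgroup.zpowers x := by
      simpa using Subgroup.mul_mem_sup hs (Subgroup.mem_zpowers x)
    have : s * n * x * (s * n)⁻¹ = (s * x * s⁻¹) ^ (c : ZMod p).val := by
      rw [conj_pow, ← xp, ← hc]; group
    rw [this]; exact Subgroup.pow_mem _ h1 _
  have : S ⊔ Subgroup.zpowers x ≤ (S ⊔ Subgroup.zpowers x).comap (MulAut.conj g).toMonoidHom :=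
    sup_le (fun s hs => Subgroup.mem_sup_left (hS.conj_mem s hs g)) (Subgroup.zpowers_le.mpr key)
  exact this ha

theorem commutator_sup_le : ⁅S ⊔ Subgroup.zpowers x, S ⊔ Subgroup.zpowers x⁆ ≤ S := by
  rw [Subgroup.commutator_le]
  intro a ha b hb
  rw [← SetLike.mem_coe, Subgroup.normal_mul] at ha hb
  obtain ⟨s, hs, _, ⟨i, rfl⟩, rfl⟩ := ha
  obtain ⟨t, ht, _, ⟨j, rfl⟩, rfl⟩ := hb
  rw [SetLike.mem_coe, ← QuotientGroup.eq_one_iff] at hs ht
  rw [← QuotientGroup.eq_one_iff]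
  simp only [commutatorElement_def, QuotientGroup.mk_mul, hs, ht, QuotientGroup.mk_inv,
    QuotientGroup.mk_zpow]
  group

theorem card_sup : Nat.card (S ⊔ Subgroup.zpowers x : Subgroup G) = p * Nat.card S := by
  have h1 : S.relIndex (Subgroup.zpowers x) = p := by
    rw [← Subgroup.inf_relIndex_right, (eq_bot_iff.mpr fun s hs =>
      h.eq_one_of_mem_NN S hx hs.1 (Subgroup.le_normalizer hs.2) : S ⊓ Subgroup.zpowers x = ⊥),
      Subgroup.relIndex_bot_left, Nat.card_zpowers, h.ord]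
  have h2 := Subgroup.relIndex_mul_index (le_sup_left : S ≤ S ⊔ Subgroup.zpowers x)
  rw [Subgroup.relIndex_sup_left, h1] at h2
  refine Nat.eq_of_mul_eq_mul_right (Nat.pos_of_ne_zero (Subgroup.index_ne_zero_of_finite
    (H := S ⊔ Subgroup.zpowers x))) ?_
  rw [Subgroup.card_mul_index, mul_right_comm, h2, Subgroup.index_mul_card]

end

end PO

theorem tN_eq_iff (hx : orderOf x = p) : tN hx = p - 1 ↔ eN hx = 1 := by
  have h1 := eN_mul hx
  have h2 := tN_pos hx
  refine ⟨fun h => Nat.eq_of_mul_eq_mul_right h2 (by rw [h1, h, one_mul]), fun h => ?_⟩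
  rwa [h, one_mul] at h1

end Cfsg.Agent.H19
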