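import Cfsg.Agent.H19.Sieve
import Cfsg.Agent.H19.SC
import Cfsg.Agent.H1.Coprime
import Cfsg.Agent.H2.Prim

/-! Groups of order dividing 7920 -/

set_option autoImplicit false

namespace Cfsg.Agent.H19

open Subgroup

universe u

variable {G : Type u} [Group G] [Finite G]

theorem exists_normal_simple_quot [Nontrivial G] :
    ∃ (M : Subgroup G) (_ : M.Normal), IsSimpleGroup (G ⧸ M) := by
  obtain ⟨M, ⟨hM, h1⟩, h2⟩ := Set.Finite.exists_maximal (Set.toFinite
    {M : Subgroup G | M.Normal ∧ M ≠ ⊤}) ⟨⊥, inferInstance, bot_ne_top⟩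
  haveI := QuotientGroup.nontrivial_iff.mpr h1
  refine ⟨M, hM, ⟨fun N hN => ?_⟩⟩
  by_cases e : N.comap (QuotientGroup.mk' M) = ⊤
  · exact Or.inr (comap_injective (QuotientGroup.mk'_surjective M) (e.trans (comap_top _).symm))
  · refine Or.inl (eq_bot_iff.mpr fun a ha => ?_)
    obtain ⟨a, rfl⟩ := QuotientGroup.mk'_surjective M a
    exact (QuotientGroup.eq_one_iff a).mpr (h2 ⟨hN.comap _, e⟩
      (fun b hb => mem_comap.mpr (by
        rw [QuotientGroup.mk'_apply, (QuotientGroup.eq_one_iff b).mpr hb]; exact N.one_mem)) ha)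

theorem exists_commute_of_sylow {r q : ℕ} [hr : Fact r.Prime] [hq : Fact q.Prime] {y : G}
    (hy : orderOf y = r) {K : Subgroup G} (hK : y ∈ normalizer (K : Set G)) (hd : ¬ r ∣ Nat.card K)
    (q1 : q ∣ Nat.card K) (q3 : ¬ q ^ 3 ∣ Nat.card K) (m1 : q % r ≠ 1) 
    (m2 : q ^ 2 ∣ Nat.card K → q ^ 2 % r ≠ 1) :
    ∃ z ∈ K, orderOf z = q ∧ Commute y z := by
  have hm : q ^ (Nat.card K).factorization q % r ≠ 1 := by
    have h1 := (hq.out.dvd_iff_one_le_factorization Nat.card_pos.ne').mp q1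
    rw [hq.out.pow_dvd_iff_le_factorization Nat.card_pos.ne'] at q3 m2
    obtain e | e : (Nat.card K).factorization q = 1 ∨ (Nat.card K).factorization q = 2 := by omega
    · simpa [e]
    · exact e ▸ m2 e.ge
  obtain ⟨Q, hQ, h1⟩ := H1.exists_invariant_isSylowIn q (zpowers_le.mpr hK)
    (by rw [Nat.card_zpowers, hy]; exact hr.out.coprime_iff_not_dvd.mpr hd)
    (Or.inl (H1.isSolvable_zpowers y))
  have h2 := H2.card_modEq_card_inf_centralizer (q := r) (IsPGroup.of_card (n := 1)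
    (by rw [Nat.card_zpowers, hy, pow_one])) h1
  obtain ⟨k, hk⟩ := (hQ.isPGroup.to_le (inf_le_left (b := centralizer
    (zpowers y : Set G)))).exists_card_eq
  rcases k with _ | k
  · rw [hk, hQ.card_eq_pow, Nat.ModEq, pow_zero, Nat.mod_eq_of_lt hr.out.one_lt] at h2
    exact absurd h2 hm
  obtain ⟨z, hz⟩ := exists_prime_orderOf_dvd_card' q (hk ▸ dvd_pow_self q k.succ_ne_zero)
  exact ⟨z, hQ.le z.2.1, (orderOf_coe z).trans hz, z.2.2 y (mem_zpowers y)⟩

theorem simple_card_of_dvd [IsSimpleGroup G] (h : Nat.card G ∣ 7920) :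
    Nat.card G ∈ [2, 3, 5, 11, 60, 360, 660, 7920] := by
  by_cases hc : IsMulCommutative G
  · have h1 : (Nat.card G).Prime := by
      letI : CommGroup G := { (inferInstance : Group G) with mul_comm := mul_comm' }
      exact IsSimpleGroup.prime_card
    rcases (by decide +kernel : ∀ d ∈ dv 7920, d ∈ [2, 3, 5, 11, 60, 360, 660, 7920] ∨ d = 1 ∨
      ∃ p ∈ [2, 3, 5, 11], p ∣ d ∧ p ≠ 1 ∧ p ≠ d) _ (mem_dv (by norm_num) h) with e | e | ⟨p, -, e⟩
    · exact e
    · exact absurd e h1.ne_one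
    · rcases h1.eq_one_or_self_of_dvd p e.1 with f | f
      exacts [absurd f e.2.1, absurd f e.2.2]
  · exact (by decide +kernel : ∀ d ∈ dv 7920, test d ≠ true →
      d ∈ [2, 3, 5, 11, 60, 360, 660, 7920]) _ (mem_dv (by norm_num) h) (not_test hc)

theorem simple_of_no33 (n : ℕ) : ∀ (H : Type u) [Group H] [Finite H], Nat.card H = n → n ∣ 7920 →
    99 ∣ n → (∀ x y : H, orderOf x = 11 → orderOf y = 3 → ¬ Commute x y) →
    IsSimpleGroup H ∧ n = 7920 := by
  haveI : Fact (Nat.Prime 11) := ⟨by norm_num⟩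
  haveI : Fact (Nat.Prime 3) := ⟨by norm_num⟩
  induction n using Nat.strong_induction_on with
  | _ n ih =>
  intro H _ _ hn h1 h2 h3
  have h0 : n ≠ 0 := hn ▸ Nat.card_pos.ne'
  haveI : Nontrivial H := Finite.one_lt_card_iff_nontrivial.mp (by omega)
  obtain ⟨M, _, hM⟩ := exists_normal_simple_quot (G := H)
  have h4 : Nat.card M * M.index = n := hn ▸ M.card_mul_index
  have h5 := simple_card_of_dvd (G := H ⧸ M) ((hn ▸ M.index_dvd_card).trans h1)
  rw [← index_eq_card] at h5
  simp only [List.mem_cons, List.not_mem_nil, or_false] at h5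
  have h6 := Nat.le_of_dvd (by norm_num) h1
  have h7 : (11 ∣ Nat.card M → ¬ 3 ∣ M.index → Nat.card M < n ∧ 99 ∣ Nat.card M) ∧
      (¬ 11 ∣ Nat.card M → Nat.card M ≠ 1 → 3 ∣ Nat.card M) ∧ (Nat.card M = 1 → n = 7920) := by
    rcases h5 with e | e | e | e | e | e | e | e <;> rw [e] at h4 ⊢ <;> omega
  by_cases e : M = ⊥
  · subst e
    exact ⟨QuotientGroup.quotientBot.symm.isSimpleGroup, h7.2.2 card_bot⟩
  have h27 : ∀ K : Subgroup H, Nat.card K ∣ 7920 := fun K => (hn ▸ K.card_subgroup_dvd_card).trans h1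
  obtain ⟨x, hx⟩ := exists_prime_orderOf_dvd_card' (G := H) 11 (by omega)
  obtain ⟨K, hK⟩ := exists_PO hx fun f => by have := (hn ▸ f).trans h1; omega
  exfalso
  by_cases hd : 11 ∣ Nat.card M
  · have h8 : M.index ∣ Nat.card (NN x) := by
      rw [← relIndex_top_right, ← hK.frattini M (hK.mem_of_dvd M hd), relIndex_sup_right]
      exact relIndex_dvd_card _ _
    have h9 : ¬ 3 ∣ M.index := fun f => by
      obtain ⟨y, hy⟩ := exists_prime_orderOf_dvd_card' 3 (f.trans h8)
      have h11 : Nat.card (zpowers x) = 11 := (Nat.card_zpowers x).trans hx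
      obtain ⟨z, -, hz, hc⟩ := exists_commute_of_sylow (q := 11) ((orderOf_coe y).trans hy) y.2
        (by omega) (by omega) (by omega) (by norm_num) (by omega)
      exact h3 z y hz ((orderOf_coe y).trans hy) hc.symm
    have := (ih (Nat.card M) (h7.1 hd h9).1 M rfl (h27 M) (h7.1 hd h9).2
      fun a b ha hb hc => h3 a b ((orderOf_coe a).trans ha) ((orderOf_coe b).trans hb)
        (congrArg Subtype.val hc)).2
    have := (h7.1 hd h9).1
    omega
  · obtain ⟨z, -, hz, hc⟩ := exists_commute_of_sylow (q := 3) hx (K := M)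
      (le_normalizer_of_normal (mem_top x)) hd (h7.2.1 hd (mt card_eq_one.mp e))
      (fun f => by have := f.trans (h27 M); omega) (by norm_num) (by norm_num)
    exact h3 x z hx hz hc

end Cfsg.Agent.H19
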