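import Cfsg.Agent.H19.CI
import Cfsg.Agent.H4.PermChar

/-! Spherical functions of a transitive action -/

set_option autoImplicit false

namespace Cfsg.Agent.H19

open Cfsg Cfsg.Agent.H4 MulAction Subgroup
open scoped ComplexConjugate

theorem exists_three {H Ω : Type*} [Group H] [Fintype Ω] [MulAction H Ω] (a : Ω)
    (ha : ∀ h : H, h • a = a) (h3 : Nat.card (orbitRel.Quotient H Ω) = 3) : ∃ b₁ b₂ : Ω,
      ∀ Φ : Ω → ℂ, (∀ (h : H) b, Φ (h • b) = Φ b) →
        ∑ b, Φ b = Φ a + (stabilizer H b₁).index * Φ b₁ + (stabilizer H b₂).index * Φ b₂ := by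
  classical
  haveI := Fintype.ofFinite (orbitRel.Quotient H Ω)
  obtain ⟨q₁, q₂, hq, e⟩ := Finset.card_eq_two.mp (show (Finset.univ.erase
    (Quotient.mk'' a : orbitRel.Quotient H Ω)).card = 2 by
      rw [Finset.card_erase_of_mem (Finset.mem_univ _), Finset.card_univ, Fintype.card_eq_nat_card, h3])
  obtain ⟨b₁, rfl⟩ := Quotient.mk''_surjective q₁
  obtain ⟨b₂, rfl⟩ := Quotient.mk''_surjective q₂
  refine ⟨b₁, b₂, fun Φ hΦ => ?_⟩
  have h1 : ∀ c : Ω, ∑ b with (Quotient.mk'' b : orbitRel.Quotient H Ω) = Quotient.mk'' c, Φ b =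
      (stabilizer H c).index * Φ c := fun c => by
    rw [Finset.sum_congr rfl (g := fun _ => Φ c) fun b hb => by
      obtain ⟨h, rfl⟩ := orbitRel_apply.mp (Quotient.exact' (Finset.mem_filter.mp hb).2)
      exact hΦ h c, Finset.sum_const, nsmul_eq_mul, ← ncard_orbit_eq_index, ← Set.ncard_coe_finset]
    congr 3
    ext b
    simp only [Finset.coe_filter, Finset.mem_univ, true_and, Set.mem_setOf_eq, Quotient.eq'',
      orbitRel_apply]
  rw [← Finset.sum_fiberwise Finset.univ (fun b => (Quotient.mk'' b : orbitRel.Quotient H Ω)),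
    ← Finset.add_sum_erase _ _ (Finset.mem_univ (Quotient.mk'' a)), e, Finset.sum_pair hq, h1, h1, h1,
    index_eq_one.mpr (eq_top_iff.mpr fun h _ => ha h), add_assoc]
  simp

theorem card_dvd_of_left {G : Type*} [Group G] [Finite G] (U : Subgroup G) (S : Set G)
    (h : ∀ u ∈ U, ∀ s ∈ S, u * s ∈ S) : Nat.card U ∣ S.ncard :=
  dvd_ncard_of_invariant' (H := U) _ S (fun u s hs => h u u.2 s hs) fun s _ => by
    rw [show stabilizer U s = ⊥ from eq_bot_iff.mpr fun u hu =>
      Subtype.ext (mul_right_cancel (hu.trans (one_mul s).symm)), index_bot]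

variable {G : Type*} [Group G] [Fintype G] {Ω : Type*} [Fintype Ω] [MulAction G Ω] {ξ : G → ℂ}

open Classical in
/-- sum of `ξ` over the elements carrying `a` to `b` -/
noncomputable def sph (a : Ω) (ξ : G → ℂ) (b : Ω) : ℂ := ∑ y : G, if y • a = b then ξ y else 0

omit [Fintype Ω] in
theorem sph_conj (hξ : IsClassFunction G ξ) (g : G) (a b : Ω) :
    sph (g • a) ξ (g • b) = sph a ξ b := by
  classical
  refine (Fintype.sum_equiv (MulAut.conj g).toEquiv _ _ fun y => ?_).symm
  exact if_congr (by simp [mul_smul]) (hξ y g).symm rfl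

theorem sum_sph (a : Ω) : ∑ b, sph a ξ b = ∑ y, ξ y := by
  classical
  unfold sph
  rw [Finset.sum_comm]
  exact Finset.sum_congr rfl fun y _ => by simp

omit [Fintype Ω] in
theorem sph_self (a : Ω) [Fintype (stabilizer G a)] : sph a ξ a = ∑ y : stabilizer G a, ξ y := by
  classical
  rw [sph, ← Finset.sum_filter]
  exact Finset.sum_subtype _ (by simp) _

omit [Fintype Ω] in
theorem sph_one [IsPretransitive G Ω] (a b : Ω) :
    sph a (fun _ : G => 1) b = Nat.card (stabilizer G a) := by
  classical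
  obtain ⟨g, rfl⟩ := exists_smul_eq G a b
  have : sph a (fun _ : G => 1) (g • a) = sph a (fun _ : G => 1) a :=
    (Fintype.sum_equiv (Equiv.mulLeft g) _ _ fun y => by simp [mul_smul]).symm
  rw [this, sph_self]
  simp

theorem sph_perm [IsPretransitive G Ω] (hξ : IsClassFunction G ξ) (a : Ω) :
    Nat.card G * classInner ξ (permChar G Ω) = Nat.card Ω * sph a ξ a := by
  classical
  have h1 : ∀ b : Ω, sph b ξ b = sph a ξ a := fun b => by
    obtain ⟨g, rfl⟩ := exists_smul_eq G a b
    exact sph_conj hξ g a a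
  rw [card_mul_classInner, Nat.card_eq_fintype_card, ← nsmul_eq_mul, ← Finset.card_univ,
    ← Finset.sum_const, ← Finset.sum_congr rfl fun b _ => h1 b]
  unfold sph
  rw [Finset.sum_comm]
  refine Finset.sum_congr rfl fun y _ => ?_
  rw [permChar, Complex.conj_natCast, ← Finset.sum_filter, Finset.sum_const, nsmul_eq_mul, mul_comm,
    Nat.card_eq_fintype_card, Fintype.card_subtype]
  rfl

theorem sum_sph_sq (hξ : IsIrrCharacter G ξ) (a : Ω) :
    ξ 1 * ∑ b, sph a ξ b * conj (sph a ξ b) = Nat.card G * sph a ξ a := by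
  classical
  have h1 : ∀ y : G, sph a ξ (y • a) = ∑ h : G, if h • a = a then ξ (y * h) else 0 := fun y =>
    (Fintype.sum_equiv (Equiv.mulLeft y) _ _ fun h => by simp [mul_smul]).symm
  have h2 : ∑ b, sph a ξ b * conj (sph a ξ b) = ∑ y, sph a ξ (y • a) * conj (ξ y) := by
    simp only [fun b => show conj (sph a ξ b) = ∑ y : G, if y • a = b then conj (ξ y) else 0 by
      simp [sph, apply_ite], Finset.mul_sum]
    rw [Finset.sum_comm]
    simp
  rw [h2]
  simp only [h1, Finset.sum_mul]
  rw [Finset.sum_comm, sph, Finset.mul_sum, Finset.mul_sum]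
  refine Finset.sum_congr rfl fun h _ => ?_
  split_ifs
  · rw [hξ.sum_apply_mul_mul_conj hξ.isClassFunction, hξ.classInner_self]
    field_simp [hξ.apply_one_ne_zero]
  · simp

theorem sph_eq_zero [IsPretransitive G Ω] (hξ : IsIrrCharacter G ξ) (a b : Ω)
    (h : classInner (permChar G Ω) ξ = 0) : sph a ξ b = 0 := by
  have h1 := sph_perm hξ.isClassFunction a
  haveI : Nonempty Ω := ⟨a⟩
  rw [(classInner_eq_zero_symm _ _).mp h, mul_zero, eq_comm, mul_eq_zero] at h1
  have h2 := sum_sph_sq hξ a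
  rw [h1.resolve_left (by exact_mod_cast Nat.card_pos.ne'), mul_zero, mul_eq_zero] at h2
  have h3 := h2.resolve_left hξ.apply_one_ne_zero
  simp only [Complex.mul_conj] at h3
  have h4 : ∑ b, Complex.normSq (sph a ξ b) = 0 := by exact_mod_cast h3
  exact Complex.normSq_eq_zero.mp ((Finset.sum_eq_zero_iff_of_nonneg fun _ _ =>
    Complex.normSq_nonneg _).mp h4 b (Finset.mem_univ _))

theorem rank_eq [IsPretransitive G Ω] (a : Ω) : classInner (permChar G Ω) (permChar G Ω) =
    Nat.card (orbitRel.Quotient (stabilizer G a) Ω) := by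
  classical
  have h1 := sph_perm (isCharacter_permChar' (G := G) Ω).isClassFunction a
  have h2 := sum_card_fixedBy (G := stabilizer G a) Ω
  have h3 := (stabilizer G a).index_mul_card
  rw [index_stabilizer_of_transitive] at h3
  rw [sph_self, show ∑ y : stabilizer G a, permChar G Ω y = _ from
    (Nat.cast_sum _ _).symm.trans (congrArg Nat.cast h2), ← h3] at h1
  refine mul_left_cancel₀ (natCard_ne_zero' (G := G)) ?_
  rw [← h3, h1]
  push_cast; ring

omit [Fintype Ω] in
theorem sph_class (a b : Ω) (x : G) : ∑ χ : IrrCharacter G,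
    sph a (χ : G → ℂ) b * conj ((χ : G → ℂ) x) =
    {y : G | (y * x * y⁻¹) • a = b}.ncard := by
  classical
  simp only [sph, Finset.sum_mul]
  rw [Finset.sum_comm, Finset.sum_congr rfl (g := fun g => ∑ y : G,
    if y * x * y⁻¹ = g then (if g • a = b then (1 : ℂ) else 0) else 0) fun g _ => ?_,
    Finset.sum_comm, Set.ncard_eq_toFinset_card', Finset.card_eq_sum_ones]
  · simp
  · split_ifs with h
    · rw [sum_irr_mul_conj, natCard_subtype_eq_sum]
    · simp

end Cfsg.Agent.H19
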