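import Cfsg.Agent.H19.P3a
import Cfsg.Agent.H19.GL2Ord
import Cfsg.Agent.S0222
import Cfsg.Agent.S0280

/-! Involutions with at most three fixed points; order bounds -/

set_option autoImplicit false

namespace Cfsg.Agent.H19

open Cfsg Cfsg.Agent.H4 MulAction Subgroup
open scoped MatrixGroups

variable {G : Type*} [Group G] [Finite G] {Ω : Type*} [Finite Ω] [MulAction G Ω]

theorem exists_T {t : G} {s : ℕ} (hs : 2 ^ s ∣ cc t) (h3 : Nat.card (fixedBy Ω t) ≤ 3) :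
    ∃ (T : Subgroup G) (j : ℕ), Nat.card T = 2 ^ j ∧ s ≤ j + 1 ∧
      ∀ y ∈ T, ∀ b ∈ fixedBy Ω t, y • b = b := by
  classical
  obtain ⟨S, hS⟩ := Sylow.exists_subgroup_card_pow_prime 2 hs
  let f : S →* G := (centralizer {t}).subtype.comp S.subtype
  have hf : Function.Injective f := (subtype_injective _).comp (subtype_injective _)
  letI : MulAction S Ω := MulAction.compHom Ω f
  let X : SubMulAction S Ω := ⟨fixedBy Ω t, fun c b hb => by
    have : t * f c = f c * t := (mem_centralizer_singleton_iff.mp c.1.2).symm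
    change t • f c • b = f c • b
    rw [← mul_smul, this, mul_smul, show t • b = b from hb]⟩
  let φ := toPermHom S X
  have h1 : φ.ker.index ∣ 6 := by
    haveI := Fintype.ofFinite X
    rw [index_ker]
    refine (card_subgroup_dvd_card _).trans ?_
    rw [Nat.card_eq_fintype_card, Fintype.card_perm]
    exact Nat.factorial_dvd_factorial (n := 3) (Fintype.card_eq_nat_card ▸ h3)
  obtain ⟨i, -, hi⟩ := (Nat.dvd_prime_pow Nat.prime_two).mp (hS ▸ φ.ker.index_dvd_card)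
  obtain ⟨j, -, hj⟩ := (Nat.dvd_prime_pow Nat.prime_two).mp (hS ▸ φ.ker.card_subgroup_dvd_card)
  have h2 := φ.ker.index_mul_card
  rw [hi, hj, hS, ← pow_add] at h2
  have h4 : i ≤ 1 := by
    by_contra h
    have := (pow_dvd_pow 2 (show 2 ≤ i by omega)).trans (hi ▸ h1)
    omega
  refine ⟨φ.ker.map f, j, by rw [card_map_of_injective hf, hj], ?_, ?_⟩
  · have := Nat.pow_right_injective le_rfl h2; omega
  · rintro _ ⟨c, hc, rfl⟩ b hb
    exact congrArg Subtype.val (DFunLike.congr_fun (MonoidHom.mem_ker.mp hc) (⟨b, hb⟩ : X))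

theorem two_part {s : ℕ} (hn : ¬ 2 ^ (s + 1) ∣ Nat.card G)
    (hs : ∀ t : G, orderOf t = 2 → 2 ^ s ∣ cc t ∧ Nat.card (fixedBy Ω t) ≤ 3) {a : Ω}
    (ha : 2 ^ s ∣ Nat.card (stabilizer G a)) (b : Ω) :
    2 ^ s ∣ (stabilizer (stabilizer G a) b).index ∨ ¬ 4 ∣ (stabilizer (stabilizer G a) b).index := by
  have h1 := (stabilizer (stabilizer G a) b).index_mul_card
  by_cases h2 : 2 ∣ Nat.card (stabilizer (stabilizer G a) b)
  · refine Or.inr fun h4 => hn ?_
    obtain ⟨t, ht⟩ := exists_prime_orderOf_dvd_card' 2 h2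
    rw [← orderOf_coe, ← orderOf_coe] at ht
    obtain ⟨T, j, h5, h6, h7⟩ := exists_T (hs _ ht).1 (hs _ ht).2
    have h8 : T ≤ stabilizer G a := fun y hy => h7 y hy a t.1.2
    have h9 := card_dvd_of_le (show T.subgroupOf (stabilizer G a) ≤ stabilizer (stabilizer G a) b from
      fun y hy => h7 y hy b t.2)
    rw [Nat.card_congr (subgroupOfEquivOfLe h8).toEquiv, h5] at h9
    refine ((pow_dvd_pow 2 (show s + 1 ≤ 2 + j by omega)).trans ?_).trans
      (card_subgroup_dvd_card (stabilizer G a))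
    rw [← h1, pow_add]
    exact mul_dvd_mul h4 h9
  · exact Or.inl ((Nat.Coprime.pow_left s (Nat.prime_two.coprime_iff_not_dvd.mpr h2)).dvd_of_dvd_mul_right
      (h1 ▸ ha))

theorem card_dvd_fix (T : Subgroup G) {f : ℕ} (h : ∀ y ∈ T, y ≠ 1 → Nat.card (fixedBy Ω y) = f) :
    (Nat.card T : ℤ) ∣ Nat.card Ω - f := by
  classical
  haveI := Fintype.ofFinite T
  have h1 := sum_card_fixedBy (G := T) Ω
  rw [← Finset.add_sum_erase _ _ (Finset.mem_univ 1), fixedBy_one_eq_univ, Nat.card_univ,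
    Finset.sum_congr rfl (f := fun y : T => Nat.card (fixedBy Ω y)) (g := fun _ => f)
      fun y hy => h y y.2 fun e =>
      Finset.ne_of_mem_erase hy (Subtype.ext e), Finset.sum_const,
    Finset.card_erase_of_mem (Finset.mem_univ _), Finset.card_univ, Fintype.card_eq_nat_card,
    smul_eq_mul] at h1
  obtain ⟨n, hn⟩ : ∃ n, Nat.card T = n + 1 := ⟨_, (Nat.sub_add_cancel Nat.card_pos).symm⟩
  refine ⟨Nat.card (orbitRel.Quotient T Ω) - f, ?_⟩
  rw [hn] at h1 ⊢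
  rw [Nat.add_sub_cancel] at h1
  zify at h1
  push_cast
  linear_combination h1

theorem fix_of_T {T : Subgroup G} {j : ℕ} (hT : Nat.card T = 2 ^ j) {t : G} {f : ℕ}
    (hf : ∀ u : G, orderOf u = 2 → Nat.card (fixedBy Ω u) = f) (ht : orderOf t = 2)
    (h : ∀ y ∈ T, ∀ b ∈ fixedBy Ω t, y • b = b) : (2 ^ j : ℤ) ∣ Nat.card Ω - f := by
  have := card_dvd_fix (Ω := Ω) T (f := f) fun y hy h1 => by
    obtain ⟨k, -, hk⟩ := (Nat.dvd_prime_pow Nat.prime_two).mp (hT ▸ T.orderOf_dvd_natCard hy)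
    obtain ⟨k, rfl⟩ : ∃ l, k = l + 1 := Nat.exists_eq_succ_of_ne_zero (by
      rintro rfl; exact h1 (orderOf_eq_one_iff.mp hk))
    refine le_antisymm ?_ (hf t ht ▸ Nat.card_mono (Set.toFinite _) fun b hb => h y hy b hb)
    rw [← hf (y ^ 2 ^ k) (by
      rw [orderOf_pow_of_dvd (by positivity) (hk ▸ pow_dvd_pow 2 (by omega)), hk, pow_succ,
        Nat.mul_div_cancel_left _ (by positivity)])]
    exact Nat.card_mono (Set.toFinite _) fun b hb => pow_mem (show y ∈ stabilizer G b from hb) _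
  rwa [hT, Nat.cast_pow] at this

theorem bender_bound [IsSimpleGroup G] (hc : ¬ IsMulCommutative G) {H : Subgroup G}
    (hH : IsStronglyEmbedded H) :
    ∃ n, 2 ^ n ∣ Nat.card G ∧ Nat.card G ≤ (2 ^ n + 1) * 2 ^ n * (2 ^ n - 1) := by
  rcases S0222.result (by by_contra h; push Not at h; exact hc ⟨⟨h⟩⟩) H hH with
    ⟨F, _, _, _, -, e⟩ | ⟨-, m, -, e⟩ | ⟨F, _, _, q, h1, h2, h3, ⟨e⟩⟩
  · obtain ⟨n, -, hn⟩ := FiniteField.card F 2
    have h1 := card_of_PSL hn e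
    obtain ⟨k, hk⟩ : ∃ k, 2 ^ (n : ℕ) = 2 * k + 2 := ⟨2 ^ ((n : ℕ) - 1) - 1, by
      have h2 : 2 ^ (n : ℕ) = 2 * 2 ^ ((n : ℕ) - 1) := by
        rw [← pow_succ', Nat.sub_add_cancel n.pos]
      have := Nat.one_le_two_pow (n := (n : ℕ) - 1)
      omega⟩
    rw [show Nat.gcd 2 (2 ^ (n : ℕ) - 1) = 1 from
      Nat.prime_two.coprime_iff_not_dvd.mpr (by omega), one_mul] at h1
    refine ⟨n, Dvd.intro _ h1.symm, ?_⟩
    rw [h1, ← one_pow 2, Nat.sq_sub_sq, one_pow]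
    exact le_of_eq (by ring)
  · refine ⟨(2 * m + 1) * 2, by rw [e, pow_mul, mul_assoc]; exact dvd_mul_right _ _, ?_⟩
    rw [e, pow_mul, mul_comm (_ + 1)]
    exact Nat.mul_le_mul_left _ (Nat.sub_le_sub_right (Nat.le_self_pow two_ne_zero _) 1)
  · obtain ⟨r, n, hr, -, hn⟩ := (isPrimePow_nat_iff _).mp (Fintype.isPrimePow_card_of_field (α := F))
    obtain rfl : 2 = r := (Nat.prime_dvd_prime_iff_eq Nat.prime_two hr).mp
      (Nat.prime_two.dvd_of_dvd_pow (hn ▸ h1 ▸ (even_iff_two_dvd.mp h2).pow two_ne_zero))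
    obtain ⟨k, -, rfl⟩ := (Nat.dvd_prime_pow Nat.prime_two).mp
      (hn ▸ h1 ▸ dvd_pow_self q two_ne_zero : q ∣ 2 ^ n)
    have h4 := S0280.result h1 3 (by norm_num)
    rw [← Nat.card_congr e.toEquiv] at h4
    simp only [Finset.prod_range_succ, Finset.prod_range_zero] at h4
    norm_num at h4
    have h5 : Nat.gcd 3 (2 ^ k + 1) * Nat.card G =
        (2 ^ k) ^ 3 * (((2 ^ k) ^ 2 - 1) * ((2 ^ k) ^ 3 + 1)) :=
      Nat.eq_of_mul_eq_mul_left (Nat.succ_pos (2 ^ k)) (by linarith)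
    refine ⟨k * 3, ?_, ?_⟩
    · rw [pow_mul]
      exact (Nat.Coprime.pow_left 3 (Nat.Coprime.pow_left k (Nat.Coprime.coprime_dvd_right
        (Nat.gcd_dvd_left 3 _) (by norm_num)))).dvd_of_dvd_mul_left (Dvd.intro _ h5.symm)
    · refine (Nat.le_mul_of_pos_left _ (Nat.gcd_pos_of_pos_left (2 ^ k + 1) three_pos)).trans ?_
      rw [h5, pow_mul, mul_comm (_ - 1), ← mul_assoc, mul_comm (_ + 1)]
      exact Nat.mul_le_mul_left _ (Nat.sub_le_sub_right
        (Nat.pow_le_pow_right (by positivity) (by norm_num)) 1)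

theorem PO.gw {p : ℕ} [hp : Fact p.Prime] {x : G} (h : PO p x ⊥) (hp2 : p ≠ 2) (hG : GW.Conc G) :
    Nat.card G = 2520 ∨ ∃ q, IsPrimePow q ∧ 2 * Nat.card G = q * (q ^ 2 - 1) ∧
      (q = p ∨ q = 2 * p + 1 ∨ q + 1 = 2 * p) := by
  rcases hG with ⟨F, _, _, h1, h2, ⟨e⟩⟩ | ⟨⟨e⟩⟩
  swap
  · left
    rw [Nat.card_congr e.toEquiv, nat_card_alternatingGroup, Nat.card_eq_fintype_card,
      Fintype.card_fin]
    norm_num [Nat.factorial]
  have h3 : 2 * Nat.card G = Fintype.card F * (Fintype.card F ^ 2 - 1) := by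
    rw [← card_of_PSL rfl ⟨e⟩, Nat.gcd_eq_left (by obtain ⟨k, hk⟩ := h1; omega)]
  refine Or.inr ⟨_, Fintype.isPrimePow_card_of_field (α := F), h3, ?_⟩
  obtain ⟨r, hr, n, hr', hn⟩ := FiniteField.card' F
  haveI := Fact.mk hr'
  have h4 : (2 : F) ≠ 0 := fun e => by
    obtain rfl := (Nat.prime_dvd_prime_iff_eq hr' Nat.prime_two).mp
      ((CharP.cast_eq_zero_iff F r 2).mp (by exact_mod_cast e))
    exact (Nat.not_even_iff_odd.mpr h1) (hn ▸ (Nat.even_pow.mpr ⟨even_two, n.ne_zero⟩))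
  have h5 := spec_PSL2_odd r h4
  rw [← spec_congr e] at h5
  have h6 : ∀ m, p ∣ m → (2 * m ∣ Fintype.card F - 1 ∨ 2 * m ∣ Fintype.card F + 1) → m = p :=
    fun m hm hm' => by
      obtain ⟨g, rfl⟩ := (h5 m).mpr (Or.inr hm')
      exact (h.cc_eq hm).1
  obtain ⟨k, hk⟩ := h1
  rcases (h5 p).mp ⟨x, h.ord⟩ with e1 | e1 | e1
  · obtain rfl := (Nat.prime_dvd_prime_iff_eq hp.out hr').mp e1
    left
    have h7 : (n : ℕ) ≤ 1 := by
      by_contra h7
      exact h.nsq ((Nat.Coprime.pow_left 2 ((Nat.coprime_primes hr' Nat.prime_two).mpr hp2)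
        ).dvd_of_dvd_mul_left (h3 ▸ hn ▸ (pow_dvd_pow p (by omega)).mul_right _))
    rw [hn, le_antisymm h7 n.pos, pow_one]
  · have := h6 k (Nat.dvd_of_mul_dvd_mul_left two_pos (by rwa [hk, Nat.add_sub_cancel] at e1))
      (Or.inl (by rw [hk, Nat.add_sub_cancel]))
    omega
  · have := h6 (k + 1) (Nat.dvd_of_mul_dvd_mul_left two_pos (by rwa [hk] at e1))
      (Or.inr (by rw [hk]; rfl))
    omega

end Cfsg.Agent.H19
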