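import Cfsg.Agent.H19.P3b
import Cfsg.Agent.H19.FamD

/-! Degree `3p`, normalizer of order `2p`: the permutation character -/

set_option autoImplicit false

namespace Cfsg.Agent.H19

open Cfsg Cfsg.Agent.H4 Cfsg.Agent.H5 Cfsg.Agent.H6 MulAction Subgroup
open scoped ComplexConjugate

theorem srg_arith {p n₁ n₂ m₁ m₂ : ℤ} (hp : 5 ≤ p) (h1 : 0 < n₁) (h2 : 0 < n₂) (h3 : 0 ≤ m₁)
    (h4 : m₁ ≤ m₂) (hn : n₁ + n₂ + 1 = 3 * p) (ha : 1 + (n₁ - p * m₁) + (n₂ - p * m₂) = 0)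
    (hq : (2 * p - 1) * (n₁ * n₂ + (n₁ - p * m₁) ^ 2 * n₂ + (n₂ - p * m₂) ^ 2 * n₁) =
      3 * p * n₁ * n₂) : ∃ r, 2 * p = 6 * r ^ 2 + 3 * r + 1 ∧ n₁ = p + r ∧ n₂ = 2 * p - 1 - r := by
  have h5 : m₁ + m₂ = 3 := mul_left_cancel₀ (show p ≠ 0 by omega) (by linarith)
  obtain ⟨rfl, rfl⟩ | ⟨rfl, rfl⟩ : m₁ = 0 ∧ m₂ = 3 ∨ m₁ = 1 ∧ m₂ = 2 := by omega
  · exfalso
    have h6 : (2 * p - 1) * (n₂ + n₁ * n₂ + (n₂ - p * 3) ^ 2) = 3 * p * n₂ :=
      mul_left_cancel₀ h1.ne' (by linear_combination hq)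
    have h7 : n₂ ≤ n₁ * n₂ := le_mul_of_one_le_left h2.le h1
    nlinarith [sq_nonneg (n₂ - p * 3)]
  · obtain ⟨r, rfl⟩ : ∃ r, n₁ = p + r := ⟨n₁ - p, by ring⟩
    obtain rfl : n₂ = 2 * p - 1 - r := by linarith
    exact ⟨r, mul_left_cancel₀ (pow_ne_zero 2 (show p ≠ 0 by omega)) (by linear_combination -hq),
      rfl, rfl⟩

variable {G : Type*} [Group G] [Fintype G] {p : ℕ} [hp : Fact p.Prime] {x : G}

theorem PO.isConj_of_inv (h : PO p x ⊥) (hp2 : p ≠ 2) {a b : G} (ha : a * x * a⁻¹ = x⁻¹)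
    (hb : b * x * b⁻¹ = x⁻¹) : IsConj a b := by
  obtain ⟨i, hi⟩ := h.exists_xp (y := a⁻¹ * b) (by
    have : a⁻¹ * b * x * (a⁻¹ * b)⁻¹ = x := by
      rw [mul_inv_rev, ← mul_assoc, mul_assoc a⁻¹ b, mul_assoc a⁻¹, hb, ← ha]; group
    exact (mul_inv_eq_iff_eq_mul.mp this).symm)
  simpa [hi] using isConj_mul_xp h.ord hp2 ha i

variable {Ω : Type*} [Fintype Ω] [MulAction G Ω] [IsPretransitive G Ω]

omit [Fintype G] in
theorem PO.not_dvd_stab [Finite G] (h : PO p x ⊥) (hΩ : Nat.card Ω = 3 * p) (a : Ω) :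
    ¬ p ∣ Nat.card (stabilizer G a) := fun e => h.nsq (by
  rw [← (stabilizer G a).card_mul_index, index_stabilizer_of_transitive, sq, hΩ]
  exact mul_dvd_mul e (dvd_mul_left _ _))

omit [Fintype G] in
theorem PO.perm_xp [Finite G] (h : PO p x ⊥) (hΩ : Nat.card Ω = 3 * p) {i : ZMod p} (hi : i ≠ 0) :
    permChar G Ω (xp x i) = 0 := by
  haveI : IsEmpty (fixedBy Ω (xp x i)) := ⟨fun ⟨a, ha⟩ => h.not_dvd_stab hΩ a
    (orderOf_xp h.ord hi ▸ Subgroup.orderOf_dvd_natCard _ ha)⟩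
  simp [permChar]

omit [Fintype G] in
theorem PO.fix_le [Finite G] (h : PO p x ⊥) (hp2 : p ≠ 2) (hΩ : Nat.card Ω = 3 * p) {J a : G}
    (h1 : IsConj J a) (h2 : a * x * a⁻¹ = x⁻¹) : Nat.card (fixedBy Ω J) ≤ 3 := by
  have hπ := isCharacter_permChar' (G := G) Ω
  have h3 := abs_le_fd h.ord hp2 hπ h2 (v := Nat.card (fixedBy Ω J)) (by
    rw [← isClassFunction_iff_isConj.mp hπ.isClassFunction _ _ h1, permChar, Int.cast_natCast])
  have h4 := p_mul_fd h.ord hπ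
  rw [sg_const fun i hi => h.perm_xp hΩ hi, hπ.charDegree_cast, permChar_one, hΩ, mul_zero, add_zero,
    mul_comm 3] at h4
  have h5 : fd p x (permChar G Ω) = 3 := Nat.eq_of_mul_eq_mul_left hp.out.pos (by exact_mod_cast h4)
  rw [h5, Nat.abs_cast] at h3
  exact_mod_cast h3

theorem PO.sph_dvd (h : PO p x ⊥) (hΩ : Nat.card Ω = 3 * p) (a b : Ω) : ∃ m : ℕ,
    ∑ χ : IrrCharacter G, sph a (χ : G → ℂ) b * conj ((χ : G → ℂ) x) =
      Nat.card (stabilizer (stabilizer G a) b) * p * m := by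
  have h1 := card_dvd_of_left ((stabilizer (stabilizer G a) b).map (stabilizer G a).subtype)
    {y : G | (y * x * y⁻¹) • a = b} (by
      rintro _ ⟨u, hu, rfl⟩ y (hy : _ = _)
      have h2 : (u : G)⁻¹ • a = a := u⁻¹.2
      change ((u : G) * y * x * ((u : G) * y)⁻¹) • a = b
      rw [show (u : G) * y * x * ((u : G) * y)⁻¹ = u * (y * x * y⁻¹) * (u : G)⁻¹ by group, mul_smul, h2,
        mul_smul, hy]
      exact hu)
  have h2 := card_dvd_of_left (zpowers x) {y : G | (y * x * y⁻¹) • a = b}⁻¹ (by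
    rintro _ ⟨i, rfl⟩ y (hy : _ = _)
    change ((x ^ i * y)⁻¹ * x * (x ^ i * y)⁻¹⁻¹) • a = b
    rw [← hy]; congr 1; group)
  rw [card_map_of_injective (subtype_injective _)] at h1
  rw [Nat.card_zpowers, h.ord, Set.ncard_inv] at h2
  obtain ⟨m, hm⟩ := Nat.Coprime.mul_dvd_of_dvd_of_dvd (hp.out.coprime_iff_not_dvd.mpr fun e =>
    h.not_dvd_stab hΩ a (e.trans (card_subgroup_dvd_card _))).symm h1 h2
  exact ⟨m, by rw [sph_class, hm]; push_cast; rfl⟩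

theorem PO.srg (h : PO p x ⊥) (h5 : 5 ≤ p) (hΩ : Nat.card Ω = 3 * p) {χ : IrrCharacter G}
    (c1 : χ ≠ irrOne G) (hd : charDegree (χ : G → ℂ) + 1 = 2 * p) (hx : (χ : G → ℂ) x = -1)
    (hm : classInner (permChar G Ω) χ = 1) (hr : classInner (permChar G Ω) (permChar G Ω) = 3)
    (ho : ∀ ξ : IrrCharacter G, ξ ≠ irrOne G → ξ ≠ χ →
      classInner (permChar G Ω) ξ = 0 ∨ (ξ : G → ℂ) x = 0) (a : Ω) : ∃ (r : ℤ) (b : Ω),
      2 * p = 6 * r ^ 2 + 3 * r + 1 ∧ (stabilizer (stabilizer G a) b).index = 2 * p - 1 - r ∧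
        ∃ n : ℕ, n = p + r := by
  classical
  obtain ⟨b₁, b₂, hb⟩ := exists_three (H := stabilizer G a) a (fun u => u.2)
    (by rw [rank_eq a] at hr; exact_mod_cast hr)
  have h0 : ∀ (u : stabilizer G a) b, sph a (χ : G → ℂ) (u • b) = sph a (χ : G → ℂ) b := fun u b => by
    have := sph_conj χ.2.isClassFunction (u : G) a b
    rwa [show (u : G) • a = a from u.2] at this
  have hG := (stabilizer G a).index_mul_card
  rw [index_stabilizer_of_transitive, hΩ] at hG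
  have hH : (Nat.card (stabilizer G a) : ℂ) ≠ 0 := natCard_ne_zero'
  have h1 : sph a (χ : G → ℂ) a = Nat.card (stabilizer G a) := by
    have := sph_perm χ.2.isClassFunction a
    rw [← classInner_conj_symm, hm, ← hG, hΩ] at this
    refine mul_left_cancel₀ (a := ((3 * p : ℕ) : ℂ)) (by exact_mod_cast (by omega : 3 * p ≠ 0)) ?_
    rw [← this]; simp
  have h2 : ∀ b, ∃ m : ℕ, sph a (χ : G → ℂ) b = Nat.card (stabilizer (stabilizer G a) b) *
      (((stabilizer (stabilizer G a) b).index : ℤ) - p * m : ℤ) := fun b => by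
    obtain ⟨m, e⟩ := h.sph_dvd hΩ a b
    rw [Finset.sum_eq_add (irrOne G) χ c1.symm (fun ξ _ hξ => by
      rcases ho ξ hξ.1 hξ.2 with e | e
      · rw [sph_eq_zero ξ.2 a b e, zero_mul]
      · simp [e]) (by simp) (by simp), hx, show sph a (irrOne G : G → ℂ) b = _ from sph_one a b,
      ← (stabilizer (stabilizer G a) b).index_mul_card] at e
    refine ⟨m, ?_⟩
    simp only [irrOne_apply, map_one, map_neg] at e
    push_cast at e ⊢
    linear_combination -e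
  obtain ⟨m₁, e₁⟩ := h2 b₁
  obtain ⟨m₂, e₂⟩ := h2 b₂
  have h3 := hb (fun _ => 1) fun _ _ => rfl
  have h4 := hb _ h0
  have h6 := sum_sph_sq χ.2 a
  rw [hb (fun b => sph a (χ : G → ℂ) b * conj (sph a (χ : G → ℂ) b)) fun u b => by rw [h0], h1, e₁, e₂,
    ← hG, ← χ.2.isCharacter.charDegree_cast, eq_sub_of_add_eq (congrArg (Nat.cast (R := ℂ)) hd ▸
      (Nat.cast_succ _).symm : (charDegree (χ : G → ℂ) : ℂ) + 1 = (2 * p : ℕ))] at h6
  rw [sum_sph, show ∑ y, (χ : G → ℂ) y = 0 by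
    simpa [irr_classInner, c1] using (card_mul_classInner (χ : G → ℂ) (irrOne G : G → ℂ)).symm, h1, e₁, e₂] at h4
  simp only [Finset.sum_const, Finset.card_univ, Fintype.card_eq_nat_card, hΩ, nsmul_eq_mul,
    mul_one] at h3
  simp only [map_mul, Complex.conj_natCast, map_intCast] at h6
  have k₁ := congrArg (Nat.cast (R := ℂ)) (stabilizer (stabilizer G a) b₁).index_mul_card
  have k₂ := congrArg (Nat.cast (R := ℂ)) (stabilizer (stabilizer G a) b₂).index_mul_card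
  have p₁ := Nat.pos_of_ne_zero (stabilizer (stabilizer G a) b₁).index_ne_zero_of_finite
  have p₂ := Nat.pos_of_ne_zero (stabilizer (stabilizer G a) b₂).index_ne_zero_of_finite
  generalize hn₁ : (stabilizer (stabilizer G a) b₁).index = n₁ at *
  generalize hn₂ : (stabilizer (stabilizer G a) b₂).index = n₂ at *
  have q1 : (n₁ : ℤ) + n₂ + 1 = 3 * p := by
    exact_mod_cast (show (n₁ : ℂ) + n₂ + 1 = (3 * p : ℕ) by linear_combination -h3)
  have q2 : 1 + ((n₁ : ℤ) - p * m₁) + (n₂ - p * m₂) = 0 := by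
    have : (1 : ℂ) + ((n₁ : ℤ) - p * m₁ : ℤ) + ((n₂ : ℤ) - p * m₂ : ℤ) = 0 :=
      mul_left_cancel₀ hH (by
        push_cast at *; linear_combination -h4 - (n₁ - p * m₁) * k₁ - (n₂ - p * m₂) * k₂)
    exact_mod_cast this
  have q3 : (2 * p - 1 : ℤ) * (n₁ * n₂ + (n₁ - p * m₁) ^ 2 * n₂ + (n₂ - p * m₂) ^ 2 * n₁) =
      3 * p * n₁ * n₂ := by
    have : (2 * p - 1 : ℂ) * (n₁ * n₂ + (n₁ - p * m₁) ^ 2 * n₂ + (n₂ - p * m₂) ^ 2 * n₁) =
        3 * p * n₁ * n₂ := mul_left_cancel₀ (pow_ne_zero 2 hH) (by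
      push_cast at *
      generalize (Nat.card (stabilizer (stabilizer G a) b₁) : ℂ) = u at *
      generalize (Nat.card (stabilizer (stabilizer G a) b₂) : ℂ) = v at *
      generalize (Nat.card (stabilizer G a) : ℂ) = w at *
      linear_combination n₁ * n₂ * h6 - (2 * p - 1) * ((n₁ - p * m₁) ^ 2 * n₂ * (n₁ * u + w) * k₁ +
        (n₂ - p * m₂) ^ 2 * n₁ * (n₂ * v + w) * k₂))
    exact_mod_cast this
  rcases le_total m₁ m₂ with e | e
  · obtain ⟨r, r1, r2, r3⟩ := srg_arith (by omega) (by omega) (by omega) (by omega)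
      (by exact_mod_cast e) q1 q2 q3
    exact ⟨r, b₂, r1, hn₂ ▸ r3, _, r2⟩
  · obtain ⟨r, r1, r2, r3⟩ := srg_arith (p := p) (n₁ := n₂) (n₂ := n₁) (m₁ := m₂) (m₂ := m₁) (by omega)
      (by omega) (by omega) (by omega) (by exact_mod_cast e) (by omega) (by omega) (by linarith)
    exact ⟨r, b₁, r1, hn₁ ▸ r3, _, r2⟩

end Cfsg.Agent.H19
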