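import Cfsg.Agent.H19.P3c

/-! Degree `3p`, normalizer of order `2p`: the three cases -/

set_option autoImplicit false

namespace Cfsg.Agent.H19

open Cfsg Cfsg.Agent.H4 Cfsg.Agent.H5 Cfsg.Agent.H6 MulAction Subgroup
open scoped ComplexConjugate

variable {G : Type*} [Group G] [Fintype G] {p : ℕ} [hp : Fact p.Prime] {x : G}

namespace BD
variable {h : PO p x ⊥} (B : BD h) {χ : IrrCharacter G} (c1 : χ ≠ irrOne G) (c2 : χ ∈ B.X)
  (c3 : B.a χ = B.ε) (c4 : (B.z : ℤ) = charDegree (χ : G → ℂ) + B.ε)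
  (c5 : ∀ F : IrrCharacter G → ℂ, ∑ ψ ∈ B.X, B.a ψ * F ψ = F (irrOne G) + B.ε * F χ)

include c1 c2 c3 c5 in
theorem key2 {θ : G → ℂ} (hθ : IsClassFunction G θ) (hv : ∀ i : ZMod p, i ≠ 0 → θ (xp x i) = -1)
    (h1 : classInner θ (fun _ => 1) = 0) (r : (ZMod p)ˣ ⧸ EE h.ord) :
    classInner θ (B.μ r) = classInner θ χ + B.ε := by
  classical
  have e : classInner (θ + (B.ε : ℂ) • (χ : G → ℂ))
      ((B.μ r : G → ℂ) - χ - (B.ε : ℂ) • (irrOne G : G → ℂ)) = 0 := by
    rw [classInner_def, Finset.sum_eq_zero fun g _ => ?_, mul_zero]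
    by_cases hg : p ∣ orderOf g
    · have := B.valX_sing c2 hg
      obtain ⟨t, i, hi, y, hy, rfl⟩ := h.exists_conj_of_dvd hg
      rw [Pi.add_apply, Pi.smul_apply, this, hθ, Subgroup.mem_bot.mp hy, mul_one, hv i hi, c3]
      rcases B.hε with e | e <;> simp [e]
    · simp [B.μ_eq r 1 hg, B.μ_two c5 hg, irrOne]
  have e1 : χ ≠ B.μ r := fun e => B.notX r (e ▸ c2)
  rw [classInner_sub_right, classInner_sub_right, classInner_smul_right, classInner_add_left,
    classInner_add_left, classInner_add_left, classInner_smul_left, classInner_smul_left,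
    classInner_smul_left, irr_classInner, irr_classInner, irr_classInner, if_neg e1, if_pos rfl,
    if_neg c1, show classInner θ (irrOne G : G → ℂ) = 0 from h1] at e
  linear_combination e

include c1 c5 in
theorem mem_X {ξ : IrrCharacter G} (hξ : ξ ∈ B.X) : ξ = irrOne G ∨ ξ = χ := by
  classical
  by_contra e
  push Not at e
  have := c5 fun ψ => if ψ = ξ then 1 else 0
  simp only [mul_ite, mul_one, mul_zero, Finset.sum_ite_eq', if_pos hξ, if_neg e.1.symm,
    if_neg e.2.symm, add_zero, Int.cast_eq_zero] at this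
  have := B.ha ξ hξ
  omega

include c1 c2 c3 c4 c5 in
theorem invol3 [IsSimpleGroup G] (hc : ¬ IsMulCommutative G) (hp2 : p ≠ 2) {J : G}
    (hJ : orderOf J = 2) : ∃ k : ℕ, 0 < k ∧ (χ : G → ℂ) J = charDegree (χ : G → ℂ) - 4 * k ∧
      (∀ r, (B.μ r : G → ℂ) J = B.z - 4 * k) ∧
      p * cc J ^ 2 * (charDegree (χ : G → ℂ) * B.z) = Nat.card G * (4 * k) ^ 2 ∧
      p * |(charDegree (χ : G → ℂ) : ℤ) - 4 * k| ≤ charDegree (χ : G → ℂ) + (p - 1) * B.ε ∧
      p * |(B.z : ℤ) - 4 * k| ≤ B.z - B.ε * eN h.ord ∧ ∃ a, IsConj J a ∧ a * x * a⁻¹ = x⁻¹ := by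
  have hd : ¬ p ∣ orderOf J := fun e => hp2
    ((Nat.prime_dvd_prime_iff_eq hp.out Nat.prime_two).mp (hJ ▸ e))
  obtain ⟨k, h1, -, h2⟩ := invol_val hc c1 hJ
  obtain ⟨v, h3, h4, a, h5, h6⟩ := B.invol_two c4 c5 hp2 hJ (by
    rw [h2, ← χ.2.isCharacter.charDegree_cast, ne_eq, sub_eq_self]; simp [h1.ne'])
  obtain rfl : v = charDegree (χ : G → ℂ) - 4 * k := by rw [h2] at h3; exact_mod_cast h3.symm
  have h7 : ∀ r, (B.μ r : G → ℂ) J = B.z - 4 * k := fun r => by
    rw [B.μ_eq r 1 hd, B.μ_two c5 hd, h2, show (B.z : ℂ) = charDegree (χ : G → ℂ) + B.ε by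
      exact_mod_cast c4]
    ring
  refine ⟨k, h1, h2, h7, by rw [sub_sub_cancel] at h4; exact_mod_cast h4, ?_, ?_, a, h5, h6⟩
  · rw [← c3, ← B.fd_X c2]
    exact mul_le_mul_of_nonneg_left (abs_le_fd h.ord hp2 χ.2.isCharacter h6 (by
      rw [← isClassFunction_iff_isConj.mp χ.2.isClassFunction _ _ h5, h3])) (by positivity)
  · rw [← B.fd_μ 1]
    exact mul_le_mul_of_nonneg_left (abs_le_fd h.ord hp2 (B.μ 1).2.isCharacter h6 (by
      rw [← isClassFunction_iff_isConj.mp (B.μ 1).2.isClassFunction _ _ h5, h7]; push_cast; rfl))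
      (by positivity)

end BD

variable {Ω : Type*} [Fintype Ω] [MulAction G Ω] [IsPretransitive G Ω]

theorem PO.three [IsSimpleGroup G] (hc : ¬ IsMulCommutative G) (h : PO p x ⊥) (he : eN h.ord = 2)
    (h5 : 5 ≤ p) (hΩ : Nat.card Ω = 3 * p) :
    (∀ J J' : G, orderOf J = 2 → orderOf J' = 2 → IsConj J J') ∧
    (∀ J : G, orderOf J = 2 → Nat.card (fixedBy Ω J) ≤ 3) ∧
    ((∃ B : BD h, B.ε = -1 ∧ B.z + 2 = p ∧ ∀ J : G, orderOf J = 2 →
        p * cc J ^ 2 * (p - 2) = Nat.card G * (p - 1)) ∨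
      ((∀ J : G, orderOf J = 2 → (p * cc J ^ 2 * (2 * p - 1) : ℤ) = Nat.card G * (2 * p - 2)) ∧
        ∀ a : Ω, ∃ (r : ℤ) (b : Ω), 2 * p = 6 * r ^ 2 + 3 * r + 1 ∧
          (stabilizer (stabilizer G a) b).index = 2 * p - 1 - r ∧ ∃ n : ℕ, n = p + r) ∨
      (3 * p * (3 * p - 1) * (3 * p - 2) ∣ Nat.card G ∧ ∀ J : G, orderOf J = 2 →
        4 ∣ (3 * p - Nat.card (fixedBy Ω J) : ℤ) ∧ (p * cc J ^ 2 * ((3 * p - 1) * (3 * p - 2)) : ℤ) =
          Nat.card G * (3 * p - Nat.card (fixedBy Ω J)) ^ 2)) := by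
  classical
  haveI : Nonempty Ω := (Nat.card_pos_iff.mp (by omega)).1
  haveI := Fintype.ofFinite ((ZMod p)ˣ ⧸ EE h.ord)
  have hG := commutator_eq_top_of_simple hc
  have hp2 : p ≠ 2 := by omega
  have hpo := hp.out.eq_two_or_odd.resolve_left hp2
  obtain ⟨B⟩ := h.nonempty_BD
  obtain ⟨χ, c1, c2, c3, c4, c5⟩ := B.exists_two he
  have hI := fun J => B.invol3 c1 c2 c3 c4 c5 hc hp2 (J := J)
  refine ⟨fun J J' hJ hJ' => ?_, fun J hJ => ?_, ?_⟩
  · obtain ⟨-, -, -, -, -, -, -, a, h1, h2⟩ := hI J hJ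
    obtain ⟨-, -, -, -, -, -, -, b, h3, h4⟩ := hI J' hJ'
    exact (h1.trans (h.isConj_of_inv hp2 h2 h4)).trans h3.symm
  · obtain ⟨-, -, -, -, -, -, -, a, h1, h2⟩ := hI J hJ
    exact h.fix_le hp2 hΩ h1 h2
  have hθ := isCharacter_permChar_sub_one (G := G) Ω
  have hθ' : ∀ g, permChar G Ω g = (permChar G Ω - fun _ => 1 : G → ℂ) g + 1 := by simp
  have hθi : ∀ ξ : IrrCharacter G, ξ ≠ irrOne G →
      classInner (permChar G Ω) ξ = classInner (permChar G Ω - fun _ => 1) ξ := fun ξ hξ => by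
    rw [classInner_sub_left, show classInner (fun _ => 1) (ξ : G → ℂ) = 0 from
      (irr_classInner (irrOne G) ξ).trans (if_neg hξ.symm), sub_zero]
  have h1 : charDegree (permChar G Ω - fun _ => 1) + 1 = 3 * p := by
    have := hθ.charDegree_cast
    rw [Pi.sub_apply, permChar_one, eq_sub_iff_add_eq, hΩ] at this
    exact_mod_cast this
  have h0 : classInner (permChar G Ω - fun _ => 1) (fun _ => 1) = 0 := by
    rw [classInner_sub_left, classInner_permChar_one, card_orbits_eq_one, classInner_one_one]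
    simp
  have key := B.key2 c1 c2 c3 c5 hθ.isClassFunction (fun i hi => by simp [h.perm_xp hΩ hi]) h0
  have hr : classInner (permChar G Ω) (permChar G Ω) = classInner (permChar G Ω - fun _ => 1)
      (permChar G Ω - fun _ => 1) + 1 := by
    rw [classInner_permChar_sub_one, classInner_permChar_permChar, sub_add_cancel]
  generalize (permChar G Ω - fun _ => 1) = θ at *
  obtain ⟨m, hm⟩ := hθ.classInner_nat χ.2.isCharacter
  obtain ⟨m', hm'⟩ := hθ.classInner_nat (B.μ 1).2.isCharacter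
  have h2 := B.le_degX hG c2 c1
  have ht := eN_mul' h.ord
  rcases B.hε with e | e
  · exfalso
    have h3 : ∀ ξ ∈ Finset.univ.image B.μ, classInner θ ξ ≠ 0 := by
      simp only [Finset.mem_image, Finset.mem_univ, true_and]
      rintro _ ⟨r, rfl⟩
      rw [key, hm, e]; exact_mod_cast (by omega : m + 1 ≠ 0)
    have h4 : ∑ ξ ∈ Finset.univ.image B.μ, charDegree (ξ : G → ℂ) = tN h.ord * B.z := by
      rw [Finset.sum_image fun _ _ _ _ e => B.inj e]
      simp [B.deg_μ, tN]
    have h6 := sum_degree_le hθ _ h3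
    have h7 := h2.2.1 (c3.trans e)
    have h8 := B.degX χ c2
    rw [c3, e] at h8
    rw [h4] at h6
    rw [he] at ht
    have h9 : tN h.ord = 2 := by
      have := Nat.mul_le_mul_left (tN h.ord) (show p + 2 ≤ B.z by omega)
      by_contra h9
      nlinarith [show 3 ≤ tN h.ord by omega]
    obtain rfl : p = 5 := by omega
    have h10 : B.z = 7 := by
      have := mod_eq_one_of_modEq hp.out.one_lt h8
      rw [h9] at h6
      omega
    have h11 := eq_sum_of_degree hθ _ h3 (by rw [h4, h9]; omega)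
    obtain ⟨J, hJ⟩ := exists_prime_orderOf_dvd_card' 2 (even_card_of_simple hc)
    obtain ⟨k, -, -, h12, -, -, h13, -⟩ := hI J hJ
    have h14 := hθ' J
    rw [h11, Finset.sum_image fun _ _ _ _ e => B.inj e, Finset.sum_apply, permChar] at h14
    simp only [h12, Finset.sum_const, Finset.card_univ, Fintype.card_eq_nat_card, nsmul_eq_mul] at h14
    rw [show Nat.card ((ZMod 5)ˣ ⧸ EE h.ord) = 2 from h9, h10] at h14
    rw [h10, e, he] at h13
    have h15 : (Nat.card (fixedBy Ω J) : ℤ) = 2 * (7 - 4 * k) + 1 := by exact_mod_cast h14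
    have := le_abs_self ((7 : ℤ) - 4 * k)
    push_cast at h13
    omega
  have h3 : m = m' + 1 := by
    have := key 1
    rw [hm, hm', e] at this
    exact_mod_cast (show (m : ℂ) = m' + 1 by push_cast at this; linear_combination -this)
  have h3' : classInner θ χ ≠ 0 := by rw [hm]; exact_mod_cast (by omega : m ≠ 0)
  have h4 := sum_degree_le hθ {χ} (by simpa using h3')
  rw [Finset.sum_singleton] at h4
  obtain ⟨k, hk⟩ := Nat.dvd_of_mod_eq_zero (mod_eq_zero_of_modEq (c3.trans e ▸ B.degX χ c2))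
  have hx : (χ : G → ℂ) x = -1 := by
    rw [← xp_one h.ord, B.valX' c2 one_ne_zero, c3, e]; simp
  rw [e] at c4 hI
  obtain rfl | rfl | rfl : k = 1 ∨ k = 2 ∨ k = 3 := by
    have : k < 4 := by
      by_contra h
      have := Nat.mul_le_mul_left p (not_lt.mp h)
      omega
    rcases k with _ | _ | _ | _ | k <;> omega
  · refine Or.inl ⟨B, e, by omega, fun J hJ => ?_⟩
    obtain ⟨k, -, -, -, h6, h7, -⟩ := hI J hJ
    have h8 : |(charDegree (χ : G → ℂ) : ℤ) - 4 * k| < 1 :=
      lt_of_mul_lt_mul_left (a := (p : ℤ)) (by omega) (by omega)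
    rw [show 4 * k = p - 1 by rw [abs_lt] at h8; omega, show charDegree (χ : G → ℂ) = p - 1 by omega,
      show B.z = p - 2 by omega] at h6
    exact Nat.eq_of_mul_eq_mul_left (show 0 < p - 1 by omega) (by linarith)
  · refine Or.inr (Or.inl ⟨fun J hJ => ?_, ?_⟩)
    · obtain ⟨k, -, -, -, h6, h7, -⟩ := hI J hJ
      have h8 : |(charDegree (χ : G → ℂ) : ℤ) - 4 * k| < 2 :=
        lt_of_mul_lt_mul_left (a := (p : ℤ)) (by omega) (by omega)
      zify at h6
      rw [show (4 * k : ℤ) = 2 * p - 2 by rw [abs_lt] at h8; omega, c4,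
        show (charDegree (χ : G → ℂ) : ℤ) = 2 * p - 1 by omega] at h6
      exact mul_left_cancel₀ (show (2 * p - 2 : ℤ) ≠ 0 by omega) (by linear_combination h6)
    have hψ := hθ.sub_irr χ.2 h3'
    have h6 : charDegree (θ - (χ : G → ℂ)) = p := by
      have := hψ.charDegree_cast
      rw [Pi.sub_apply, ← hθ.charDegree_cast, ← χ.2.isCharacter.charDegree_cast, eq_sub_iff_add_eq]
        at this
      have : charDegree (θ - (χ : G → ℂ)) + charDegree (χ : G → ℂ) = charDegree θ := by exact_mod_cast this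
      omega
    have h7 : classInner (θ - (χ : G → ℂ)) χ = 0 := by
      by_contra h7
      have := sum_degree_le hψ {χ} (by simpa using h7)
      rw [Finset.sum_singleton] at this
      omega
    have h8 : classInner θ χ = 1 := by
      rwa [classInner_sub_left, χ.2.classInner_self, sub_eq_zero] at h7
    have h9 : ∀ ξ : IrrCharacter G, ξ ≠ irrOne G → ξ ≠ χ → classInner θ ξ ≠ 0 →
        ξ ∉ B.X ∧ ∀ q, B.μ q ≠ ξ := fun ξ e1 e2 e3 =>
      ⟨fun e4 => (B.mem_X c1 c5 e4).elim e1 e2, fun q e4 => e3 (by rw [← e4, key, h8, e]; simp)⟩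
    obtain ⟨ψ, h10⟩ : ∃ ψ : IrrCharacter G, classInner (θ - (χ : G → ℂ)) ψ ≠ 0 := by
      by_contra h10
      push Not at h10
      have := hψ.charDegree_cast
      rw [hψ.isClassFunction.apply_eq_sum, h6] at this
      simp only [h10, zero_mul, Finset.sum_const_zero, Nat.cast_eq_zero] at this
      omega
    have h11 : ψ ≠ χ := fun e => h10 (e ▸ h7)
    have h12 : classInner (θ - (χ : G → ℂ)) ψ = classInner θ ψ := by
      rw [classInner_sub_left, irr_classInner, if_neg h11.symm, sub_zero]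
    obtain ⟨h13, h14⟩ := h9 ψ (fun e => h10 (by rw [h12, e]; exact h0)) h11 (h12 ▸ h10)
    have h15 := eq_sum_of_degree hψ {ψ} (by simpa using h10) (by
      rw [Finset.sum_singleton, h6]
      exact Nat.le_of_dvd ψ.2.charDegree_pos (Dvd.intro _ (B.fd_other h13 h14)))
    rw [Finset.sum_singleton, sub_eq_iff_eq_add] at h15
    refine h.srg h5 hΩ c1 (by omega) hx ((hθi χ c1).trans h8) ?_ fun ξ e1 e2 => ?_
    · rw [hr, h15, classInner_add_left, classInner_add_right, classInner_add_right, irr_classInner,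
        irr_classInner, irr_classInner, irr_classInner, if_neg h11, if_neg h11.symm]
      norm_num
    · rw [hθi ξ e1, or_iff_not_imp_left]
      intro e3
      rw [← xp_one h.ord]
      exact B.other' (h9 ξ e1 e2 e3).1 (h9 ξ e1 e2 e3).2 one_ne_zero
  · have h6 := eq_sum_of_degree hθ {χ} (by simpa using h3') (by rw [Finset.sum_singleton]; omega)
    rw [Finset.sum_singleton] at h6
    refine Or.inr (Or.inr ⟨?_, fun J hJ => ?_⟩)
    · obtain ⟨a⟩ := ‹Nonempty Ω›
      have h7 := (stabilizer G a).index_dvd_card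
      have h8 := (B.dvd_X c2).trans (Dvd.intro_left _ h.card_G.symm)
      have h9 := B.dvd_z.trans (Dvd.intro_left _ h.card_G.symm)
      rw [index_stabilizer_of_transitive, hΩ] at h7
      obtain ⟨n, hn⟩ : ∃ n, 3 * p = 2 * n + 3 := ⟨(3 * p - 3) / 2, by omega⟩
      rw [show charDegree (χ : G → ℂ) = 2 * n + 2 by omega] at h8
      rw [show B.z = 2 * n + 1 by omega] at h9
      rw [hn] at h7 ⊢
      refine Nat.Coprime.mul_dvd_of_dvd_of_dvd (Nat.Coprime.mul_left ?_ ?_)
        (Nat.Coprime.mul_dvd_of_dvd_of_dvd ?_ h7 h8) h9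
      · exact (Nat.coprime_self_add_left (m := 2 * n + 1) (n := 2)).mpr (by simp)
      · exact (Nat.coprime_self_add_left (m := 2 * n + 1) (n := 1)).mpr (by simp)
      · exact (Nat.coprime_self_add_left (m := 2 * n + 2) (n := 1)).mpr (by simp)
    · obtain ⟨k, -, h7, -, h8, -⟩ := hI J hJ
      have h9 := hθ' J
      rw [h6, h7, permChar] at h9
      have h10 : (Nat.card (fixedBy Ω J) : ℤ) = charDegree (χ : G → ℂ) - 4 * k + 1 := by
        exact_mod_cast h9
      zify at h8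
      rw [c4, show (charDegree (χ : G → ℂ) : ℤ) = 3 * p - 1 by omega] at h8
      rw [show (3 * p - Nat.card (fixedBy Ω J) : ℤ) = 4 * k by omega]
      exact ⟨dvd_mul_right _ _, by linear_combination h8⟩

end Cfsg.Agent.H19
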