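import Cfsg.Agent.H19.P3d

/-! Degree `3p`, normalizer of order `2p`: the primitive case -/

set_option autoImplicit false

namespace Cfsg.Agent.H19

open Cfsg Cfsg.Agent.H4 MulAction Subgroup
open scoped MatrixGroups

variable {G : Type*} [Group G] [Fintype G] {Ω : Type*} [Fintype Ω] [MulAction G Ω]

theorem IsoF.psl {p : ℕ} (hp : 2 < p) (h : IsoF p G) : ∃ (m : ℕ) (F : Type) (_ : Field F)
    (_ : Fintype F), Fintype.card F = 2 ^ m ∧ p = 2 ^ m + 1 ∧ Nonempty (G ≃* PSL(2, F)) ∧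
      ∀ g : G, 2 ∣ orderOf g → g * g = 1 := by
  obtain ⟨m, F, _, _, h1, h2, ⟨e⟩⟩ := h
  haveI := charP_of_card_eq_prime_pow h2
  obtain ⟨e'⟩ := nonempty_PSL2_equiv_SL2 (F := F)
  refine ⟨m, F, _, _, h2, h1, ⟨e.trans e'.symm⟩, fun g hg => ?_⟩
  have h3 : 2 ∣ 2 ^ m := dvd_pow_self 2 (by rintro rfl; omega)
  have h4 := orderOf_SL2_dvd_two (e g)
  rw [e.orderOf_eq, h2] at h4
  rcases h4 with h4 | h4 | h4
  · rw [← sq, ← orderOf_dvd_iff_pow_eq_one]; exact h4
  all_goals have := hg.trans h4; omega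

theorem fix_conj {a b : G} (h : IsConj a b) : Nat.card (fixedBy Ω a) = Nat.card (fixedBy Ω b) := by
  exact Nat.cast_injective (R := ℂ)
    (isClassFunction_iff_isConj.mp (isCharacter_permChar' (G := G) Ω).isClassFunction _ _ h)

variable [IsSimpleGroup G] (hc : ¬ IsMulCommutative G)
  (hj : ∀ J J' : G, orderOf J = 2 → orderOf J' = 2 → IsConj J J')
include hc hj

theorem two_setup (S : Sylow 2 G) : ∃ s w, Nat.card (S : Subgroup G) = 2 ^ s ∧
    Nat.card G = 2 ^ s * w ∧ ¬ 2 ∣ w ∧ ¬ 2 ^ (s + 1) ∣ Nat.card G ∧ (∃ J : G, orderOf J = 2) ∧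
      ∀ J : G, orderOf J = 2 → ∃ c, cc J = 2 ^ s * c ∧ ¬ 2 ∣ c := by
  obtain ⟨s, hs⟩ := S.isPGroup'.exists_card_eq
  have h1 := (S : Subgroup G).card_mul_index
  rw [hs] at h1
  have h2 : ¬ 2 ^ (s + 1) ∣ Nat.card G := fun e => S.not_dvd_index
    (Nat.dvd_of_mul_dvd_mul_left (Nat.two_pow_pos s) (by rwa [h1, ← pow_succ]))
  obtain ⟨J, hJ, h3⟩ := exists_central_invol (G := G) (a := s) (by
    rintro rfl; exact h2 (even_card_of_simple hc)) (Dvd.intro _ h1)
  refine ⟨s, _, hs, h1.symm, S.not_dvd_index, h2, ⟨J, hJ⟩, fun J' hJ' => ?_⟩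
  obtain ⟨c, h4⟩ := h3
  refine ⟨c, (cc_conj (hj J' J hJ' hJ)).trans h4, fun e => h2 (Dvd.dvd.trans ?_ (cc_dvd J))⟩
  rw [show cc J = _ from h4, pow_succ]
  exact Nat.mul_dvd_mul_left _ e

theorem conc_of_three (S : Sylow 2 G) (hS : Nat.card (S : Subgroup G) = 8)
    (hf : ∀ J : G, orderOf J = 2 → Nat.card (fixedBy Ω J) ≤ 3) (hΩ : Nat.card Ω % 8 = 7) :
    GW.Conc G := by
  refine conc_of_eight hc S hS (by_contra fun h => ?_)
  push Not at h
  obtain ⟨J, hJ⟩ := exists_prime_orderOf_dvd_card' 2 (even_card_of_simple hc)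
  have h1 := card_dvd_fix (Ω := Ω) (S : Subgroup G) fun y hy h1 =>
    fix_conj (hj y J (orderOf_eq_prime (h y hy) h1) hJ)
  have := hf J hJ
  rw [hS] at h1
  omega

variable [IsPretransitive G Ω] {p : ℕ} [hp : Fact p.Prime] {x : G} (h : PO p x ⊥) (h5 : 5 ≤ p)
  (hΩ : Nat.card Ω = 3 * p) (hf : ∀ J : G, orderOf J = 2 → Nat.card (fixedBy Ω J) ≤ 3)
include h5 hΩ hf

theorem not_prim_one (hF : IsoF p G)
    (hC : ∀ J : G, orderOf J = 2 → p * cc J ^ 2 * (p - 2) = Nat.card G * (p - 1)) :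
    ¬ IsPreprimitive G Ω := fun hP => by
  obtain ⟨m, F, _, _, h1, h2, h3, h4⟩ := hF.psl (by omega)
  have hG := (card_of_PSL_even ⟨m, F, _, _, h1, h2, by omega, h3⟩).1
  have h6 : ∀ J : G, orderOf J = 2 → cc J = p - 1 := fun J hJ => by
    have := hC J hJ
    rw [hG] at this
    exact Nat.pow_left_injective two_ne_zero (Nat.eq_of_mul_eq_mul_left
      (show 0 < p * (p - 2) from Nat.mul_pos (by omega) (by omega)) (by linarith))
  have h7 : ∀ J : G, orderOf J = 2 → ∀ g ∈ centralizer ({J} : Set G), g * g = 1 := fun J hJ g hg => by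
    have e : Commute g J := mem_centralizer_singleton_iff.mp hg
    have := ((Commute.refl g).inv_left.mul_right e.inv_left).orderOf_mul_dvd_mul_orderOf
    rw [inv_mul_cancel_left, hJ, orderOf_inv] at this
    refine (Nat.prime_two.dvd_mul.mp this).elim (h4 g) fun e' => ?_
    have := h4 _ e'
    rwa [mul_assoc, ← mul_assoc J, ← e.eq, mul_assoc, h4 J hJ.symm.dvd, mul_one] at this
  have h8 : ∀ J : G, orderOf J = 2 → ∀ g ∈ centralizer ({J} : Set G), g ≠ 1 →
      centralizer ({g} : Set G) = centralizer {J} := fun J hJ g hg h1 => by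
    refine (eq_of_le_of_card_ge (fun y hy => mem_centralizer_singleton_iff.mpr ?_)
      ((h6 g (orderOf_eq_prime (by rw [sq, h7 J hJ g hg]) h1)).trans (h6 J hJ).symm).le).symm
    rw [← inv_eq_of_mul_eq_one_right (h7 J hJ _ (mul_mem hy hg)), mul_inv_rev,
      inv_eq_of_mul_eq_one_right (h7 J hJ g hg), inv_eq_of_mul_eq_one_right (h7 J hJ y hy)]
  obtain ⟨J, hJ⟩ := exists_prime_orderOf_dvd_card' 2 (even_card_of_simple hc)
  have hJ1 : J ≠ 1 := fun e => by simp [e] at hJ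
  have hpo := hp.out.eq_two_or_odd
  obtain ⟨a, ha⟩ := (IsPGroup.of_card (n := m) ((h6 J hJ).trans (by omega)) :
    IsPGroup 2 (centralizer ({J} : Set G))).nonempty_fixed_point_of_prime_not_dvd_card Ω (by omega)
  have h9 := card_fixedBy_formula a J
  have h10 := (stabilizer G a).index_mul_card
  rw [index_stabilizer_of_transitive, hΩ, hG, mul_comm 3, mul_assoc, mul_assoc] at h10
  have h11 := Nat.eq_of_mul_eq_mul_left hp.out.pos h10
  have h12 : (centralizer ({J} : Set G) : Set G) \ {1} ⊆ {g | IsConj J g ∧ g ∈ stabilizer G a} :=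
    fun g hg => ⟨hj J g hJ (orderOf_eq_prime (by rw [sq, h7 J hJ g hg.1]) hg.2), ha ⟨g, hg.1⟩⟩
  have h13 : ((centralizer ({J} : Set G) : Set G) \ {1}).ncard = p - 2 := by
    rw [Set.ncard_diff_singleton_of_mem (one_mem _), ← Nat.card_coe_set_eq]
    exact congrArg (· - 1) (h6 J hJ)
  have h14 := Set.ncard_le_ncard h12
  rw [show Nat.card (centralizer ({J} : Set G)) = _ from h6 J hJ] at h9
  have h15 : Nat.card (fixedBy Ω J) * (p - 2) = 3 * {g | IsConj J g ∧ g ∈ stabilizer G a}.ncard :=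
    Nat.eq_of_mul_eq_mul_left (show 0 < p - 1 by omega) (by
      rw [← Nat.card_coe_set_eq]
      change _ = _ * (_ * Nat.card {g // IsConj J g ∧ g ∈ stabilizer G a})
      nlinarith)
  have h16 := Nat.mul_le_mul_right (p - 2) (hf J hJ)
  have h17 := Set.eq_of_subset_of_ncard_le h12 (by omega)
  have h18 : ∀ g, g⁻¹ * J * g ∈ stabilizer G a →
      g ∈ normalizer (centralizer ({J} : Set G) : Set G) := fun g hg => by
    have e : g⁻¹ * J * g ∈ (centralizer ({J} : Set G) : Set G) \ {1} :=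
      h17 ▸ ⟨isConj_iff.mpr ⟨g⁻¹, by simp⟩, hg⟩
    refine mem_normalizer_iff.mpr fun y => ?_
    conv_lhs => rw [← h8 J hJ _ e.1 e.2]
    simp only [mem_centralizer_singleton_iff]
    refine ⟨fun e => ?_, fun e => ?_⟩
    · calc _ = g * (y * (g⁻¹ * J * g)) * g⁻¹ := by group
        _ = _ := by rw [e]; group
    · calc _ = g⁻¹ * (g * y * g⁻¹ * J) * g := by group
        _ = _ := by rw [e]; group
  haveI : Nontrivial Ω := Finite.one_lt_card_iff_nontrivial.mp (by omega)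
  have h19 := ((isCoatom_stabilizer_iff_preprimitive G a).mpr hP).le_iff.mp (fun g hg =>
    h18 g (mul_mem (mul_mem (inv_mem hg) (ha ⟨J, mem_centralizer_singleton_iff.mpr rfl⟩)) hg))
  rcases h19 with e | e
  · rcases (normalizer_eq_top_iff.mp e).eq_bot_or_eq_top with e' | e'
    · exact hJ1 (mem_bot.mp (e' ▸ mem_centralizer_singleton_iff.mpr rfl))
    · exact hJ1 (mem_bot.mp (center_eq_bot_of_simple hc ▸ mem_center_iff.mpr fun g =>
        mem_centralizer_singleton_iff.mp (e' ▸ mem_top g)))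
  · have h20 := card_fixedBy_mul_card_stabilizer a J
    have h21 : Nat.card {g : G // g⁻¹ * J * g ∈ (stabilizer G a : Set G)} ≤ Nat.card (stabilizer G a) :=
      Nat.card_mono (Set.toFinite _) fun g hg => e ▸ h18 g hg
    have h22 : Nat.card (fixedBy Ω J) = 3 :=
      Nat.eq_of_mul_eq_mul_right (show 0 < p - 2 by omega) (by omega)
    have : 0 < Nat.card (stabilizer G a) := Nat.card_pos
    rw [h22] at h20
    omega

include h in
theorem PO.case_two
    (hC : ∀ J : G, orderOf J = 2 → (p * cc J ^ 2 * (2 * p - 1) : ℤ) = Nat.card G * (2 * p - 2))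
    (hr : ∀ a : Ω, ∃ (r : ℤ) (b : Ω), 2 * p = 6 * r ^ 2 + 3 * r + 1 ∧
      (stabilizer (stabilizer G a) b).index = 2 * p - 1 - r ∧ ∃ n : ℕ, n = p + r) :
    p = 5 ∧ Nat.card G = 360 := by
  obtain ⟨S⟩ : Nonempty (Sylow 2 G) := inferInstance
  obtain ⟨s, w, h1, h2, h3, h4, ⟨J, hJ⟩, h6⟩ := two_setup hc hj S
  obtain ⟨a⟩ : Nonempty Ω := (Nat.card_pos_iff.mp (by omega)).1
  obtain ⟨r, b, r1, r2, -⟩ := hr a
  obtain ⟨c, h7, h8⟩ := h6 J hJ
  have hpo := hp.out.eq_two_or_odd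
  have h9 := hC J hJ
  have h10 : (2 ^ s * (p * c ^ 2 * (2 * p - 1)) : ℤ) = w * (2 * p - 2) :=
    mul_left_cancel₀ (pow_ne_zero s two_ne_zero) (by rw [h7, h2] at h9; push_cast at h9; linarith)
  obtain ⟨o, ho⟩ : (2 ^ s : ℤ) ∣ 2 * p - 2 := IsCoprime.dvd_of_dvd_mul_left
    (Nat.isCoprime_iff_coprime.mpr (Nat.prime_two.coprime_iff_not_dvd.mpr h3)).pow_left
      (Dvd.intro _ h10)
  have h11 : Odd o := by
    rw [ho, mul_left_comm (w : ℤ)] at h10
    refine (Int.odd_mul.mp (show Odd ((w : ℤ) * o) from ?_)).2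
    rw [← mul_left_cancel₀ (pow_ne_zero s two_ne_zero) h10]
    exact ((Int.odd_iff.mpr (by omega)).mul (Int.odd_iff.mpr (by omega)).pow).mul
      (Int.odd_iff.mpr (by omega))
  obtain ⟨t, rfl⟩ : ∃ t, r = 4 * t + 1 := ⟨r / 4, by
    by_contra e
    obtain ⟨t, rfl⟩ : ∃ t, r = 4 * t + 3 := ⟨r / 4, by omega⟩
    have : (4 * t + 3) ^ 2 = 8 * (2 * t ^ 2 + 3 * t + 1) + 1 := by ring
    omega⟩
  have h12 := (two_part h4 (fun J hJ => ⟨(h6 J hJ).elim fun c e => Dvd.intro _ e.1.symm, hf J hJ⟩)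
    (a := a) ((Nat.Coprime.pow_left s (Nat.prime_two.coprime_iff_not_dvd.mpr
      (show ¬ 2 ∣ 3 * p by omega))).dvd_of_dvd_mul_left (by
        rw [← hΩ, ← index_stabilizer_of_transitive G a, index_mul_card, h2]
        exact dvd_mul_right _ _)) b).resolve_right (by omega)
  have h13 : (2 ^ s : ℤ) ∣ 2 ^ 3 := by
    have e := Int.natCast_dvd_natCast.mpr h12
    rw [r2, Nat.cast_pow] at e
    have e' := (Dvd.intro _ ho.symm).sub (((Dvd.intro _ ho.symm).sub e).mul_right (3 * (8 * t + 5)))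
    rwa [show (2 * p - 2 - (2 * p - 2 - (2 * p - 1 - (4 * t + 1))) * (3 * (8 * t + 5)) : ℤ) = 2 ^ 3 by
      linear_combination r1] at e'
  have h14 : GW.Conc G := by
    have := (pow_dvd_pow_iff two_ne_zero (by norm_num [Int.isUnit_iff])).mp h13
    obtain ⟨o, rfl⟩ := h11
    interval_cases s
    · omega
    · omega
    · exact conc_of_card_four hc S h1
    · exact conc_of_three hc hj S h1 hf (by omega)
  have h15 : (2 * p - 1 : ℤ) ∣ Nat.card G := IsCoprime.dvd_of_dvd_mul_right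
    ⟨1, -1, by ring⟩ (Dvd.intro_left _ h9)
  rcases h.gw (by omega) h14 with e | ⟨q, hq, e, e'⟩
  · exfalso
    have h16 := orderOf_dvd_natCard x
    rw [e] at h9 h15
    rw [h.ord, e, show 2520 = 2 ^ 3 * 3 ^ 2 * 5 * 7 by norm_num] at h16
    have h17 : p = 5 := by
      rcases (Nat.Prime.dvd_mul hp.out).mp h16 with e1 | e1
      · rcases (Nat.Prime.dvd_mul hp.out).mp e1 with e1 | e1
        · rcases (Nat.Prime.dvd_mul hp.out).mp e1 with e1 | e1 <;>
            have := Nat.le_of_dvd (by norm_num) (hp.out.dvd_of_dvd_pow e1) <;> omega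
        · have := Nat.le_of_dvd (by norm_num) e1; omega
      · obtain rfl := (Nat.prime_dvd_prime_iff_eq hp.out (by norm_num)).mp e1
        norm_num at h15
    subst h17
    have h18 : cc J ^ 2 = 448 := by zify; push_cast at h9; linarith
    have : 22 ≤ cc J := by by_contra h; nlinarith [not_le.mp h]
    nlinarith
  have h16 := h15.mul_left 2
  have h17 : (2 * Nat.card G : ℤ) = q * (q ^ 2 - 1) := by
    have := Nat.one_le_pow 2 q hq.pos
    zify [this] at e; exact e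
  rw [h17] at h16
  rcases e' with rfl | rfl | e'
  · have e1 := (Dvd.intro (4 * q ^ 2 + 2 * q - 3 : ℤ) rfl).sub (h16.mul_left 8)
    rw [show ((2 * q - 1) * (4 * q ^ 2 + 2 * q - 3) - 8 * (q * (q ^ 2 - 1)) : ℤ) = 3 by ring] at e1
    have := Int.le_of_dvd (by norm_num) e1
    omega
  · have e1 := h16.sub (Dvd.intro (4 * p ^ 2 + 8 * p + 6 : ℤ) rfl)
    rw [show (((2 * p + 1 : ℕ) : ℤ) * (((2 * p + 1 : ℕ) : ℤ) ^ 2 - 1) -
      (2 * p - 1) * (4 * p ^ 2 + 8 * p + 6) : ℤ) = 6 by push_cast; ring] at e1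
    have := Int.le_of_dvd (by norm_num) e1
    omega
  obtain ⟨l, n, hl, -, rfl⟩ := (isPrimePow_nat_iff _).mp hq
  have h18 : ((l ^ n : ℕ) : ℤ) = 3 * ((4 * t + 1) * (8 * t + 3)) := by
    have : ((l ^ n : ℕ) : ℤ) + 1 = 2 * p := by exact_mod_cast e'
    linear_combination this + r1
  obtain rfl : 3 = l := (Nat.prime_dvd_prime_iff_eq Nat.prime_three hl).mp
    (Nat.prime_three.dvd_of_dvd_pow (Int.natCast_dvd_natCast.mp (Dvd.intro _ h18.symm)))
  obtain ⟨i, -, hi⟩ := (Nat.dvd_prime_pow Nat.prime_three).mp (Int.natAbs_dvd_natAbs.mpr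
    (h18 ▸ (dvd_mul_right _ _).mul_left 3 : 4 * t + 1 ∣ ((3 ^ n : ℕ) : ℤ)))
  obtain ⟨j, -, hj'⟩ := (Nat.dvd_prime_pow Nat.prime_three).mp (Int.natAbs_dvd_natAbs.mpr
    (h18 ▸ (dvd_mul_left _ _).mul_left 3 : 8 * t + 3 ∣ ((3 ^ n : ℕ) : ℤ)))
  obtain rfl : t = 0 := by
    rcases i with _ | i
    · omega
    rcases j with _ | j
    · omega
    rw [pow_succ] at hi hj'
    omega
  refine ⟨by omega, ?_⟩
  rw [show 3 ^ n = 9 by omega] at e
  omega

include h in
theorem PO.case_three (hd : 3 * p * (3 * p - 1) * (3 * p - 2) ∣ Nat.card G)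
    (hC : ∀ J : G, orderOf J = 2 → 4 ∣ (3 * p - Nat.card (fixedBy Ω J) : ℤ) ∧
      (p * cc J ^ 2 * ((3 * p - 1) * (3 * p - 2)) : ℤ) =
        Nat.card G * (3 * p - Nat.card (fixedBy Ω J)) ^ 2) : False := by
  obtain ⟨S⟩ : Nonempty (Sylow 2 G) := inferInstance
  obtain ⟨s, w, h1, h2, h3, h4, ⟨J, hJ⟩, h6⟩ := two_setup hc hj S
  obtain ⟨a⟩ : Nonempty Ω := (Nat.card_pos_iff.mp (by omega)).1
  obtain ⟨c, h7, h8⟩ := h6 J hJ
  have hpo := hp.out.eq_two_or_odd
  obtain ⟨h9, h10⟩ := hC J hJ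
  have h11 := hf J hJ
  have h12 := Nat.le_of_dvd Nat.card_pos hd
  have hw : IsCoprime (2 ^ s : ℤ) w :=
    (Nat.isCoprime_iff_coprime.mpr (Nat.prime_two.coprime_iff_not_dvd.mpr h3)).pow_left
  have h13 : (2 ^ s * (p * c ^ 2 * ((3 * p - 1) * (3 * p - 2))) : ℤ) =
      w * (3 * p - Nat.card (fixedBy Ω J)) ^ 2 :=
    mul_left_cancel₀ (pow_ne_zero s two_ne_zero) (by rw [h7, h2] at h10; push_cast at h10; linarith)
  obtain e | e : Nat.card (fixedBy Ω J) = 1 ∨ Nat.card (fixedBy Ω J) = 3 := by omega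
  · have hG := (stabilizer G a).index_mul_card
    rw [index_stabilizer_of_transitive, hΩ] at hG
    obtain ⟨n, h14, h15⟩ := bender_bound hc (H := stabilizer G a) ⟨fun e' => by
        rw [e', card_top] at hG
        have := Nat.eq_of_mul_eq_mul_right Nat.card_pos (hG.trans (one_mul _).symm)
        omega,
      even_iff_two_dvd.mpr ((Nat.prime_two.dvd_mul.mp (hG ▸ even_card_of_simple hc)).resolve_left
        (by omega)), fun g hg => Nat.not_even_iff_odd.mp fun e' => hg (by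
        obtain ⟨t, ht⟩ := exists_prime_orderOf_dvd_card' 2 (even_iff_two_dvd.mp e')
        rw [← orderOf_coe] at ht
        have e1 := (stabilizer_smul_eq_stabilizer_map_conj g a).ge t.2.2
        have := (Nat.card_eq_one_iff_unique.mp ((fix_conj (hj t J ht hJ)).trans e)).1
        exact congrArg Subtype.val (this.elim (⟨_, e1⟩ : fixedBy Ω (t : G)) ⟨a, t.2.1⟩))⟩
    rw [e] at h10 h13
    have h16 : (2 ^ s : ℤ) ∣ 3 * p - 1 := hw.dvd_of_dvd_mul_left (Dvd.intro (p * c ^ 2 * (3 * p - 2))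
      (mul_left_cancel₀ (show (3 * p - 1 : ℤ) ≠ 0 by omega) (by push_cast at h13; linarith)))
    have h17 : 2 ^ n ≤ 3 * p - 1 := by
      have e1 : n ≤ s := by
        by_contra e1
        exact h4 ((pow_dvd_pow 2 (by omega)).trans h14)
      have e2 := Int.le_of_dvd (by omega) ((pow_dvd_pow 2 e1).trans h16)
      zify [show 1 ≤ 3 * p by omega]
      exact e2
    have h18 : Nat.card G = 3 * p * (3 * p - 1) * (3 * p - 2) := le_antisymm (h15.trans
      (Nat.mul_le_mul (Nat.mul_le_mul (by omega) h17) (by omega))) h12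
    zify [show 1 ≤ 3 * p by omega, show 2 ≤ 3 * p by omega] at h18
    have h19 : (cc J ^ 2 : ℤ) = 3 * (3 * p - 1) ^ 2 := mul_left_cancel₀
      (show (p * ((3 * p - 1) * (3 * p - 2)) : ℤ) ≠ 0 from mul_ne_zero (by omega)
        (mul_ne_zero (by omega) (by omega))) (by rw [h18] at h10; push_cast at h10; linarith)
    obtain ⟨u, hu⟩ := Int.prime_three.dvd_of_dvd_pow (Dvd.intro _ h19.symm)
    have := Int.prime_three.dvd_of_dvd_pow (n := 2) (a := 3 * p - 1)
      ⟨u ^ 2, by rw [hu] at h19; linarith⟩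
    omega
  obtain ⟨T, j, t1, t2, t3⟩ := exists_T (Dvd.intro _ h7.symm) h11
  have t4 := fix_of_T t1 (fun u hu => (fix_conj (hj u J hu hJ)).trans e) hJ t3
  rw [e] at h9 h13
  obtain ⟨u, hu⟩ : ∃ u : ℤ, p = 4 * u + 1 := ⟨p / 4, by omega⟩
  have h14 : Odd (p * c ^ 2 * ((6 * u + 1) * (3 * p - 2)) : ℤ) :=
    ((Int.odd_iff.mpr (by omega)).mul (Int.odd_iff.mpr (by omega)).pow).mul
      ((Int.odd_iff.mpr (by omega)).mul (Int.odd_iff.mpr (by omega)))
  have h15 : (2 ^ s * (p * c ^ 2 * ((6 * u + 1) * (3 * p - 2))) : ℤ) = 2 ^ 3 * (9 * w * u ^ 2) := by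
    push_cast at h13
    rw [show (3 * p - 1 : ℤ) = 2 * (6 * u + 1) by omega, show (3 * p - 3 : ℤ) = 12 * u by omega] at h13
    linarith
  generalize (p * c ^ 2 * ((6 * u + 1) * (3 * p - 2)) : ℤ) = o at h14 h15
  obtain ⟨s, rfl⟩ : ∃ s', s = 3 + s' := Nat.exists_eq_add_of_le (by
    obtain ⟨o, rfl⟩ := h14
    by_contra e1
    push Not at e1
    interval_cases s <;> omega)
  obtain ⟨v, rfl⟩ : (2 ^ s : ℤ) ∣ u := by
    have e1 := (pow_dvd_pow 2 (show 2 + s ≤ j by omega)).trans t4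
    rw [hΩ, show (((3 * p : ℕ) : ℤ) - (3 : ℕ)) = 2 ^ 2 * (3 * u) by push_cast; omega, pow_add,
      mul_dvd_mul_iff_left (by norm_num)] at e1
    exact IsCoprime.dvd_of_dvd_mul_left (IsCoprime.pow_left ⟨-1, 1, by norm_num⟩) e1
  obtain rfl : o = 2 ^ s * (v ^ 2 * (9 * w)) := mul_left_cancel₀ (pow_ne_zero (3 + s) two_ne_zero)
    (by rw [h15]; ring)
  obtain rfl : s = 0 := by
    by_contra e1
    exact Int.not_even_iff_odd.mpr (Int.odd_mul.mp h14).1 (even_two.pow_of_ne_zero e1)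
  have h16 := Int.odd_iff.mp ((Int.odd_pow' two_ne_zero).mp (Int.odd_mul.mp (Int.odd_mul.mp h14).2).1)
  obtain ⟨n, hn⟩ : ∃ n, 3 * p = n + 2 := ⟨_, (Nat.sub_add_cancel (by omega)).symm⟩
  rw [hn, show n + 2 - 1 = n + 1 by omega, Nat.add_sub_cancel] at h12
  rcases h.gw (by omega) (conc_of_three hc hj S h1 hf (by omega)) with e1 | ⟨q, hq, e1, e2⟩
  · have := Nat.mul_le_mul (Nat.mul_le_mul (show 15 ≤ n + 2 by omega) (show 14 ≤ n + 1 by omega))
      (show 13 ≤ n by omega)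
    omega
  · have e3 : q * (q ^ 2 - 1) ≤ n * n ^ 2 := Nat.mul_le_mul (by omega)
      ((Nat.sub_le _ _).trans (Nat.pow_le_pow_left (by omega) 2))
    nlinarith

end Cfsg.Agent.H19
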