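import Mathlib.Tactic
import Mathlib.Algebra.BigOperators.Ring.Finset

/-! Integer vectors of small norm: the combinatorics behind the order formula for `C(t) = GL₂(3)` -/

set_option autoImplicit false

namespace Cfsg.Agent.H19

open Finset

variable {ι : Type*} [Fintype ι] {a b d : ι → ℤ} {i j k : ι}

/-- the standard inner product -/
def ip (a b : ι → ℤ) : ℤ := ∑ i, a i * b i

theorem ip_comm (a b : ι → ℤ) : ip a b = ip b a := sum_congr rfl fun _ _ => mul_comm _ _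

theorem pm {n : ℤ} (h : ip a a = n) (hn : n ≤ 3) (i : ι) : a i = 0 ∨ a i = 1 ∨ a i = -1 := by
  have : a i * a i ≤ ip a a :=
    single_le_sum (f := fun i => a i * a i) (fun _ _ => mul_self_nonneg _) (mem_univ i)
  have h1 : a i ≤ 1 := by nlinarith
  have h2 : -1 ≤ a i := by nlinarith
  omega

theorem card_supp {n : ℕ} (h : ip a a = n) (hn : n ≤ 3) : (univ.filter (a · ≠ 0)).card = n := by
  have : ((univ.filter (a · ≠ 0)).card : ℤ) = n := by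
    rw [← h, card_filter, Nat.cast_sum]
    exact sum_congr rfl fun i _ => by
      obtain e | e | e := pm h (by exact_mod_cast hn) i <;> simp [e]
  exact_mod_cast this

theorem ex_more {n : ℕ} (h : ip a a = n) (hn : n ≤ 3) (s : Finset ι) (hs : s.card < n) :
    ∃ j, a j ≠ 0 ∧ j ∉ s := by
  obtain ⟨j, h1, h2⟩ := exists_mem_notMem_of_card_lt_card (hs.trans_eq (card_supp h hn).symm)
  exact ⟨j, (mem_filter.mp h1).2, h2⟩

theorem sum_supp {M : Type*} [AddCommMonoid M] {n : ℕ} (h : ip a a = n) (hn : n ≤ 3) {s : Finset ι}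
    (hs : s.card = n) (h1 : ∀ i ∈ s, a i ≠ 0) (F : ι → M) (hF : ∀ l, a l = 0 → F l = 0) :
    ∑ l, F l = ∑ l ∈ s, F l := by
  rw [eq_of_subset_of_card_le (fun i hi => mem_filter.mpr ⟨mem_univ _, h1 i hi⟩)
    ((card_supp h hn).trans hs.symm).le]
  exact (sum_filter_of_ne (p := (a · ≠ 0)) fun l _ e e' => e (hF l e')).symm

/-- `a` has support `{i, j, k}` -/
structure S3 (a : ι → ℤ) (i j k : ι) : Prop where
  ij : i ≠ j
  ik : i ≠ k
  jk : j ≠ k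
  hi : a i ≠ 0
  hj : a j ≠ 0
  hk : a k ≠ 0
  n : ip a a = 3

theorem S3.sum (h : S3 a i j k) {M : Type*} [AddCommMonoid M] (F : ι → M)
    (hF : ∀ l, a l = 0 → F l = 0) : ∑ l, F l = F i + F j + F k := by
  classical
  have := h.ij; have := h.ik; have := h.jk
  rw [sum_supp (n := 3) h.n le_rfl (s := {i, j, k}) (card_eq_three.mpr ⟨_, _, _, h.ij, h.ik, h.jk, rfl⟩)
    (by simp [h.hi, h.hj, h.hk]) F hF, sum_insert (by simp [*]), sum_pair h.jk, add_assoc]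

theorem S3.ip (h : S3 a i j k) (b : ι → ℤ) : ip a b = a i * b i + a j * b j + a k * b k :=
  h.sum _ fun l e => by simp [e]

theorem S3.swap (h : S3 a i j k) : S3 a i k j := ⟨h.ik, h.ij, h.jk.symm, h.hi, h.hk, h.hj, h.n⟩

theorem S3.zero (h : S3 a i j k) {l : ι} (h1 : l ≠ i) (h2 : l ≠ j) (h3 : l ≠ k) : a l = 0 := by
  classical
  simpa [h1.symm, h2.symm, h3.symm] using h.sum (fun x => if x = l then a x else 0) fun _ e => by simp [e]

theorem ex3 (h : ip a a = 3) (ij : i ≠ j) (hi : a i ≠ 0) (hj : a j ≠ 0) : ∃ k, S3 a i j k := by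
  classical
  obtain ⟨k, h1, h2⟩ := ex_more (n := 3) h le_rfl {i, j} (card_le_two.trans_lt (by decide))
  simp only [mem_insert, mem_singleton, not_or] at h2
  exact ⟨k, ij, Ne.symm h2.1, Ne.symm h2.2, hi, hj, h1, h⟩

theorem ex3' (h : ip a a = 3) (hi : a i ≠ 0) : ∃ j k, S3 a i j k := by
  obtain ⟨j, h1, h2⟩ := ex_more (n := 3) h le_rfl {i} (by simp)
  exact ⟨j, ex3 h (fun e => h2 (by simp [e])) hi h1⟩

theorem ip2 (h : ip a a = 2) (ij : i ≠ j) (hi : a i ≠ 0) (hj : a j ≠ 0) (b : ι → ℤ) :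
    ip a b = a i * b i + a j * b j := by
  classical
  exact (sum_supp (n := 2) h (by decide) (card_pair ij) (by simp [hi, hj]) _
    fun l e => by simp [e]).trans (sum_pair ij)

theorem van {o u v : ι} (h : S3 a o u v) (ho : a o = 1) (hd : d o = 1) (h1 : ip a d = 0)
    (hb : ip b b = 2) (h2 : ip b d = 0) (h3 : b o = 0) (h4 : ip a b = 0) : b u = 0 ∧ b v = 0 := by
  rw [h.ip, ho, hd] at h1
  rw [h.ip, h3] at h4
  have hu := h.hj
  have hv := h.hk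
  by_cases e : b u = 0
  · exact ⟨e, by simpa [e, hv] using h4⟩
  have e' : b v ≠ 0 := fun e' => e (by simpa [e', hu] using h4)
  rw [ip2 hb h.jk e e'] at h2
  obtain a1 | a1 | a1 := pm h.n le_rfl u <;> obtain a2 | a2 | a2 := pm h.n le_rfl v <;>
    obtain a3 | a3 | a3 := pm hb (by decide) u <;> obtain a4 | a4 | a4 := pm hb (by decide) v <;>
    simp only [a1, a2, a3, a4] at * <;> omega

theorem one_of {x y z w : ℤ} (hx : x = 0 ∨ x = 1 ∨ x = -1) (hy : y = 0 ∨ y = 1 ∨ y = -1)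
    (hz : z = 0 ∨ z = 1 ∨ z = -1) (hw : w = 0 ∨ w = 1 ∨ w = -1) (h0 : x ≠ 0) (h1 : z ≠ 0)
    (h : x * y + z * w = 1) : (y = x ∧ w = 0) ∨ (y = 0 ∧ w = z) := by
  obtain rfl | rfl | rfl := hx <;> obtain rfl | rfl | rfl := hz <;> omega

theorem fin_arith {d e : ℤ} {K : ℚ} (hK : 0 < K) (d0 : d ≠ 0) (d1 : d + 1 ≠ 0) (e0 : e ≠ 0)
    (e1 : e + 1 ≠ 0) (f0 : d + e + 1 ≠ 0) (h8 : 8 ∣ d + 6)
    (h5 : (1 : ℚ) + 4 / d - 9 / (d + 1) = 2 * K)
    (h3 : (1 : ℚ) - 9 / (e + 1) + 16 / e = 4 * K)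
    (h4 : (9 : ℚ) / (d + 1) + 16 / e - 1 / (d + e + 1) = 4 * K) :
    d + e + 2 = 0 ∨ K = 2304 / 7920 ∨ (d = 26 ∧ e = 12 ∧ K = 2304 / 5616) := by
  have d0' : (d : ℚ) ≠ 0 := by exact_mod_cast d0
  have d1' : (d : ℚ) + 1 ≠ 0 := by exact_mod_cast d1
  have e0' : (e : ℚ) ≠ 0 := by exact_mod_cast e0
  have e1' : (e : ℚ) + 1 ≠ 0 := by exact_mod_cast e1
  have f0' : (d : ℚ) + e + 1 ≠ 0 := by exact_mod_cast f0
  have h6 : (d + e + 2) * ((d - 8) * (e - 8) - 72) = 0 := by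
    have : (1 : ℚ) - 9 / (e + 1) = 9 / (d + 1) - 1 / (d + e + 1) := by linarith
    field_simp at this
    exact_mod_cast (by linear_combination this : ((d : ℚ) + e + 2) * ((d - 8) * (e - 8) - 72) = 0)
  refine (mul_eq_zero.mp h6).imp_right fun h7 => ?_
  have h9 : |d - 8| ≤ 72 := Int.le_of_dvd (by decide) ((abs_dvd _ _).mpr ⟨e - 8, by linarith⟩)
  have key : ∀ d ∈ Icc (-64 : ℤ) 80, d - 8 ∣ 72 → 8 ∣ d + 6 → d = 10 ∨ d = 26 ∨ d = 2 := by
    decide +kernel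
  obtain rfl | rfl | rfl := key d (mem_Icc.mpr (by rw [abs_le] at h9; omega)) ⟨e - 8, by linarith⟩ h8
  · left; norm_num at h5; linarith
  · right; norm_num at h5; exact ⟨rfl, by omega, by linarith⟩
  · norm_num at h5; linarith

theorem gram {a1 a2 a3 a4 a5 T : ι → ℤ} {o : ι} {K : ℚ} (hK : 0 < K) (hd : ∀ i, 0 < d i)
    (o0 : d o = 1) (o1 : a1 o = 0) (o2 : a2 o = 0) (o3 : a3 o = 1) (o4 : a4 o = 0) (o5 : a5 o = 1)
    (g11 : ip a1 a1 = 2) (g22 : ip a2 a2 = 2) (g33 : ip a3 a3 = 3) (g44 : ip a4 a4 = 3)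
    (g55 : ip a5 a5 = 3) (g21 : ip a2 a1 = -1) (g31 : ip a3 a1 = 0) (g41 : ip a4 a1 = 0)
    (g51 : ip a5 a1 = 0) (g32 : ip a3 a2 = 0) (g42 : ip a4 a2 = 0) (g52 : ip a5 a2 = 1)
    (g34 : ip a3 a4 = 1) (g53 : ip a5 a3 = 1) (g54 : ip a5 a4 = -1)
    (d1 : ip a1 d = 0) (d2 : ip a2 d = 0) (d3 : ip a3 d = 0) (d4 : ip a4 d = 0) (d5 : ip a5 d = 0)
    (hT : ∀ i, T i = 2 * a1 i + 4 * a2 i + 3 * a3 i + a4 i - 2 * a5 i)
    (h8 : ∀ i, 8 ∣ d i + 2 * a1 i + 4 * a2 i + 5 * a3 i - a4 i + 2 * a5 i)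
    (e3 : ∑ i, (T i : ℚ) ^ 2 * a3 i / d i = 4 * K) (e4 : ∑ i, (T i : ℚ) ^ 2 * a4 i / d i = 4 * K)
    (e5 : ∑ i, (T i : ℚ) ^ 2 * a5 i / d i = 2 * K) :
    (∃ z, d z = 1 ∧ a1 z = 0 ∧ a3 z = 0 ∧ a4 z = 1) ∨ K = 2304 / 7920 ∨ (K = 2304 / 5616 ∧
      ∃ v z, a1 v = 0 ∧ a2 v = 0 ∧ a3 v = 1 ∧ a4 v = 1 ∧ a5 v = 0 ∧ d v = 12 ∧
        a1 z = 0 ∧ a2 z = 0 ∧ a3 z = 0 ∧ a4 z = -1 ∧ a5 z = 0 ∧ d z = 39) := by
  have m1 := pm g11 (by decide)
  have m2 := pm g22 (by decide)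
  have m3 := pm g33 le_rfl
  have m4 := pm g44 le_rfl
  have m5 := pm g55 le_rfl
  obtain ⟨p, q, s5, p2, q2⟩ : ∃ p q, S3 a5 o p q ∧ a2 p = a5 p ∧ a2 q = 0 := by
    obtain ⟨p, q, s⟩ := ex3' (i := o) g55 (by omega)
    obtain e | e := one_of (m5 p) (m2 p) (m5 q) (m2 q) s.hj s.hk (by simpa [s.ip, o2] using g52)
    exacts [⟨p, q, s, e⟩, ⟨q, p, s.swap, e.symm⟩]
  obtain ⟨u, v, s3, v4, u4⟩ : ∃ u v, S3 a3 o u v ∧ a4 v = a3 v ∧ a4 u = 0 := by
    obtain ⟨p, q, s⟩ := ex3' (i := o) g33 (by omega)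
    obtain e | e := one_of (m3 p) (m4 p) (m3 q) (m4 q) s.hj s.hk (by simpa [s.ip, o4] using g34)
    exacts [⟨q, p, s.swap, e⟩, ⟨p, q, s, e.symm⟩]
  obtain ⟨p1, q1⟩ := van s5 o5 o0 d5 g11 d1 o1 g51
  obtain ⟨u1, v1⟩ := van s3 o3 o0 d3 g11 d1 o1 g31
  obtain ⟨u2, v2⟩ := van s3 o3 o0 d3 g22 d2 o2 g32
  have p5 := s5.hj
  have q5 := s5.hk
  have u3 := s3.hj
  have v3 := s3.hk
  have p3 : a3 p = 0 := s3.zero s5.ij.symm (by rintro rfl; omega) (by rintro rfl; omega)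
  have q3 : a3 q = 0 := by simpa [s5.ip, o3, o5, p3, q5] using g53
  have u5 : a5 u = 0 := s5.zero s3.ij.symm (by rintro rfl; omega) (by rintro rfl; omega)
  have v5 : a5 v = 0 := s5.zero s3.ik.symm (by rintro rfl; omega) (by rintro rfl; omega)
  have p4 : a4 p = 0 := by
    by_contra p4
    obtain ⟨z, s⟩ := ex3 (i := v) g44 (by rintro rfl; omega) (by omega) p4
    have z1 : a1 z = 0 := by simpa [s.ip, v1, p1, s.hk] using g41
    have z2 : a2 z ≠ 0 := fun e => by simp [s.ip, v2, e, p4, p2, p5] at g42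
    simp [ip2 g22 s.jk (by omega) z2, p1, z1] at g21
  have q4 : a4 q = -a5 q := by
    rw [s5.ip, o4, p4] at g54
    obtain e | e | e := m5 q <;> rw [e] at g54 ⊢ <;> omega
  obtain ⟨z, s4⟩ := ex3 (i := q) (j := v) g44 (by rintro rfl; omega) (by omega) (by omega)
  have z4 := s4.hk
  have z1 : a1 z = 0 := by simpa [s4.ip, q1, v1, z4] using g41
  have z2 : a2 z = 0 := by simpa [s4.ip, q2, v2, z4] using g42
  have z3 : a3 z = 0 := s3.zero (by rintro rfl; omega) (by rintro rfl; omega) s4.jk.symm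
  have z5 : a5 z = 0 := s5.zero (by rintro rfl; omega) (by rintro rfl; omega) s4.ik.symm
  rw [s3.sum _ fun l e => by simp [e]] at e3
  rw [s4.sum _ fun l e => by simp [e]] at e4
  rw [s5.sum _ fun l e => by simp [e]] at e5
  rw [s3.ip] at d3
  rw [s4.ip] at d4
  rw [s5.ip] at d5
  simp only [hT, o0, o1, o2, o3, o4, o5, p1, p2, p3, p4, q1, q2, q3, q4, u1, u2, u4, u5, v1, v2, v4,
    v5, z1, z2, z3, z5] at e3 e4 e5 d3 d4 d5
  have sg : ∀ (c : ℚ) {x y : ℤ}, x = 0 ∨ x = 1 ∨ x = -1 → x ≠ 0 →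
      (c * x) ^ 2 * x / y = c ^ 2 / (x * y : ℤ) := fun c x y h h0 => by
    obtain rfl | rfl := h.resolve_left h0 <;> simp [div_neg, neg_div]
  have f5 := sg 2 (y := d p) (m5 p) p5
  have f5' := sg 3 (y := d q) (m5 q) q5
  have f3 := sg 3 (y := d u) (m3 u) u3
  have f3' := sg 4 (y := d v) (m3 v) v3
  have f4 := sg 1 (y := d z) (m4 z) z4
  have c1 : a5 q * d q = -(a5 p * d p + 1) := by omega
  have c2 : a3 u * d u = -(a3 v * d v + 1) := by omega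
  have c3 : a4 z * d z = -(a5 p * d p + a3 v * d v + 1) := by linarith
  have nz : ∀ {x : ℤ} (i), x ≠ 0 → x * d i ≠ 0 := fun i h => mul_ne_zero h (hd i).ne'
  have n1 := nz q q5
  have n2 := nz u u3
  have n3 := nz z z4
  rw [c1] at f5'
  rw [c2] at f3
  rw [c3] at f4
  have dz := hd z
  have dv := hd v
  obtain h | h | ⟨h1, h2, h⟩ := fin_arith hK (nz p p5) (by omega) (nz v v3) (by omega) (by omega)
    (by have := h8 p; obtain e | e | e := m5 p <;> rw [e] <;> omega)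
    (by push_cast [div_neg] at *; linear_combination e5 - f5 - f5')
    (by push_cast [div_neg] at *; linear_combination e3 - f3 - f3')
    (by push_cast [div_neg] at *; linear_combination e4 + f5' - f3' - f4)
  · refine Or.inl ⟨z, ?_, z1, z3, ?_⟩ <;> obtain e | e | e := m4 z <;> rw [e] at c3 <;> omega
  · exact Or.inr (Or.inl h)
  · refine Or.inr (Or.inr ⟨h, v, z, v1, v2, ?_⟩)
    obtain e | e | e := m4 z <;> obtain e' | e' | e' := m3 v <;> rw [e] at c3 <;> rw [e'] at h2 c3 <;>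
      omega

end Cfsg.Agent.H19
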