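import Cfsg.Agent.H19.W1
import Cfsg.Agent.H19.W2

/-! The order of a group with an involution centralizer `GL₂(3)` -/

set_option autoImplicit false

namespace Cfsg.Agent.H19

open Cfsg Cfsg.Agent.H4 Cfsg.Agent.H5 Cfsg.Agent.H6 Subgroup M3 Finset
open scoped ComplexConjugate Matrix

variable {G : Type*} [Group G] [Finite G] {χ : G → ℂ}

theorem eig_mult (hχ : IsCharacter G χ) {g : G} {n : ℕ} (hg : g ^ n = 1) {ζ : ℂ}
    (hζ : ζ ^ n = 1) : ∃ m : ℤ, ∑ j ∈ range n, χ (g ^ j) * ζ ^ j = n * m := by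
  classical
  obtain ⟨k, ρ, rfl⟩ := hχ
  obtain ⟨ε, h1, h2, -⟩ := rep_character_pow_eq_sum ρ g
  refine ⟨(univ.filter fun i => ε i * ζ = 1).card, ?_⟩
  simp only [h2, sum_mul, ← mul_pow, card_filter, Nat.cast_sum, Int.cast_sum, mul_sum]
  rw [sum_comm]
  refine sum_congr rfl fun i _ => ?_
  split_ifs with e
  · simp [e]
  · obtain ⟨c, rfl⟩ := orderOf_dvd_of_pow_eq_one hg
    rw [geom_sum_eq e, mul_pow, hζ, pow_mul, h1]; simp

/-- the values of a character on the special classes -/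
structure WV (f : M3 →* G) (ω : ℂ) (χ : G → ℂ) (a1 a2 a3 a4 a5 x d : ℤ) : Prop where
  v1 : χ (f 1) = d
  vT : χ (f T) = (2 * a1 + 4 * a2 + 3 * a3 + a4 - 2 * a5 : ℤ)
  vY : χ (f (R ^ 2)) = (2 * a5 - a3 + a4 : ℤ)
  vS : χ (f (T * X)) = (a4 + a5 - a1 - 2 * a2 : ℤ)
  vR : χ (f R) = (a3 - a4 : ℤ) + a1 * ω
  vR' : χ (f R⁻¹) = (a3 - a4 : ℤ) - a1 * ω
  vX : χ (f X) = x
  d8 : 8 ∣ d + 2 * a1 + 4 * a2 + 5 * a3 - a4 + 2 * a5
  d6 : 6 ∣ d - x - 3 * (a1 + 2 * a2 + a3 - a5)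

theorem exists_WV (f : M3 →* G) {ζ : ℂ} (hζ : ζ ^ 4 = -1) (hχ : IsCharacter G χ) :
    ∃ a1 a2 a3 a4 a5 x : ℤ, WV f (ζ + ζ ^ 3) χ a1 a2 a3 a4 a5 x (charDegree χ) := by
  obtain ⟨θ, hθ⟩ := IsAlgClosed.exists_pow_nat_eq (-3 : ℂ) (n := 2) (by decide)
  obtain ⟨η, hη⟩ : ∃ η : ℂ, η ^ 2 - η + 1 = 0 := ⟨(1 + θ) / 2, by linear_combination hθ / 4⟩
  have v : ∀ (m : M3) (k : ℕ) (m' : M3), (∃ n, n * m' * n⁻¹ = m ^ k) → χ (f m ^ k) = χ (f m') := by
    rintro m k m' ⟨n, e⟩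
    rw [← map_pow, ← e, map_mul, map_mul, map_inv, hχ.isClassFunction]
  have r8 : f R ^ 8 = 1 := by rw [← map_pow, show R ^ 8 = 1 by decide +kernel, map_one]
  have r6 : f (T * X) ^ 6 = 1 := by rw [← map_pow, show (T * X) ^ 6 = 1 by decide +kernel, map_one]
  obtain ⟨m0, E0⟩ := eig_mult hχ r8 (ζ := 1) (by simp)
  obtain ⟨m4, E4⟩ := eig_mult hχ r8 (ζ := -1) (by norm_num)
  obtain ⟨m2, E2⟩ := eig_mult hχ r8 (ζ := ζ ^ 2)
    (by linear_combination (ζ ^ 4 - 1) * (ζ ^ 8 + 1) * hζ)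
  obtain ⟨m1, E1⟩ := eig_mult hχ r8 (ζ := ζ) (by linear_combination (ζ ^ 4 - 1) * hζ)
  obtain ⟨m7, E7⟩ := eig_mult hχ r8 (ζ := -ζ) (by linear_combination (ζ ^ 4 - 1) * hζ)
  obtain ⟨n1, F1⟩ := eig_mult hχ r6 (ζ := η)
    (by linear_combination (η ^ 3 - 1) * (η + 1) * hη)
  obtain ⟨n2, F2⟩ := eig_mult hχ r6 (ζ := -η)
    (by linear_combination (η ^ 3 - 1) * (η + 1) * hη)
  simp only [sum_range_succ, sum_range_zero, v R 0 1 (by decide +kernel), v R 1 R (by decide +kernel),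
    v R 2 (R ^ 2) (by decide +kernel), v R 3 R (by decide +kernel), v R 4 T (by decide +kernel),
    v R 5 R⁻¹ (by decide +kernel), v R 6 (R ^ 2) (by decide +kernel), v R 7 R⁻¹ (by decide +kernel),
    v (T * X) 0 1 (by decide +kernel), v (T * X) 1 (T * X) (by decide +kernel),
    v (T * X) 2 X (by decide +kernel), v (T * X) 3 T (by decide +kernel),
    v (T * X) 4 X (by decide +kernel), v (T * X) 5 (T * X) (by decide +kernel), Nat.cast_ofNat]
    at E0 E4 E2 E1 E7 F1 F2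
  have hd : χ (f 1) = (charDegree χ : ℤ) := by rw [map_one, ← hχ.charDegree_cast]; simp
  generalize e1 : χ (f 1) = d, e2 : χ (f T) = t, e3 : χ (f (R ^ 2)) = y, e4 : χ (f (T * X)) = s
    at E0 E4 E2 E1 E7 F1 F2 hd
  have E2' : d + t - 2 * y = 8 * m2 := by
    linear_combination E2 - (χ (f R) * ζ ^ 2 + y + y * (ζ ^ 8 - ζ ^ 4 + 1) + t * (ζ ^ 4 - 1) +
      χ (f R⁻¹) * ζ ^ 10) * hζ
  have E1' : d - t + (ζ + ζ ^ 3) * (χ (f R) - χ (f R⁻¹)) = 8 * m1 := by
    linear_combination E1 - (y * ζ ^ 2 + t + χ (f R⁻¹) * (ζ + ζ ^ 3)) * hζ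
  have E7' : d - t - (ζ + ζ ^ 3) * (χ (f R) - χ (f R⁻¹)) = 8 * m7 := by
    linear_combination E7 - (y * ζ ^ 2 + t - χ (f R⁻¹) * (ζ + ζ ^ 3)) * hζ
  have F1' : d - t - χ (f X) + s = 6 * n1 := by
    linear_combination F1 - (t * (η + 1) + χ (f X) * (η ^ 2 + η + 1) + s * (η ^ 3 + η ^ 2 - 1)) * hη
  have F2' : d + t - χ (f X) - s = 6 * n2 := by
    linear_combination F2 - (-t * (η + 1) + χ (f X) * (η ^ 2 + η + 1) - s * (η ^ 3 + η ^ 2 - 1)) * hη
  have hω : (ζ + ζ ^ 3) ^ 2 = -2 := by linear_combination (ζ ^ 2 + 2) * hζ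
  have D : χ (f R) - χ (f R⁻¹) = 2 * (m7 - m1) * (ζ + ζ ^ 3) := by
    linear_combination (ζ + ζ ^ 3) / 4 * (E7' - E1') + (χ (f R) - χ (f R⁻¹)) / 2 * hω
  have hD : (charDegree χ : ℤ) = m0 + m4 + 2 * m2 + 2 * m1 + 2 * m7 := by
    have : ((charDegree χ : ℤ) : ℂ) = m0 + m4 + 2 * m2 + 2 * m1 + 2 * m7 := by
      linear_combination (E0 + E4) / 8 + (E2' + E1' + E7') / 4 - hd
    exact_mod_cast this
  refine ⟨m7 - m1, m1 - m2 - (n1 - n2), m0 + m2 - m1 - m7 + n1 - n2, m4 + m2 - m1 - m7 + n1 - n2,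
    m0 - m2, charDegree χ - 3 * (n1 + n2), e1.trans hd, e2.trans ?_, e3.trans ?_, e4.trans ?_, ?_, ?_,
    ?_, ⟨m0, by omega⟩, ⟨n1, by omega⟩⟩ <;> push_cast at hd ⊢
  · linear_combination (E0 + E4) / 8 + (E2' - E1' - E7') / 4
  · linear_combination (E0 + E4) / 8 - E2' / 4
  · linear_combination (E0 + E4) / 8 + (E2' - E1' - E7') / 4 + (F1' - F2') / 2
  · linear_combination (E0 - E4) / 8 + D / 2
  · linear_combination (E0 - E4) / 8 - D / 2
  · linear_combination hd - (F1' + F2') / 2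

theorem WG.card_pairs {f : M3 →* G} (h : WG f) {m : M3} (k : ℕ) (hm : m ^ k = T) :
    Nat.card {p : G × G // IsConj (f T) p.1 ∧ IsConj (f T) p.2 ∧ p.1 * p.2 = f m} =
      (univ.filter fun u : M3 => (u * u = 1 ∧ u ≠ 1) ∧ u * m * (u * m) = 1 ∧ u * m ≠ 1).card := by
  have c : ∀ u : M3, IsConj (f T) (f u) ↔ u * u = 1 ∧ u ≠ 1 := fun u => by
    rw [h.isConj_T, ← map_mul, ← map_one f, h.inj.eq_iff, h.inj.ne_iff]
  rw [← Fintype.card_subtype, ← Nat.card_eq_fintype_card]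
  refine (Nat.card_congr (Equiv.ofBijective (fun u => ⟨(f u.1, f (u.1 * m)), (c _).mpr u.2.1,
    (c _).mpr u.2.2, by rw [← map_mul, ← mul_assoc, u.2.1.1, one_mul]⟩)
    ⟨fun a b e => Subtype.ext (h.inj (congrArg (·.1.1) e)), fun ⟨⟨a, b⟩, h1, h2, h3⟩ => ?_⟩)).symm
  have a2 := (h.isConj_T.mp h1).1
  have e : a * f m * a⁻¹ = (f m)⁻¹ := by
    rw [← h3, inv_eq_of_mul_eq_one_left a2, mul_inv_rev, inv_eq_of_mul_eq_one_left a2,
      inv_eq_of_mul_eq_one_left (h.isConj_T.mp h2).1, ← mul_assoc, a2, one_mul]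
  obtain ⟨u, rfl⟩ := h.cen a (by
    rw [← mul_inv_eq_iff_eq_mul, ← hm, map_pow, ← conj_pow, e, inv_pow, ← map_pow, ← map_inv, hm,
      show T⁻¹ = T by decide +kernel])
  have e' : f (u * m) = b := by rw [map_mul, ← h3, ← mul_assoc, a2, one_mul]
  exact ⟨⟨u, (c _).mp h1, (c _).mp (e' ▸ h2)⟩, Subtype.ext (Prod.ext rfl e')⟩

theorem ip_cast {ι : Type*} [Fintype ι] (a b : ι → ℤ) : (ip a b : ℂ) = ∑ i, (a i : ℂ) * b i := by
  simp [ip]

set_option maxHeartbeats 2000000 in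
theorem WG.card_cases {f : M3 →* G} (h : WG f) :
    Nat.card G = 7920 ∨ (Nat.card G = 5616 ∧ 19 ≤ cc (f X)) := by
  obtain ⟨ζ, hζ⟩ := IsAlgClosed.exists_pow_nat_eq (-1 : ℂ) (n := 4) (by decide)
  have hω : (ζ + ζ ^ 3) ^ 2 = -2 := by linear_combination (ζ ^ 2 + 2) * hζ
  choose a1 a2 a3 a4 a5 x V using fun χ : IrrCharacter G => exists_WV f hζ χ.2.isCharacter
  generalize ζ + ζ ^ 3 = ω at hω V
  have ω0 : ω ≠ 0 := by rintro rfl; norm_num at hω
  set d : IrrCharacter G → ℤ := fun χ => charDegree (χ : G → ℂ)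
  have cR := fun χ : IrrCharacter G => (V χ).vR' ▸ map_inv f R ▸ (χ.2.isCharacter.apply_inv (f R)).symm
  have cR' : ∀ χ : IrrCharacter G, conj ((χ : G → ℂ) (f R⁻¹)) = _ := fun χ => by
    rw [map_inv, χ.2.isCharacter.apply_inv, Complex.conj_conj, (V χ).vR]
  let g : Fin 5 → M3 := ![1, T, R ^ 2, T * X, R]
  have og : ∀ i, orderOf (f (g i)) = ![1, 2, 4, 6, 8] i := fun i => by
    rw [orderOf_injective f h.inj]
    fin_cases i <;> exact ord (by decide) (by decide +kernel)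
  have nc : ∀ i j, i ≠ j → ¬ IsConj (f (g i)) (f (g j)) := fun i j e c => by
    have := orderOf_isConj c
    rw [og, og] at this
    clear c
    revert i j
    decide
  have nc' : ∀ i, ¬ IsConj (f (g i)) (f R⁻¹) := fun i c => by
    have := orderOf_isConj c
    rw [og, map_inv, orderOf_inv, show orderOf (f R) = 8 from og 4] at this
    obtain rfl : i = 4 := by clear c; revert i; decide
    obtain ⟨n, hn⟩ := isConj_iff.mp c
    obtain ⟨n, rfl⟩ := h.cen n (by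
      rw [← mul_inv_eq_iff_eq_mul, ← show R ^ 4 = T by decide +kernel, map_pow, ← conj_pow]
      rw [show n * f R * n⁻¹ = f R⁻¹ from hn, ← map_pow, ← map_pow]
      exact congrArg f (by decide +kernel))
    exact (by decide +kernel : ∀ n, n * R * n⁻¹ ≠ R⁻¹) n (h.inj (by rwa [map_mul, map_mul, map_inv]))
  let A : Fin 4 → IrrCharacter G → ℤ := ![d, (2 : ℤ) • a1 + (4 : ℤ) • a2 + (3 : ℤ) • a3 + a4 -
    (2 : ℤ) • a5, (2 : ℤ) • a5 - a3 + a4, a4 + a5 - a1 - (2 : ℤ) • a2]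
  have hA : ∀ i (χ : IrrCharacter G), (χ : G → ℂ) (f (g i.castSucc)) = A i χ := fun i χ => by
    fin_cases i
    exacts [(V χ).v1, (V χ).vT, (V χ).vY, (V χ).vS]
  have o1 : ∀ i j, i ≠ j → ip (A i) (A j) = 0 := fun i j e => by
    have := column_orthogonality_of_not_isConj (nc _ _ ((Fin.castSucc_injective 4).ne e))
    simp only [hA, map_intCast] at this
    exact_mod_cast (ip_cast _ _).trans this
  have o2 : ∀ i, ip (A i) (A i) = cc (f (g i.castSucc)) := fun i => by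
    have := column_orthogonality_of_isConj (IsConj.refl (f (g i.castSucc)))
    simp only [hA, map_intCast] at this
    exact_mod_cast (ip_cast _ _).trans this
  have o3 : ∀ i, ip (A i) (a3 - a4) = 0 ∧ ip (A i) a1 = 0 := fun i => by
    have e1 := column_orthogonality_of_not_isConj (nc _ 4 (Fin.castSucc_ne_last i))
    have e2 := column_orthogonality_of_not_isConj (nc' i.castSucc)
    change ∑ χ : IrrCharacter G, _ * conj ((χ : G → ℂ) (f R)) = 0 at e1
    simp only [hA, cR, cR', mul_sub, mul_add, sum_add_distrib, sum_sub_distrib, ← mul_assoc,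
      ← sum_mul, ← ip_cast] at e1 e2
    have e3 : (ip (A i) (a3 - a4) : ℂ) = 0 := by
      linear_combination (exp := 1) (e1 + e2) / 2 + (rfl : (ip (A i) (a3 - a4) : ℂ) = ip (A i) fun i => a3 i - a4 i)
    have e4 : (ip (A i) a1 : ℂ) * ω = 0 := by linear_combination (e2 - e1) / 2
    exact ⟨by exact_mod_cast e3, by simpa [ω0] using e4⟩
  have key : ∀ (F : IrrCharacter G → ℂ) (c1 c2 c3 : ℂ), (∀ χ, F χ = c1 * ((a3 - a4) χ * (a3 - a4) χ) +
      c2 * ((a3 - a4) χ * a1 χ) + c3 * (a1 χ * a1 χ)) → ∑ χ, F χ = c1 * ip (a3 - a4) (a3 - a4) +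
        c2 * ip (a3 - a4) a1 + c3 * ip a1 a1 := fun F c1 c2 c3 e => by
    simp only [ip_cast, mul_sum, ← sum_add_distrib, e]
  have f1 := (key _ 1 0 2 fun χ => by
    rw [cR, (V χ).vR, Pi.sub_apply]; linear_combination (-(a1 χ : ℂ) ^ 2) * hω).symm.trans
      (column_orthogonality_of_isConj (IsConj.refl (f R)))
  have f2 := (key _ 1 (2 * ω) (-2) fun χ => by
    rw [cR', show (χ : G → ℂ) (f (g 4)) = _ from (V χ).vR, Pi.sub_apply]
    linear_combination (a1 χ : ℂ) ^ 2 * hω).symm.trans (column_orthogonality_of_not_isConj (nc' 4))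
  have f3 := (key _ 1 (-2 * ω) (-2) fun χ => by
    rw [show conj ((χ : G → ℂ) (f (g 4))) = _ from cR χ, (V χ).vR', Pi.sub_apply]
    linear_combination (a1 χ : ℂ) ^ 2 * hω).symm.trans
      (column_orthogonality_of_not_isConj fun c => nc' 4 c.symm)
  have cT : cc (f T) = 48 := (h.cc_eq 1 (by decide +kernel)).trans (by decide +kernel)
  have cY : cc (f (R ^ 2)) = 8 := (h.cc_eq 2 (by decide +kernel)).trans (by decide +kernel)
  have cS : cc (f (T * X)) = 6 := (h.cc_eq 3 (by decide +kernel)).trans (by decide +kernel)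
  rw [show Nat.card _ = 8 from (h.cc_eq 4 (by decide +kernel)).trans (by decide +kernel)] at f1
  have g1 : ip (a3 - a4) (a3 - a4) = 4 := by
    exact_mod_cast (by linear_combination f1 / 2 + (f2 + f3) / 4 : (ip (a3 - a4) (a3 - a4) : ℂ) = 4)
  have g11 : ip a1 a1 = 2 := by
    exact_mod_cast (by linear_combination f1 / 4 - (f2 + f3) / 8 : (ip a1 a1 : ℂ) = 2)
  have g2 : ip (a3 - a4) a1 = 0 := by
    simpa [ω0] using (by linear_combination (f2 - f3) / 4 : (ip (a3 - a4) a1 : ℂ) * ω = 0)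
  have p01 := o1 1 0 (by decide)
  have p02 := o1 2 0 (by decide)
  have p03 := o1 3 0 (by decide)
  have p12 := o1 1 2 (by decide)
  have p13 := o1 1 3 (by decide)
  have p23 := o1 2 3 (by decide)
  have p11 : ip (A 1) (A 1) = 48 := (o2 1).trans (congrArg Nat.cast cT)
  have p22 : ip (A 2) (A 2) = 8 := (o2 2).trans (congrArg Nat.cast cY)
  have p33 : ip (A 3) (A 3) = 6 := (o2 3).trans (congrArg Nat.cast cS)
  obtain ⟨p04, p05⟩ := o3 0
  obtain ⟨p14, p15⟩ := o3 1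
  obtain ⟨p24, p25⟩ := o3 2
  obtain ⟨p34, p35⟩ := o3 3
  rw [ip_comm] at p04 p05
  have ipd : ∀ a b : IrrCharacter G → ℤ, ip a b = a ⬝ᵥ b := fun _ _ => rfl
  simp only [A, Matrix.cons_val, ipd, add_dotProduct, sub_dotProduct, dotProduct_add, dotProduct_sub,
    smul_dotProduct, dotProduct_smul, smul_eq_mul, dotProduct_comm a1 a2,
    dotProduct_comm a1 a3, dotProduct_comm a1 a4, dotProduct_comm a1 a5, dotProduct_comm a2 a3,
    dotProduct_comm a2 a4, dotProduct_comm a2 a5, dotProduct_comm a4 a3, dotProduct_comm a3 a5,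
    dotProduct_comm a4 a5]
    at p01 p02 p03 p04 p05 p11 p12 p13 p14 p15 p22 p23 p24 p25 p33 p34 p35 g1 g2
  simp only [← ipd] at p01 p02 p03 p04 p05 p11 p12 p13 p14 p15 p22 p23 p24 p25 p33 p34 p35 g1 g2
  let o := irrOne G
  have one : ∀ {n : ℤ} {g : G}, (o : G → ℂ) g = n → n = 1 := fun {n _} e => by
    exact_mod_cast (show (n : ℂ) = 1 from e.symm)
  have o0 : d o = 1 := one (V o).v1
  have o1 : a1 o = 0 := by
    simpa [ω0] using (by linear_combination ((V o).vR.symm.trans (V o).vR') / 2 : (a1 o : ℂ) * ω = 0)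
  have t1 : 2 * a1 o + 4 * a2 o + 3 * a3 o + a4 o - 2 * a5 o = 1 := one (V o).vT
  have t2 : 2 * a5 o - a3 o + a4 o = 1 := one (V o).vY
  have t3 : a4 o + a5 o - a1 o - 2 * a2 o = 1 := one (V o).vS
  have t4 : a3 o - a4 o = 1 := one ((V o).vR.trans (by simp [o1]))
  have N0 : (Nat.card G : ℂ) ≠ 0 := by exact_mod_cast Nat.card_pos.ne'
  have q : ∀ (m : M3) (k n : ℕ), m ^ k = T → (univ.filter fun u : M3 =>
      (u * u = 1 ∧ u ≠ 1) ∧ u * m * (u * m) = 1 ∧ u * m ≠ 1).card = n →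
      ∑ χ : IrrCharacter G, (χ : G → ℂ) (f T) * (χ : G → ℂ) (f T) * conj ((χ : G → ℂ) (f m)) /
        (χ : G → ℂ) 1 = n * (2304 / Nat.card G) := fun m k n e1 e2 => by
    have e3 := card_class_mul_eq (f T) (f T) (f m)
    have e4 : ((centralizer {f T}).index : ℂ) * 48 = Nat.card G := by
      exact_mod_cast (congrArg _ cT).symm.trans (index_mul_card _)
    rw [h.card_pairs k e1, e2] at e3
    rw [e3, ← e4]
    have : ((centralizer {f T}).index : ℂ) ≠ 0 := fun e => N0 (by rw [← e4, e, zero_mul])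
    field_simp
    ring
  have qT := q T 1 12 (by decide +kernel) (by decide +kernel)
  have qY := q (R ^ 2) 2 4 (by decide +kernel) (by decide +kernel)
  have qS := q (T * X) 3 6 (by decide +kernel) (by decide +kernel)
  have qR := q R 4 0 (by decide +kernel) (by decide +kernel)
  have qR' := q R⁻¹ 4 0 (by decide +kernel) (by decide +kernel)
  simp only [cR, cR', fun χ => (V χ).vT, fun χ => (V χ).vY, fun χ => (V χ).vS, map_intCast,
    fun χ => map_one f ▸ (V χ).v1, Nat.cast_ofNat] at qT qY qS qR qR'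
  have K0 : (0 : ℚ) < 2304 / Nat.card G := div_pos (by norm_num) (by exact_mod_cast Nat.card_pos)
  have cast : ∀ (a : IrrCharacter G → ℤ) (n : ℚ) (c1 c2 c3 c4 : ℂ), 12 * c1 + 4 * c2 + 6 * c3 = n →
      (∀ χ, (a χ : ℂ) = c1 * (2 * a1 χ + 4 * a2 χ + 3 * a3 χ + a4 χ - 2 * a5 χ : ℤ) +
        c2 * (2 * a5 χ - a3 χ + a4 χ : ℤ) + c3 * (a4 χ + a5 χ - a1 χ - 2 * a2 χ : ℤ) +
        2 * c4 * (a3 χ - a4 χ : ℤ)) →
      ∑ χ, ((2 * a1 χ + 4 * a2 χ + 3 * a3 χ + a4 χ - 2 * a5 χ : ℤ) : ℚ) ^ 2 * a χ / d χ =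
        n * (2304 / Nat.card G) := fun a n c1 c2 c3 c4 e1 e2 => by
    apply Rat.cast_injective (α := ℂ)
    simp only [Rat.cast_sum, Rat.cast_div, Rat.cast_mul, Rat.cast_pow, Rat.cast_intCast,
      Rat.cast_natCast, Rat.cast_ofNat, ← e1]
    refine Eq.trans ?_ (congr(c1 * $qT + c2 * $qY + c3 * $qS + c4 * $qR + c4 * $qR').trans
      (by push_cast; ring))
    simp only [mul_sum, ← sum_add_distrib]
    exact sum_congr rfl fun χ _ => by rw [e2]; ring
  have hN : ∀ n : ℕ, (2304 : ℚ) / Nat.card G = 2304 / n → Nat.card G = n := fun n e => by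
    rw [div_eq_mul_inv, div_eq_mul_inv] at e
    exact_mod_cast inv_injective (mul_left_cancel₀ (by norm_num) e)
  obtain ⟨z, z0, z1, z3, z4⟩ | e | ⟨e, v, z, v1, v2, v3, v4, v5, v0, z1, z2, z3, z4, z5, z0⟩ :=
    gram (T := fun χ => 2 * a1 χ + 4 * a2 χ + 3 * a3 χ + a4 χ - 2 * a5 χ) (a2 := a2) (a3 := a3)
      (a4 := a4) (a5 := a5) K0 (fun χ => by
        have := χ.2.apply_one_ne_zero
        rw [← χ.2.isCharacter.charDegree_cast] at this
        exact Int.natCast_pos.mpr (Nat.pos_of_ne_zero (by exact_mod_cast this))) o0 o1 (by omega)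
      (by omega) (by omega) (by omega) g11 (by omega) (by omega) (by omega) (by omega) (by omega)
      (by omega) (by omega) (by omega) (by omega) (by omega) (by omega) (by omega) (by omega)
      (by omega) p05 (by omega) (by omega) (by omega) (by omega) (fun _ => rfl) (fun χ => (V χ).d8)
      (cast a3 4 (1 / 6) 0 (1 / 3) (1 / 4) (by norm_num) fun χ => by push_cast; ring)
      (cast a4 4 (1 / 6) 0 (1 / 3) (-1 / 4) (by norm_num) fun χ => by push_cast; ring)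
      (cast a5 2 0 (1 / 2) 0 (1 / 4) (by norm_num) fun χ => by push_cast; ring)
  · obtain ⟨l, hl⟩ := z.2.isCharacter.exists_linear (map_one f ▸ (V z).v1.trans ((congrArg Int.cast z0).trans Int.cast_one))
    have e := (V z).vR
    rw [z1, z3, z4, hl] at e
    haveI := h.simple
    obtain e' | e' := l.normal_ker.eq_bot_or_eq_top
    · exact absurd ⟨⟨fun a b => (l.ker_eq_bot_iff.mp e') (by rw [map_mul, map_mul, mul_comm])⟩⟩ h.not_comm
    · simp only [show l (f R) = 1 from e'.ge (mem_top _)] at e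
      norm_num at e
  · exact Or.inl (hN 7920 e)
  · classical
    refine Or.inr ⟨hN 5616 e, ?_⟩
    clear p01 p02 p03 p04 p05 p11 p12 p13 p14 p15 p22 p23 p24 p25 p33 p34 p35 g1 g2 g11 t1 t2 t3 t4
      cT cY cS
    have e1 := column_orthogonality_of_isConj (IsConj.refl (f X))
    simp only [fun χ => (V χ).vX, map_intCast, ← ip_cast] at e1
    have e2 : ∑ i ∈ {o, v, z}, x i * x i ≤ ip x x :=
      sum_le_sum_of_subset_of_nonneg (subset_univ _) fun _ _ _ => mul_self_nonneg _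
    rw [sum_insert (by simp only [mem_insert, mem_singleton]; rintro (rfl | rfl) <;> omega),
      sum_pair (by rintro rfl; omega), one (V o).vX,
      show ip x x = cc (f X) by exact_mod_cast e1] at e2
    have h1 : 6 ∣ d v - _ - _ := (V v).d6
    have h2 : 6 ∣ d z - _ - _ := (V z).d6
    have h3 : 9 ≤ x v * x v := by
      obtain e | e : x v ≤ -3 ∨ 3 ≤ x v := by omega
      all_goals nlinarith
    have h4 : 9 ≤ x z * x z := by
      obtain e | e : x z ≤ -3 ∨ 3 ≤ x z := by omega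
      all_goals nlinarith
    omega

end Cfsg.Agent.H19
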