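import Cfsg.Agent.H19.W5

/-! The commuting graph of `SL₃(3)` -/

set_option autoImplicit false

namespace Cfsg.Agent.H19

open Cfsg Subgroup M3 Finset
open scoped commutatorElement MatrixGroups

variable {G : Type*} [Group G] [Finite G]

theorem comm_mem54 {x u w : G} (h54 : cc x = 54) (x3 : orderOf x = 3) (hu : Commute u x)
    (hw : Commute w x) (u3 : orderOf u = 3) (w3 : orderOf w = 3) : ⁅u, w⁆ ∈ zpowers x := by
  obtain ⟨P, hP⟩ := Sylow.exists_subgroup_card_pow_prime (G := centralizer {x}) 3 (n := 3)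
    (h54 ▸ by decide : 3 ^ 3 ∣ cc x)
  have h2 : P.index = 2 := by
    have := P.index_mul_card
    rw [hP, show Nat.card _ = 54 from h54] at this
    omega
  let K := P.map (Subgroup.subtype _)
  have hK : Nat.card K = 27 := (card_map_of_injective Subtype.val_injective).trans hP
  have mK : ∀ g, Commute g x → orderOf g = 3 → g ∈ K := fun g e e' =>
    ⟨_, pow_mem (sq_mem_of_index_two h2 ⟨g, mem_centralizer_singleton_iff.mpr e⟩) 2, by
      change (g ^ 2) ^ 2 = g
      rw [← pow_mul, show 2 * 2 = orderOf g + 1 by omega, pow_succ, pow_orderOf_eq_one, one_mul]⟩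
  haveI : ((zpowers x).subgroupOf K).Normal := normal_subgroupOf_of_le_normalizer
    fun _ ⟨k, _, hk⟩ => hk ▸ mem_normalizer_of_commute x3 (mem_centralizer_singleton_iff.mp k.2).symm
  haveI := IsPGroup.isMulCommutative_of_card_eq_prime_sq (p := 3)
    (G := K ⧸ (zpowers x).subgroupOf K) (by
      have := card_eq_card_quotient_mul_card_subgroup ((zpowers x).subgroupOf K)
      rw [Nat.card_congr (subgroupOfEquivOfLe (zpowers_le.mpr (mK x rfl x3))).toEquiv,
        Nat.card_zpowers, x3, hK] at this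
      omega)
  exact (QuotientGroup.eq_one_iff (N := (zpowers x).subgroupOf K)
    ⁅(⟨_, mK u hu u3⟩ : K), ⟨_, mK w hw w3⟩⁆).mp ((map_commutatorElement (QuotientGroup.mk' _) _ _).trans
      (commutatorElement_eq_one_iff_mul_comm.mpr (mul_comm' _ _)))

theorem exists_f {a b v : G} (a3 : orderOf a = 3) (b3 : orderOf b = 3) (ab : Commute a b)
    (h1 : ∀ z, Commute z a → Commute z b → Commute z v → z = 1) (h48 : cc v = 48) {s y z : G}
    (sa : s * a * s⁻¹ = a) (sb : s * b * s⁻¹ = b⁻¹) (sv : Commute s v) (va : v * a * v⁻¹ = a⁻¹)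
    (vb : v * b * v⁻¹ = b⁻¹) (ya : Commute y a) (yb : ⁅y, b⁆ = a) (yv : Commute y v)
    (zb : Commute z b) (za : ⁅z, a⁆ = b) (zv : Commute z v) :
    ∃ f : M3 →* G, Function.Injective f ∧ (∀ g, g * v = v * g → ∃ m, f m = g) ∧ f T = v ∧ f S = s := by
  let E : ZMod 3 → ZMod 3 → G := fun i j => xp a i * xp b j
  have c : ∀ i j : ZMod 3, Commute (xp a i) (xp b j) := fun i j => ab.pow_pow _ _
  have Em : ∀ i j k l, E i j * E k l = E (i + k) (j + l) := fun i j k l => by
    simp only [E, xp_add a3, xp_add b3, mul_assoc]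
    rw [← mul_assoc (xp b j), ← (c k j).eq, mul_assoc]
  have Ep : ∀ i j k : ZMod 3, E i j ^ k.val = E (i * k) (j * k) := fun i j k => by
    simp only [E, xp_mul a3, xp_mul b3, (c i j).mul_pow]
  have Ec : ∀ n i j, n * E i j * n⁻¹ = (n * a * n⁻¹) ^ i.val * (n * b * n⁻¹) ^ j.val := fun n i j => by
    simp only [E, xp, conj_pow, conj_mul]
  have Ei : ∀ i j k l, E i j = E k l → i = k ∧ j = l := fun i j k l e => by
    have e1 : ∀ i j, E i j * (s * E i j * s⁻¹) = xp a (i + i) := fun i j => by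
      rw [Ec, sa, sb, inv_pow, show a ^ i.val * (b ^ j.val)⁻¹ = E i (-j) by simp only [E, xp_neg b3]; rfl,
        Em, add_neg_cancel]
      simp only [E, xp_zero, mul_one]
    have e2 := xp_injective a3 ((e1 i j).symm.trans (e ▸ e1 k l))
    obtain rfl : i = k := (by decide : ∀ i k : ZMod 3, i + i = k + k → i = k) i k e2
    exact ⟨rfl, xp_injective b3 (mul_left_cancel e)⟩
  let Rl : G → M3 → Prop := fun n m => Commute n v ∧ n * a * n⁻¹ = E m.a m.c ∧ n * b * n⁻¹ = E m.b m.d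
  have mul : ∀ n m n' m', Rl n m → Rl n' m' → Rl (n * n') (m * m') := fun n m n' m' r r' =>
    ⟨r.1.mul_left r'.1, by rw [mul_inv_rev, mul_assoc n, mul_assoc n, ← mul_assoc _ n'⁻¹, r'.2.1,
      ← mul_assoc, Ec, r.2.1, r.2.2, Ep, Ep, Em]; rfl, by rw [mul_inv_rev, mul_assoc n, mul_assoc n,
        ← mul_assoc _ n'⁻¹, r'.2.2, ← mul_assoc, Ec, r.2.1, r.2.2, Ep, Ep, Em]; rfl⟩
  have uq : ∀ n n' m, Rl n m → Rl n' m → n = n' := fun n n' m r r' => inv_mul_eq_one.mp (h1 _
    (show _ = _ by simpa [mul_assoc] using congrArg (n⁻¹ * · * n') (r'.2.1.trans r.2.1.symm))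
    (show _ = _ by simpa [mul_assoc] using congrArg (n⁻¹ * · * n') (r'.2.2.trans r.2.2.symm))
    (r.1.inv_left.mul_left r'.1))
  have x1 : ∀ {a : G}, orderOf a = 3 → xp a (2 : ZMod 3) = a⁻¹ := fun {a} h => by
    rw [show (2 : ZMod 3) = -1 by decide, xp_neg h, xp_one h]
  have r1 : Rl 1 1 := ⟨Commute.one_left v, by simp [E, show (1 : M3).a = 1 from rfl,
    show (1 : M3).c = 0 from rfl, xp_one a3], by simp [E, show (1 : M3).b = 0 from rfl,
      show (1 : M3).d = 1 from rfl, xp_one b3]⟩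
  have rS : Rl s S := ⟨sv, by simp [E, S, sa, xp_one a3], by simp [E, S, sb, x1 b3]⟩
  have rT : Rl v T := ⟨rfl, by simp [E, T, va, x1 a3], by simp [E, T, vb, x1 b3]⟩
  have rX : Rl y X := ⟨yv, by simp [E, X, ya.eq, xp_one a3], by
    simp only [E, X, xp_one a3, xp_one b3]; rw [← yb]; simp [commutatorElement_def]⟩
  have rY : Rl z ⟨1, 0, 1, 1, by decide⟩ := ⟨zv, by
    simp only [E, xp_one a3, xp_one b3]; rw [ab.eq, ← za]; simp [commutatorElement_def],
    by simp [E, zb.eq, xp_one b3]⟩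
  have pw : ∀ n m (k : ℕ), Rl n m → Rl (n ^ k) (m ^ k) := fun n m k r => by
    induction k with
    | zero => simpa using r1
    | succ k ih => rw [pow_succ, pow_succ]; exact mul _ _ _ _ ih r
  have sj : ∀ m, ∃ n, Rl n m := fun m => by
    obtain ⟨i, j, k, l, e, rfl⟩ := (by decide +kernel : ∀ m : M3, ∃ i j k l e : Fin 3, X ^ i.1 *
      ⟨1, 0, 1, 1, by decide⟩ ^ j.1 * X ^ k.1 * ⟨1, 0, 1, 1, by decide⟩ ^ l.1 * S ^ e.1 = m) m
    exact ⟨_, mul _ _ _ _ (mul _ _ _ _ (mul _ _ _ _ (mul _ _ _ _ (pw _ _ _ rX) (pw _ _ _ rY))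
      (pw _ _ _ rX)) (pw _ _ _ rY)) (pw _ _ _ rS)⟩
  choose F hF using sj
  let f := MonoidHom.mk' F fun m m' => uq _ _ _ (hF _) (mul _ _ _ _ (hF m) (hF m'))
  have hf : Function.Injective f := fun m m' e => by
    have e1 := Ei _ _ _ _ ((hF m).2.1.symm.trans ((show F m = F m' from e) ▸ (hF m').2.1))
    have e2 := Ei _ _ _ _ ((hF m).2.2.symm.trans ((show F m = F m' from e) ▸ (hF m').2.2))
    exact M3.ext e1.1 e2.1 e1.2 e2.2
  refine ⟨f, hf, fun g hg => ?_, uq _ _ _ (hF T) rT, uq _ _ _ (hF S) rS⟩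
  exact (eq_of_le_of_card_ge (H := f.range) (by
    rintro _ ⟨m, rfl⟩; exact mem_centralizer_singleton_iff.mpr (hF m).1) (by
      rw [← Nat.card_congr (MonoidHom.ofInjective hf).toEquiv, card_eq]; exact h48.le)).ge
    (mem_centralizer_singleton_iff.mpr hg)

namespace L33

/-- the special linear group -/
abbrev L := SL(3, ZMod 3)

def a : L := ⟨!![1, 1, 0; 0, 1, 0; 0, 0, 1], by decide +kernel⟩
def b : L := ⟨!![1, 0, 1; 0, 1, 0; 0, 0, 1], by decide +kernel⟩
def c : L := ⟨!![1, 0, 0; 0, 1, 0; 0, 1, 1], by decide +kernel⟩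
def d : L := ⟨!![1, 0, 0; 0, 1, 1; 0, 0, 1], by decide +kernel⟩
def s : L := ⟨!![2, 0, 0; 0, 2, 0; 0, 0, 1], by decide +kernel⟩
def t : L := ⟨!![2, 0, 0; 0, 1, 0; 0, 0, 2], by decide +kernel⟩
def v : L := ⟨!![1, 0, 0; 0, 2, 0; 0, 0, 2], by decide +kernel⟩
def w : L := ⟨!![2, 0, 0; 0, 0, 2; 0, 2, 0], by decide +kernel⟩
def w' : L := ⟨!![0, 0, 2; 0, 2, 0; 2, 0, 0], by decide +kernel⟩

/-- parameters -/
abbrev P := ZMod 3 × ZMod 3 × ZMod 3 × ZMod 3

def mA (p : P) : Matrix (Fin 3) (Fin 3) (ZMod 3) := !![p.1, p.2.1, p.2.2.1; 0, p.1, 0; 0, p.2.2.2, 1]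

def mV (p : P) : Matrix (Fin 3) (Fin 3) (ZMod 3) :=
  !![p.1 * p.2.2.2 - p.2.1 * p.2.2.1, 0, 0; 0, p.1, p.2.1; 0, p.2.2.1, p.2.2.2]

theorem card_par {x : L} (m : P → Matrix (Fin 3) (Fin 3) (ZMod 3)) (hm : Function.Injective m)
    (h : ∀ g : Matrix (Fin 3) (Fin 3) (ZMod 3), g.det = 1 → g * x = x * g → ∃ p, m p = g) (y z : L) :
    Nat.card (centralizer {x} ⊓ centralizer {y} ⊓ centralizer {z} : Subgroup L) = #{p : P |
      (m p).det = 1 ∧ m p * x = x * m p ∧ m p * y = y * m p ∧ m p * z = z * m p} := by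
  rw [← Fintype.card_subtype, ← Nat.card_eq_fintype_card]
  refine (Nat.card_congr (Equiv.ofBijective (fun p => ⟨(⟨m p.1, p.2.1⟩ : L),
    ⟨mem_centralizer_singleton_iff.mpr (Subtype.ext p.2.2.1), mem_centralizer_singleton_iff.mpr
      (Subtype.ext p.2.2.2.1)⟩, mem_centralizer_singleton_iff.mpr (Subtype.ext p.2.2.2.2)⟩)
      ⟨fun p q e => Subtype.ext (hm (congrArg Subtype.val (congrArg Subtype.val e))), fun g => ?_⟩)).symm
  have e : ∀ {u : L}, g.1 ∈ centralizer {u} → g.1.1 * u.1 = u.1 * g.1.1 := fun e =>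
    congrArg Subtype.val ((mem_centralizer_singleton_iff (G := L)).mp e)
  obtain ⟨p, hp⟩ := h g.1 g.1.2 (e g.2.1.1)
  exact ⟨⟨p, hp ▸ ⟨g.1.2, e g.2.1.1, e g.2.1.2, e g.2.2⟩⟩, Subtype.ext (Subtype.ext hp)⟩

theorem cardA (y z : L) :
    Nat.card (centralizer {a} ⊓ centralizer {y} ⊓ centralizer {z} : Subgroup L) = #{p : P |
      (mA p).det = 1 ∧ mA p * a = a * mA p ∧ mA p * y = y * mA p ∧ mA p * z = z * mA p} :=
  card_par mA (fun p q e => Prod.ext (congrFun (congrFun e 0) 0) (Prod.ext (congrFun (congrFun e 0) 1)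
    (Prod.ext (congrFun (congrFun e 0) 2) (congrFun (congrFun e 2) 1)))) (fun g h5 e => by
      have e' := fun i j => congrFun (congrFun e i) j
      have h1 := e' 0 0
      have h2 := e' 0 1
      have h3 := e' 0 2
      have h4 := e' 2 1
      simp [a, Matrix.mul_apply, Fin.sum_univ_three] at h1 h2 h3 h4
      rw [Matrix.det_fin_three, h1, h3, h4] at h5
      refine ⟨(g 0 0, g 0 1, g 0 2, g 2 1), ?_⟩
      have h6 : g 1 1 = g 0 0 := by linear_combination -h2
      have h7 := (by decide : ∀ x y : ZMod 3, x * x * y = 1 → y = 1) (g 0 0) (g 2 2)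
        (by rw [← h5, h6]; ring)
      ext i j
      fin_cases i <;> fin_cases j <;> simp [mA, *]) y z

theorem parV (g : Matrix (Fin 3) (Fin 3) (ZMod 3)) (h5 : g.det = 1) (e : g * v = v * g) :
    ∃ p, mV p = g := by
  have e' := fun i j => congrFun (congrFun e i) j
  have z := (by decide : ∀ x : ZMod 3, (x * 2 = x → x = 0) ∧ (x = 2 * x → x = 0))
  have h1 := (z _).1 (by simpa [v, Matrix.mul_apply, Fin.sum_univ_three] using e' 0 1)
  have h2 := (z _).1 (by simpa [v, Matrix.mul_apply, Fin.sum_univ_three] using e' 0 2)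
  have h3 := (z _).2 (by simpa [v, Matrix.mul_apply, Fin.sum_univ_three] using e' 1 0)
  have h4 := (z _).2 (by simpa [v, Matrix.mul_apply, Fin.sum_univ_three] using e' 2 0)
  rw [Matrix.det_fin_three, h1, h2, h3, h4] at h5
  refine ⟨(g 1 1, g 1 2, g 2 1, g 2 2), ?_⟩
  have h7 := (by decide : ∀ x y : ZMod 3, x * y = 1 → y = x) (g 0 0) (g 1 1 * g 2 2 - g 1 2 * g 2 1)
    (by rw [← h5]; ring)
  ext i j
  fin_cases i <;> fin_cases j <;> simp [mV, *]

theorem cardV (y z : L) :
    Nat.card (centralizer {v} ⊓ centralizer {y} ⊓ centralizer {z} : Subgroup L) = #{p : P |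
      (mV p).det = 1 ∧ mV p * v = v * mV p ∧ mV p * y = y * mV p ∧ mV p * z = z * mV p} :=
  card_par mV (fun p q e => Prod.ext (congrFun (congrFun e 1) 1) (Prod.ext (congrFun (congrFun e 1) 2)
    (Prod.ext (congrFun (congrFun e 2) 1) (congrFun (congrFun e 2) 2)))) parV y z

theorem n1 : Nat.card (centralizer {a} ⊓ centralizer {a} ⊓ centralizer {a} : Subgroup L) = 54 :=
  (cardA _ _).trans (by decide +kernel)
theorem n2 : Nat.card (centralizer {a} ⊓ centralizer {b} ⊓ centralizer {c} : Subgroup L) = 3 :=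
  (cardA _ _).trans (by decide +kernel)
theorem n3 : Nat.card (centralizer {a} ⊓ centralizer {b} ⊓ centralizer {d} : Subgroup L) = 3 :=
  (cardA _ _).trans (by decide +kernel)
theorem n4 : Nat.card (centralizer {a} ⊓ centralizer {b} ⊓ centralizer {v} : Subgroup L) = 1 :=
  (cardA _ _).trans (by decide +kernel)
theorem n5 : Nat.card (centralizer {a} ⊓ centralizer {t} ⊓ centralizer {t} : Subgroup L) = 6 :=
  (cardA _ _).trans (by decide +kernel)
theorem n6 : Nat.card (centralizer {a} ⊓ centralizer {v} ⊓ centralizer {v} : Subgroup L) = 6 :=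
  (cardA _ _).trans (by decide +kernel)
theorem n7 : Nat.card (centralizer {v} ⊓ centralizer {v} ⊓ centralizer {v} : Subgroup L) = 48 :=
  (cardV _ _).trans (by decide +kernel)

variable {k : L ≃ G} (hk : ∀ x y, Commute (k x) (k y) ↔ Commute x y)
include hk

omit [Finite G] in
theorem mem3 {x y z g : L} : k g ∈ centralizer {k x} ⊓ centralizer {k y} ⊓ centralizer {k z} ↔
    g * x = x * g ∧ g * y = y * g ∧ g * z = z * g := by
  simp only [Subgroup.mem_inf, mem_centralizer_singleton_iff, and_assoc]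
  exact and_congr (hk _ _) (and_congr (hk _ _) (hk _ _))

omit [Finite G] in
theorem cnt (x y z : L) : Nat.card (centralizer {k x} ⊓ centralizer {k y} ⊓ centralizer {k z} :
    Subgroup G) = Nat.card (centralizer {x} ⊓ centralizer {y} ⊓ centralizer {z} : Subgroup L) :=
  (Nat.card_congr (k.subtypeEquiv fun g => by
    simp only [mem3 hk, Subgroup.mem_inf, mem_centralizer_singleton_iff, and_assoc])).symm

theorem triv (z : G) (h1 : Commute z (k a)) (h2 : Commute z (k b)) (h3 : Commute z (k v)) : z = 1 :=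
  mem_bot.mp ((card_eq_one.mp ((cnt hk a b v).trans n4)).le ⟨⟨mem_centralizer_singleton_iff.mpr h1,
    mem_centralizer_singleton_iff.mpr h2⟩, mem_centralizer_singleton_iff.mpr h3⟩)

theorem side : orderOf (k a) = 3 ∧ k s * k b * (k s)⁻¹ = (k b)⁻¹ ∧
    ∃ y, Commute y (k a) ∧ ⁅y, k b⁆ = k a ∧ Commute y (k v) := by
  have o : ∀ {g x y z u : L}, Nat.card (centralizer {x} ⊓ centralizer {y} ⊓ centralizer {z} :
      Subgroup L) = 3 → g * x = x * g ∧ g * y = y * g ∧ g * z = z * g → g * u ≠ u * g →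
      orderOf (k g) = 3 := fun {g x y z u} h1 h2 h3 => orderOf_eq_prime
    (orderOf_dvd_iff_pow_eq_one.mp ((Subgroup.orderOf_dvd_natCard _ ((mem3 hk).mpr h2)).trans
      ((cnt hk x y z).trans h1).dvd)) fun e => h3 ((hk g u).mp (e ▸ Commute.one_left _))
  have a3 := o (g := a) (u := t) n2 (by decide +kernel) (by decide +kernel)
  have b3 := o (g := b) (u := s) n3 (by decide +kernel) (by decide +kernel)
  refine ⟨a3, ?_, ?_⟩
  · let D := centralizer {k a} ⊓ centralizer {k t} ⊓ centralizer {k t}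
    have bD : k b ∈ D := (mem3 hk).mpr (by decide +kernel)
    have h2 : ((zpowers (k b)).subgroupOf D).index = 2 := by
      have := ((zpowers (k b)).subgroupOf D).index_mul_card
      rw [Nat.card_congr (subgroupOfEquivOfLe (zpowers_le.mpr bD)).toEquiv, Nat.card_zpowers, b3,
        (cnt hk a t t).trans n5] at this
      omega
    obtain ⟨i, hi⟩ := (mem_zpowers_iff_xp b3).mp ((normal_of_index_eq_two h2).conj_mem ⟨_, bD⟩
      (mem_zpowers _) ⟨k s, (mem3 hk).mpr (by decide +kernel)⟩)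
    change _ = k s * k b * (k s)⁻¹ at hi
    obtain rfl | rfl | rfl := (by decide : ∀ i : ZMod 3, i = 0 ∨ i = 1 ∨ i = -1) i
    · simp [show k b = 1 by simpa using hi.symm] at b3
    · rw [xp_one b3, eq_mul_inv_iff_mul_eq] at hi
      exact absurd ((hk b s).mp hi) (by decide +kernel : b * s ≠ s * b)
    · rw [← hi, xp_neg b3, xp_one b3]
  · obtain ⟨⟨y, ⟨ya, yv⟩, _⟩, y3⟩ := exists_prime_orderOf_dvd_card' (G := (centralizer {k a} ⊓
      centralizer {k v} ⊓ centralizer {k v} : Subgroup G)) 3 (((cnt hk a v v).trans n6) ▸ by decide)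
    rw [← orderOf_coe] at y3
    replace ya : Commute y (k a) := mem_centralizer_singleton_iff.mp ya
    replace yv : Commute y (k v) := mem_centralizer_singleton_iff.mp yv
    have ba : Commute (k b) (k a) := (hk _ _).mpr (by decide +kernel : b * a = a * b)
    obtain ⟨i, hi⟩ := (mem_zpowers_iff_xp a3).mp (comm_mem54 (by
      simpa using (cnt hk a a a).trans n1) a3 ya ba y3 b3)
    obtain rfl | rfl | rfl := (by decide : ∀ i : ZMod 3, i = 0 ∨ i = 1 ∨ i = -1) i
    · simp [triv hk y ya (commutatorElement_eq_one_iff_commute.mp (hi.symm.trans (xp_zero _))) yv] at y3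
    · exact ⟨y, ya, hi.symm.trans (xp_one a3), yv⟩
    · rw [xp_neg a3, xp_one a3] at hi
      refine ⟨y ^ 2, ya.pow_left 2, ?_, yv.pow_left 2⟩
      have := Rel3.pow ⟨hi.symm, ya.symm.inv_left, ba.symm.inv_left⟩ 2 1
      rw [pow_one] at this
      rw [this, inv_pow, inv_eq_iff_mul_eq_one, ← pow_succ, show 2 * 1 + 1 = _ from a3.symm,
        pow_orderOf_eq_one]

omit [Finite G] in
theorem cj (u : L) (x y : L) : Commute (((MulAut.conj u).toEquiv.trans k) x)
    (((MulAut.conj u).toEquiv.trans k) y) ↔ Commute x y :=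
  (hk _ _).trans (Commute.conj_iff u)

theorem exists_fk : ∃ f : M3 →* G, Function.Injective f ∧
    (∀ g, g * k v = k v * g → ∃ m, f m = g) ∧ f T = k v ∧ f S = k s := by
  obtain ⟨a3, sb, y, ya, yb, yv⟩ := side hk
  obtain ⟨b3, ta, z, zb, za, zv⟩ := side (cj hk w)
  simp only [Equiv.trans_apply, MulEquiv.toEquiv_eq_coe, EquivLike.coe_coe, MulAut.conj_apply,
    show w * a * w⁻¹ = b by decide +kernel, show w * b * w⁻¹ = a by decide +kernel,
    show w * s * w⁻¹ = t by decide +kernel, show w * v * w⁻¹ = v by decide +kernel]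
    at b3 ta zb za zv
  have cm : ∀ x y : L, x * y = y * x → Commute (k x) (k y) := fun x y => (hk x y).mpr
  have sa := mul_inv_eq_iff_eq_mul.mpr (cm s a (by decide +kernel)).eq
  have tb := mul_inv_eq_iff_eq_mul.mpr (cm t b (by decide +kernel)).eq
  have e : k s * k t = k v := by
    obtain ⟨g, hg⟩ := k.surjective (k s * k t)
    have h1 := (hk g v).mp (hg ▸ (cm s v (by decide +kernel)).mul_left (cm t v (by decide +kernel)))
    have h2 := (hk g s).mp (hg ▸ (Commute.refl _).mul_left (cm t s (by decide +kernel)))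
    have h3 : ¬ Commute g a := fun e => absurd ((hk t a).mp (inv_mul_cancel_left (k s) (k t) ▸
      (cm s a (by decide +kernel)).inv_left.mul_left (hg ▸ cm g a e)))
      (by decide +kernel : t * a ≠ a * t)
    have h4 : ¬ Commute g b := fun e => absurd ((hk s b).mp (mul_inv_cancel_right (k s) (k t) ▸
      (hg ▸ cm g b e).mul_left (cm t b (by decide +kernel)).inv_left))
      (by decide +kernel : s * b ≠ b * s)
    obtain ⟨p, hp⟩ := parV g.1 g.2 (congrArg Subtype.val h1)
    rw [← hg, show g = v from Subtype.ext (hp ▸ (by decide +kernel : ∀ p, (mV p).det = 1 →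
      mV p * s = s * mV p → mV p * a ≠ a * mV p → mV p * b ≠ b * mV p → mV p = v) p (hp ▸ g.2)
      (hp ▸ congrArg Subtype.val h2) (hp ▸ fun e => h3 (Subtype.ext e))
      (hp ▸ fun e => h4 (Subtype.ext e)))]
  exact exists_f a3 b3 (cm a b (by decide +kernel)) (triv hk) (by simpa using (cnt hk v v v).trans n7)
    sa sb (cm s v (by decide +kernel))
    (by rw [← e, mul_inv_rev, mul_assoc, mul_assoc, ← mul_assoc (k a), ← mul_assoc (k t),
      ← mul_assoc (k t), ta, ← mul_assoc, ← conj_inv, sa])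
    (by rw [← e, mul_inv_rev, mul_assoc, mul_assoc, ← mul_assoc (k b), ← mul_assoc (k t),
      ← mul_assoc (k t), tb, ← mul_assoc, sb]) ya yb yv zb za zv

theorem iso (hG : Nat.card G = 5616) : Nonempty (G ≃* PSL(3, ZMod 3)) := by
  obtain ⟨f, f1, f2, f3, f4⟩ := exists_fk hk
  obtain ⟨f', -, -, f5, -⟩ := exists_fk (cj hk w')
  refine WG.psl3 ⟨f1, f3 ▸ f2, fun K hK => ?_⟩ hG
  have hn := normal_of_index_eq_two hK
  have h0 : ∀ f : M3 →* G, f T ∈ K := fun f => by
    rw [show T = (R ^ 2) ^ 2 by decide +kernel, map_pow]; exact sq_mem_of_index_two hK _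
  have hS : f S ∈ K := by
    rw [f4, ← show w' * v * w'⁻¹ = s by decide +kernel]; exact f5 ▸ h0 f'
  have h1 : ∀ m : M3, m * m = 1 → f m ∈ K := fun m hm => by
    by_cases e : m = 1
    · rw [e, map_one]; exact one_mem _
    by_cases e' : m = T
    · exact e' ▸ h0 f
    obtain ⟨n, rfl⟩ := invol_conj m hm e e'
    rw [map_mul, map_mul, map_inv]
    exact hn.conj_mem _ hS _
  have h2 : f.range ≤ K := by
    rintro _ ⟨m, rfl⟩
    obtain ⟨a, ha, e | e⟩ := gen m
    · simpa using (K.mul_mem_cancel_left (h1 a ha)).mp (map_mul f a m ▸ h1 _ e)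
    · have := h1 _ e
      rw [map_mul, map_mul] at this
      exact (K.mul_mem_cancel_left (mul_mem (h1 a ha) hS)).mp this
  have h3 := card_dvd_of_le h2
  have h4 := K.index_mul_card
  rw [← Nat.card_congr (MonoidHom.ofInjective f1).toEquiv, card_eq] at h3
  rw [hK, hG] at h4
  omega

end L33

end Cfsg.Agent.H19
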